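import Cfsg.Agent.SThreeFree.K.Bound

/-!
The commutator form of the bound, by passing to the dual module.
-/

set_option autoImplicit false
set_option linter.unusedSectionVars false
set_option linter.style.haveILetI false

namespace CfsgLib.SThreeFree.K

open Subgroup
open scoped commutatorElement

universe u

variable {Γ : Type u} [Group Γ] [Finite Γ]

/-- `|A|² ≤ |[M, A]|`. -/
theorem k_bound_commutator {G : Type u} [Group G] [Finite G] (f : G →* Γ) (hf : Function.Injective f)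
    (M : Subgroup Γ) (hM : Cfsg.IsElementaryAbelian 2 M)
    (hnorm : f.range ≤ normalizer (M : Set Γ)) (hfaith : f.range ⊓ centralizer (M : Set Γ) = ⊥)
    (hO : Cfsg.pCore 2 G = ⊥) (h3 : ¬ CfsgLib.ZJ.Inverts 3 G)
    (hc : Cfsg.IsCompositionKGroupWith Cfsg.IsSuzukiOrPSL2OddPowerThree G)
    (A : Subgroup G) (hA : Cfsg.IsElementaryAbelian 2 A) :
    Nat.card A ^ 2 ≤ Nat.card ↥⁅M, A.map f⁆ := by
  classical
  letI : CommGroup M := { (inferInstance : Group M) with mul_comm := hM.1.is_comm.comm }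
  haveI : HasEnoughRootsOfUnity ℂ (Monoid.exponent M) :=
    haveI : NeZero (Monoid.exponent M) := ⟨Monoid.exponent_ne_zero_of_finite⟩
    inferInstance
  let β : G → (M ≃* M) := fun g =>
    { toFun := fun m => ⟨f g * m * (f g)⁻¹, (mem_normalizer_iff.1 (hnorm ⟨g, rfl⟩) _).1 m.2⟩
      invFun := fun m => ⟨(f g)⁻¹ * m * f g, (mem_normalizer_iff''.1 (hnorm ⟨g, rfl⟩) _).1 m.2⟩
      left_inv := fun m => Subtype.ext (by simp [mul_assoc])
      right_inv := fun m => Subtype.ext (by simp [mul_assoc])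
      map_mul' := fun m n => Subtype.ext (by simp [mul_assoc]) }
  have hβmul : ∀ (g h : G) (m : M), β (g * h) m = β g (β h m) := fun g h m =>
    Subtype.ext (by simp [β, mul_assoc])
  have hβone : ∀ m : M, β 1 m = m := fun m => Subtype.ext (by simp [β])
  let ρ : G →* MulAut (M →* ℂˣ) :=
    { toFun := fun g =>
        { toFun := fun χ => χ.comp (β g⁻¹).toMonoidHom
          invFun := fun χ => χ.comp (β g).toMonoidHom
          left_inv := fun χ => MonoidHom.ext fun m => by
            show χ (β g⁻¹ (β g m)) = χ m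
            rw [← hβmul, inv_mul_cancel, hβone]
          right_inv := fun χ => MonoidHom.ext fun m => by
            show χ (β g (β g⁻¹ m)) = χ m
            rw [← hβmul, mul_inv_cancel, hβone]
          map_mul' := fun χ ψ => rfl }
      map_one' := MulEquiv.ext fun χ => MonoidHom.ext fun m => by
        show χ (β 1⁻¹ m) = χ m
        rw [inv_one, hβone]
      map_mul' := fun g h => MulEquiv.ext fun χ => MonoidHom.ext fun m => by
        show χ (β (g * h)⁻¹ m) = χ (β h⁻¹ (β g⁻¹ m))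
        rw [mul_inv_rev, hβmul] }
  obtain ⟨edual⟩ := CommGroup.monoidHom_mulEquiv_of_hasEnoughRootsOfUnity M ℂ
  haveI : Finite (M →* ℂˣ) := Finite.of_equiv _ edual.symm.toEquiv
  haveI : Finite ((M →* ℂˣ) ⋊[ρ] G) := Finite.of_equiv _ SemidirectProduct.equivProd.symm
  set il : (M →* ℂˣ) →* (M →* ℂˣ) ⋊[ρ] G := SemidirectProduct.inl with hil
  set ir : G →* (M →* ℂˣ) ⋊[ρ] G := SemidirectProduct.inr with hir
  have hconj : ∀ (g : G) (χ : M →* ℂˣ), ir g * il χ * (ir g)⁻¹ = il (ρ g χ) := fun g χ => by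
    rw [hil, hir, ← map_inv, SemidirectProduct.inl_aut]
  have hMe : Cfsg.IsElementaryAbelian 2 il.range := by
    refine ⟨⟨⟨?_⟩⟩, ?_⟩
    · rintro ⟨_, u, rfl⟩ ⟨_, w, rfl⟩
      exact Subtype.ext (by simp only [MulMemClass.coe_mul]; rw [← map_mul, ← map_mul]; exact congrArg il (MonoidHom.ext fun m => mul_comm (u m) (w m)))
    · rintro _ ⟨χ, rfl⟩
      rw [← map_pow]
      convert map_one il
      refine MonoidHom.ext fun m => ?_
      rw [MonoidHom.pow_apply, ← map_pow, show m ^ 2 = 1 from Subtype.ext (hM.2 _ m.2)]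
      simp
  have hn : ir.range ≤ normalizer (il.range : Set ((M →* ℂˣ) ⋊[ρ] G)) := by
    rintro _ ⟨g, rfl⟩
    refine mem_normalizer_fintype ?_
    rintro _ ⟨χ, rfl⟩
    exact ⟨ρ g χ, (hconj g χ).symm⟩
  have hfix : ∀ (g : G) (χ : M →* ℂˣ), ir g * il χ = il χ * ir g ↔ ρ g χ = χ := by
    intro g χ
    rw [← mul_inv_eq_iff_eq_mul, hconj]
    exact ⟨fun h => SemidirectProduct.inl_injective h, fun h => by rw [h]⟩
  have hfaith' : ir.range ⊓ centralizer (il.range : Set ((M →* ℂˣ) ⋊[ρ] G)) = ⊥ := by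
    rw [eq_bot_iff]
    rintro _ ⟨⟨g, rfl⟩, hg⟩
    have hg1 : ∀ χ : M →* ℂˣ, χ.comp (β g⁻¹).toMonoidHom = χ := fun χ =>
      (hfix g χ).1 (mem_centralizer_iff.1 hg (il χ) ⟨χ, rfl⟩).symm
    have hfix' : ∀ m : M, β g⁻¹ m = m := by
      intro m
      rw [← mul_inv_eq_one]
      by_contra hne
      obtain ⟨χ, hχ⟩ := CommGroup.exists_apply_ne_one_of_hasEnoughRootsOfUnity M ℂ hne
      refine hχ ?_
      rw [map_mul, map_inv, mul_inv_eq_one]
      exact DFunLike.congr_fun (hg1 χ) m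
    have h1 : f g⁻¹ ∈ f.range ⊓ centralizer (M : Set Γ) := by
      refine ⟨⟨g⁻¹, rfl⟩, mem_centralizer_iff.2 fun m hm => ?_⟩
      exact (mul_inv_eq_iff_eq_mul.1 (congrArg Subtype.val (hfix' ⟨m, hm⟩))).symm
    rw [hfaith, mem_bot] at h1
    have hg' : g = 1 := inv_eq_one.1 (hf (h1.trans (map_one f).symm))
    rw [hg', map_one]
    exact one_mem _
  have key := k_bound ir SemidirectProduct.inr_injective il.range hMe hn hfaith' hO h3 hc A hA
  refine key.trans (le_of_eq ?_)
  -- the fixed points in the dual are the annihilator of the commutator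
  have hUM : ⁅M, A.map f⁆ ≤ M := by
    refine commutator_le.2 fun m hm a ha => ?_
    obtain ⟨x, -, rfl⟩ := mem_map.1 ha
    rw [commutatorElement_def, show m * f x * m⁻¹ * (f x)⁻¹ = m * (f x * m⁻¹ * (f x)⁻¹) by group]
    exact M.mul_mem hm ((mem_normalizer_iff.1 (hnorm ⟨x, rfl⟩) _).1 (M.inv_mem hm))
  set U := (⁅M, A.map f⁆).subgroupOf M with hU
  set R := MonoidHom.domRestrictHom U ℂˣ with hR
  have hkey : (il.range ⊓ centralizer ((A.map ir : Subgroup ((M →* ℂˣ) ⋊[ρ] G)) :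
      Set ((M →* ℂˣ) ⋊[ρ] G))) = R.ker.map il := by
    have hcr : ∀ (m : M) (a : G), ((m * (β a⁻¹ m)⁻¹ : M) : Γ) = ⁅(m : Γ), f a⁻¹⁆ := fun m a => by
      simp [β, commutatorElement_def, mul_assoc]
    ext x
    constructor
    · rintro ⟨⟨χ, rfl⟩, hχ⟩
      refine mem_map_of_mem il (MonoidHom.ext fun u => ?_)
      show χ (u : M) = 1
      have hle : ⁅M, A.map f⁆ ≤ χ.ker.map M.subtype := by
        refine commutator_le.2 fun m hm a ha => ?_
        obtain ⟨x, hx, rfl⟩ := mem_map.1 ha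
        refine ⟨⟨m, hm⟩ * (β x ⟨m, hm⟩)⁻¹, ?_, ?_⟩
        · show χ _ = 1
          rw [map_mul, map_inv, mul_inv_eq_one]
          have h1 := (hfix x⁻¹ χ).1
            (mem_centralizer_iff.1 hχ (ir x⁻¹) (mem_map_of_mem ir (A.inv_mem hx)))
          have h2 := DFunLike.congr_fun h1 ⟨m, hm⟩
          change χ (β x⁻¹⁻¹ ⟨m, hm⟩) = χ ⟨m, hm⟩ at h2
          rw [inv_inv] at h2
          exact h2.symm
        · rw [commutatorElement_def]
          simp [β, mul_assoc]
      obtain ⟨v, hv, hve⟩ := hle (mem_subgroupOf.1 u.2)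
      rw [show ((u : U) : M) = v from Subtype.ext hve.symm]
      exact hv
    · rintro ⟨χ, hχ, rfl⟩
      refine ⟨⟨χ, rfl⟩, mem_centralizer_iff.2 ?_⟩
      rintro _ ⟨a, ha, rfl⟩
      refine (hfix a χ).2 (MonoidHom.ext fun m => ?_)
      show χ (β a⁻¹ m) = χ m
      have hmem : m * (β a⁻¹ m)⁻¹ ∈ U := by
        rw [hU, mem_subgroupOf, hcr]
        exact commutator_mem_commutator m.2 (mem_map_of_mem f (A.inv_mem ha))
      have h1 := DFunLike.congr_fun (MonoidHom.mem_ker.1 hχ) ⟨_, hmem⟩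
      change χ (m * (β a⁻¹ m)⁻¹) = 1 at h1
      rw [map_mul, map_inv, mul_inv_eq_one] at h1
      exact h1.symm
  unfold idx
  rw [hkey, MonoidHom.range_eq_map il,
    relIndex_map_map_of_injective _ _ SemidirectProduct.inl_injective, relIndex_top_right,
    index_ker, MonoidHom.range_eq_top_of_surjective R
      (MonoidHom.domRestrict_surjective ℂ U), card_top]
  haveI : Finite U := inferInstance
  haveI : HasEnoughRootsOfUnity ℂ (Monoid.exponent U) :=
    haveI : NeZero (Monoid.exponent U) := ⟨Monoid.exponent_ne_zero_of_finite⟩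
    inferInstance
  obtain ⟨eU⟩ := CommGroup.monoidHom_mulEquiv_of_hasEnoughRootsOfUnity U ℂ
  rw [Nat.card_congr eU.toEquiv, Nat.card_congr (subgroupOfEquivOfLe hUM).toEquiv]

end CfsgLib.SThreeFree.K
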