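import Cfsg.Agent.SThreeFree.K.SubE

/-!
The factorizations with `Ĵ`.
-/

set_option autoImplicit false
set_option linter.unusedSectionVars false
set_option linter.style.haveILetI false

namespace CfsgLib.SThreeFree.K

open Subgroup CfsgLib.Thompson
open scoped commutatorElement

universe u

variable {G : Type u} [Group G] [Finite G]

/-- The bound survives adding fixed points. -/
theorem idx_le_of_sup_fixed {W D R : Subgroup G} (hW : ∀ a ∈ W, ∀ b ∈ W, a * b = b * a)
    (hgen : D ⊔ (W ⊓ centralizer (R : Set G)) = W) : idx W R ≤ idx D R := by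
  set L := W ⊓ centralizer (R : Set G) with hL
  have hDW : D ≤ W := le_sup_left.trans hgen.le
  have hn : D ≤ normalizer (L : Set G) := fun d hd => mem_normalizer_fintype fun l hl => by
    rw [hW d (hDW hd) l hl.1, mul_inv_cancel_right]; exact hl
  have c1 := CfsgLib.Solvable.card_sup_mul_card_inf (A := D) (K := L) hn
  rw [hgen] at c1
  have hDL : D ⊓ L = D ⊓ centralizer (R : Set G) := by
    rw [hL, ← inf_assoc, inf_eq_left.2 hDW]
  rw [hDL] at c1
  have c2 := card_relIndex (inf_le_left : L ≤ W)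
  have c3 := card_relIndex (inf_le_left : D ⊓ centralizer (R : Set G) ≤ D)
  refine le_of_eq (Nat.eq_of_mul_eq_mul_left
    (Nat.mul_pos (Nat.card_pos (α := L)) (Nat.card_pos (α := ↥(D ⊓ centralizer (R : Set G))))) ?_)
  calc Nat.card L * Nat.card ↥(D ⊓ centralizer (R : Set G)) * idx W R
      = Nat.card L * L.relIndex W * Nat.card ↥(D ⊓ centralizer (R : Set G)) := by rw [idx]; ring
    _ = Nat.card D * Nat.card L := by rw [c2, c1]
    _ = _ := by rw [← c3, idx]; ring

/-- Elements stabilising a central series centralise. -/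
theorem stab_le_centralizer (S : Sylow 2 G) {Z₁ : Subgroup G}
    (hZ₁ : Z₁ ≤ centralizer ((S : Subgroup G) : Set G)) (W : Subgroup G) [W.Normal]
    (hW : W = normalClosure (Z₁ : Set G)) (hW2 : IsPGroup 2 W) (K : Subgroup G) [K.Normal]
    (hK : ∀ k ∈ K, ∀ w ∈ W, k * w * k⁻¹ * w⁻¹ ∈ W ⊓ center G) :
    K ≤ centralizer (W : Set G) := by
  classical
  haveI : Fact (Nat.Prime 2) := ⟨Nat.prime_two⟩
  obtain ⟨N, hN⟩ := IsPGroup.iff_card.1 hW2
  set C := centralizer (W : Set G)
  set C' := C ⊓ K with hC'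
  have hpow : ∀ k ∈ K, k ^ 2 ^ N ∈ C' := by
    intro k hk
    refine ⟨mem_centralizer_iff.2 fun w hw => ?_, pow_mem hk _⟩
    set c := k * w * k⁻¹ * w⁻¹ with hcdef
    have hc := hK k hk w hw
    have hkc : k * c * k⁻¹ = c := by rw [mem_center_iff.1 hc.2 k, mul_inv_cancel_right]
    have hstep : k * w * k⁻¹ = c * w := by rw [hcdef, inv_mul_cancel_right]
    have hit : ∀ i : ℕ, k ^ i * w * (k ^ i)⁻¹ = c ^ i * w := by
      intro i
      induction i with
      | zero => simp
      | succ i ih =>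
        have h1 : k ^ (i + 1) * w * (k ^ (i + 1))⁻¹ = k * (k ^ i * w * (k ^ i)⁻¹) * k⁻¹ := by
          rw [pow_succ']; group
        rw [h1, ih, show k * (c ^ i * w) * k⁻¹ = (k * c * k⁻¹) ^ i * (k * w * k⁻¹) by
          rw [conj_pow]; group, hkc, hstep, ← mul_assoc, ← pow_succ]
    have hcN : c ^ 2 ^ N = 1 := by
      have := congrArg Subtype.val (pow_card_eq_one' (x := (⟨c, hc.1⟩ : W)))
      rw [hN] at this
      simpa using this
    have h := hit (2 ^ N)
    rw [hcN, one_mul] at h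
    exact (mul_inv_eq_iff_eq_mul.1 h).symm
  haveI hn : (C'.subgroupOf K).Normal := normal_subgroupOf
  obtain ⟨j, hj⟩ : ∃ j, C'.relIndex K = 2 ^ j := by
    have hp : IsPGroup 2 (↥K ⧸ C'.subgroupOf K) := fun x => by
      induction x using QuotientGroup.induction_on with
      | H k =>
        refine ⟨N, ?_⟩
        rw [← QuotientGroup.mk_pow]
        exact (QuotientGroup.eq_one_iff _).2 (mem_subgroupOf.2 (hpow k k.2))
    obtain ⟨j, hj⟩ := IsPGroup.iff_card.1 hp
    exact ⟨j, hj⟩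
  have hle := CfsgLib.PLocalCore.le_sup_sylow_inf (C := C') inf_le_right hj S
  have hfix : K ≤ centralizer (Z₁ : Set G) := hle.trans (sup_le
    (inf_le_left.trans (centralizer_le (by rw [hW]; exact subset_normalClosure)))
    (inf_le_left.trans (le_centralizer_iff.1 hZ₁)))
  rw [le_centralizer_iff, hW]
  haveI : (centralizer (K : Set G)).Normal := inferInstance
  exact normalClosure_le_normal (le_centralizer_iff.1 hfix)

/-- One step of the factorization with `Ĵ`. -/
theorem jhat_step (hchar : centralizer (Cfsg.pCore 2 G : Set G) ≤ Cfsg.pCore 2 G)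
    (hfree : ¬ CfsgLib.ZJ.Inverts 3 G) (hK : KAll G) (S : Sylow 2 G) (Z₁ : Subgroup G)
    (hZ₁ : Z₁ ≤ (S : Subgroup G) ⊓ centralizer ((S : Subgroup G) : Set G))
    (hsq : ∀ z ∈ Z₁, z * z ∈ center G) (x : G) :
    ∃ c ∈ centralizer (Z₁ : Set G),
      ∃ n ∈ normalizer (jHatIn (S : Subgroup G) : Set G), x = c * n := by
  classical
  haveI : Fact (Nat.Prime 2) := ⟨Nat.prime_two⟩
  haveI : Fact (Nat.Prime 3) := ⟨Nat.prime_three⟩
  set Q := Cfsg.pCore 2 G
  haveI hQn : Q.Normal := CfsgLib.Solvable.pCore_normal 2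
  have hQS : Q ≤ (S : Subgroup G) := CfsgLib.Fitting.pCore_le_sylow S
  have hZQ : Z₁ ≤ Q ⊓ centralizer (Q : Set G) := fun z hz => by
    have h1 : z ∈ centralizer (Q : Set G) := mem_centralizer_iff.2 fun q hq =>
      mem_centralizer_iff.1 (hZ₁ hz).2 q (hQS hq)
    exact ⟨hchar h1, h1⟩
  set W := normalClosure (Z₁ : Set G) with hW
  haveI hWn : W.Normal := normalClosure_normal
  have hWQ : W ≤ Q ⊓ centralizer (Q : Set G) := normalClosure_le_normal hZQ
  have hWc : ∀ a ∈ W, ∀ b ∈ W, a * b = b * a := fun a ha b hb =>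
    mem_centralizer_iff.1 (hWQ hb).2 a (hWQ ha).1
  have hW2 : IsPGroup 2 W := (CfsgLib.Solvable.isPGroup_pCore 2).to_le (hWQ.trans inf_le_left)
  have hWS : W ≤ (S : Subgroup G) := hWQ.trans (inf_le_left.trans hQS)
  have hZW : Z₁ ≤ W := subset_normalClosure
  set W₀ := W ⊓ center G with hW₀
  haveI hW₀n : W₀.Normal := inferInstance
  have hsqW : ∀ w ∈ W, w * w ∈ center G := by
    intro w hw
    rw [hW, normalClosure] at hw
    refine (closure_induction (p := fun w _ => w ∈ W ∧ w * w ∈ center G) ?_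
      ⟨one_mem _, by simp [one_mem]⟩ ?_ ?_ hw).2
    · intro y hy
      obtain ⟨z, hz, hy'⟩ := Group.mem_conjugatesOfSet_iff.1 hy
      obtain ⟨g, rfl⟩ := isConj_iff.1 hy'
      refine ⟨hWn.conj_mem z (hZW hz) g, ?_⟩
      rw [show g * z * g⁻¹ * (g * z * g⁻¹) = g * (z * z) * g⁻¹ by group,
        mem_center_iff.1 (hsq z hz) g, mul_inv_cancel_right]
      exact hsq z hz
    · rintro a b _ _ ⟨ha, ha2⟩ ⟨hb, hb2⟩
      refine ⟨W.mul_mem ha hb, ?_⟩
      rw [show a * b * (a * b) = a * (b * a) * b by group, hWc b hb a ha,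
        show a * (a * b) * b = (a * a) * (b * b) by group]
      exact (center G).mul_mem ha2 hb2
    · rintro a _ ⟨ha, ha2⟩
      refine ⟨W.inv_mem ha, ?_⟩
      rw [← mul_inv_rev]
      exact (center G).inv_mem ha2
  let D : Subgroup G :=
    { carrier := {w | w ∈ W ∧ w * w = 1}
      one_mem' := ⟨one_mem _, one_mul 1⟩
      mul_mem' := fun {a b} ha hb => ⟨W.mul_mem ha.1 hb.1, by
        rw [show a * b * (a * b) = a * (b * a) * b by group, hWc b hb.1 a ha.1,
          show a * (a * b) * b = (a * a) * (b * b) by group, ha.2, hb.2, one_mul]⟩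
      inv_mem' := fun {a} ha => ⟨W.inv_mem ha.1, by rw [← mul_inv_rev, ha.2, inv_one]⟩ }
  have hDW : D ≤ W := fun w hw => hw.1
  have hDel : Cfsg.IsElementaryAbelian 2 D :=
    ⟨⟨⟨fun a b => Subtype.ext (hWc _ a.2.1 _ b.2.1)⟩⟩, fun a ha => by rw [pow_two, ha.2]⟩
  haveI hDn : D.Normal := ⟨fun w hw g => ⟨hWn.conj_mem w hw.1 g, by
    rw [show g * w * g⁻¹ * (g * w * g⁻¹) = g * (w * w) * g⁻¹ by group, hw.2, mul_one,
      mul_inv_cancel]⟩⟩
  have hWDZ : D ⊔ Z₁ = W := by
    refine le_antisymm (sup_le hDW hZW) ?_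
    show closure (Group.conjugatesOfSet (Z₁ : Set G)) ≤ D ⊔ Z₁
    rw [closure_le]
    intro y hy
    obtain ⟨z, hz, hy'⟩ := Group.mem_conjugatesOfSet_iff.1 hy
    obtain ⟨g, rfl⟩ := isConj_iff.1 hy'
    have hd : g * z * g⁻¹ * z⁻¹ ∈ D := by
      refine ⟨W.mul_mem (hWn.conj_mem z (hZW hz) g) (W.inv_mem (hZW hz)), ?_⟩
      have hcomm := hWc _ (W.inv_mem (hZW hz)) _ (hWn.conj_mem z (hZW hz) g)
      calc g * z * g⁻¹ * z⁻¹ * (g * z * g⁻¹ * z⁻¹)
          = g * z * g⁻¹ * (z⁻¹ * (g * z * g⁻¹)) * z⁻¹ := by group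
        _ = g * z * g⁻¹ * (g * z * g⁻¹ * z⁻¹) * z⁻¹ := by rw [hcomm]
        _ = g * (z * z) * g⁻¹ * (z * z)⁻¹ := by group
        _ = 1 := by
          rw [mem_center_iff.1 (hsq z hz) g, mul_inv_cancel_right, mul_inv_cancel]
    have := mul_mem_sup hd hz
    rwa [inv_mul_cancel_right] at this
  set C := centralizer (W : Set G) with hC
  haveI hCn : C.Normal := inferInstance
  -- the quotient module
  set q := QuotientGroup.mk' W₀ with hq
  have hqs : Function.Surjective q := QuotientGroup.mk'_surjective W₀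
  set Wb := W.map q with hWb
  haveI : Wb.Normal := hWn.map q hqs
  have hWbe : Cfsg.IsElementaryAbelian 2 Wb := by
    refine ⟨⟨⟨?_⟩⟩, ?_⟩
    · rintro ⟨_, a, ha, rfl⟩ ⟨_, b, hb, rfl⟩
      exact Subtype.ext (show q a * q b = q b * q a by rw [← map_mul, hWc a ha b hb, map_mul])
    · rintro _ ⟨w, hw, rfl⟩
      rw [← map_pow, pow_two]
      exact (QuotientGroup.eq_one_iff _).2 ⟨W.mul_mem hw hw, hsqW w hw⟩
  have hgen : Wb = ⨆ T : Sylow 2 (G ⧸ W₀),
      Wb ⊓ centralizer ((T : Subgroup (G ⧸ W₀)) : Set (G ⧸ W₀)) := by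
    refine le_antisymm ?_ (iSup_le fun T => inf_le_left)
    rw [hWb, map_le_iff_le_comap]
    show closure (Group.conjugatesOfSet (Z₁ : Set G)) ≤ _
    rw [closure_le]
    intro y hy
    obtain ⟨z, hz, hy'⟩ := Group.mem_conjugatesOfSet_iff.1 hy
    obtain ⟨g, rfl⟩ := isConj_iff.1 hy'
    refine le_iSup (fun T : Sylow 2 (G ⧸ W₀) =>
      Wb ⊓ centralizer ((T : Subgroup (G ⧸ W₀)) : Set (G ⧸ W₀))) ((g • S).mapSurjective hqs)
      ⟨mem_map_of_mem q (hWn.conj_mem z (hZW hz) g), mem_centralizer_iff.2 ?_⟩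
    intro t ht
    obtain ⟨t, ht', rfl⟩ := mem_map.1 (show t ∈ ((g • S : Sylow 2 G) : Subgroup G).map q from ht)
    rw [Sylow.coe_subgroup_smul, mem_smul_pointwise_iff_exists] at ht'
    obtain ⟨s, hs, rfl⟩ := ht'
    rw [← map_mul, ← map_mul]
    congr 1
    show g * s * g⁻¹ * (g * z * g⁻¹) = g * z * g⁻¹ * (g * s * g⁻¹)
    rw [show g * s * g⁻¹ * (g * z * g⁻¹) = g * (s * z) * g⁻¹ by group,
      mem_centralizer_iff.1 (hZ₁ hz).2 s hs]
    group
  set K := (centralizer (Wb : Set (G ⧸ W₀))).comap q with hKdef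
  haveI : K.Normal := (inferInstance : (centralizer (Wb : Set (G ⧸ W₀))).Normal).comap q
  have hKC : K = C := by
    refine le_antisymm (stab_le_centralizer S (hZ₁.trans inf_le_right) W hW hW2 K ?_) ?_
    · intro k hk w hw
      refine (QuotientGroup.eq_one_iff (N := W₀) _).1 ?_
      show q (k * w * k⁻¹ * w⁻¹) = 1
      rw [map_mul, map_mul, map_mul, map_inv, map_inv,
        ← mem_centralizer_iff.1 hk (q w) (mem_map_of_mem q hw)]
      group
    · intro c hc
      refine mem_centralizer_iff.2 ?_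
      rintro _ ⟨w, hw, rfl⟩
      rw [← map_mul, ← map_mul, mem_centralizer_iff.1 hc w hw]
  have h3' : ¬ CfsgLib.ZJ.Inverts 3 (G ⧸ W₀) := fun h =>
    hfree (h.of_surjective (by norm_num) q hqs)
  -- the bound for `D`
  have hP : PProp (S : Subgroup G) D := by
    intro R hRS hR hn
    have hRZ : R ≤ centralizer (Z₁ : Set G) :=
      hRS.trans (le_centralizer_iff.1 (hZ₁.trans inf_le_right))
    have hDC : centralizer (D : Set G) ⊓ R = C ⊓ R := by
      refine le_antisymm (le_inf ?_ inf_le_right) (inf_le_inf_right R (centralizer_le hDW))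
      rw [hC, ← hWDZ, le_centralizer_iff, sup_le_iff]
      exact ⟨le_centralizer_iff.1 inf_le_left, le_centralizer_iff.1 (inf_le_right.trans hRZ)⟩
    have hcen : ∀ c ∈ R, c ∈ centralizer (D : Set G) → q c ∈ centralizer (Wb : Set (G ⧸ W₀)) :=
      fun c hcR hc => by
        have h : c ∈ C := (inf_le_left : C ⊓ R ≤ C) (hDC ▸ ⟨hc, hcR⟩)
        rw [← hKC] at h
        exact h
    have hmod : ElemMod Wb (R.map q) := by
      refine ⟨?_, ?_⟩
      · rw [← map_commutator, map_le_iff_le_comap]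
        exact fun c hc => hcen c (commutator_le_self R hc) (hR.1 hc)
      · rintro _ ⟨r, hr, rfl⟩
        rw [← map_pow]
        exact hcen _ (pow_mem hr 2) (hR.2 r hr)
    obtain ⟨b1, b2⟩ := k_section Wb hWbe hgen h3' (kAll_surjective hK q hqs) (R.map q) hmod
    have hρ : (centralizer (Wb : Set (G ⧸ W₀))).relIndex (R.map q) =
        (centralizer (D : Set G)).relIndex R := by
      rw [← relIndex_comap, ← hKdef, hKC, ← inf_relIndex_right C, ← hDC, inf_relIndex_right]
    rw [hρ] at b1 b2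
    set ρ := (centralizer (D : Set G)).relIndex R
    have hρ1 : 2 ≤ ρ := by
      have h0 : ρ ≠ 0 := index_ne_zero_of_finite
      have h1 : ρ ≠ 1 := fun h => hn (relIndex_eq_one.1 h)
      omega
    have hWR : D ⊔ (W ⊓ centralizer (R : Set G)) = W := by
      refine le_antisymm (sup_le hDW inf_le_left) ?_
      conv_lhs => rw [← hWDZ]
      exact sup_le_sup_left (le_inf hZW (le_centralizer_iff.1 hRZ)) D
    have hι : idx Wb (R.map q) ≤ idx D R := by
      refine le_trans ?_ (idx_le_of_sup_fixed hWc hWR)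
      have hle : (W ⊓ centralizer (R : Set G)).map q ≤
          Wb ⊓ centralizer ((R.map q : Subgroup (G ⧸ W₀)) : Set (G ⧸ W₀)) := by
        rintro _ ⟨w, hw, rfl⟩
        refine ⟨mem_map_of_mem q hw.1, mem_centralizer_iff.2 ?_⟩
        rintro _ ⟨a, ha, rfl⟩
        rw [← map_mul, ← map_mul, mem_centralizer_iff.1 hw.2 a ha]
      refine (relIndex_le_of_le_left hle index_ne_zero_of_finite).trans ?_
      rw [hWb, ← relIndex_comap]
      exact relIndex_le_of_le_left (le_comap_map q _) index_ne_zero_of_finite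
    have hcomm : Nat.card ↥⁅Wb, R.map q⁆ ≤ Nat.card ↥⁅D, R⁆ := by
      have hle : ⁅W, R⁆ ≤ ⁅D, R⁆ := by
        refine commutator_le.2 fun w hw r hr => ?_
        obtain ⟨d, hd, z, hz, rfl⟩ := mem_sup_of_normal_left.1 (hWDZ.ge hw)
        have hzr : z * r = r * z := mem_centralizer_iff.1 (hRZ hr) z hz
        have : ⁅d * z, r⁆ = ⁅d, r⁆ := by
          rw [commutatorElement_def, commutatorElement_def]
          calc d * z * r * (d * z)⁻¹ * r⁻¹ = d * (z * r) * z⁻¹ * d⁻¹ * r⁻¹ := by group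
            _ = d * r * d⁻¹ * r⁻¹ := by rw [hzr]; group
        rw [this]
        exact commutator_mem_commutator hd hr
      rw [hWb, ← map_commutator]
      exact (Nat.le_of_dvd Nat.card_pos (card_map_dvd _ q)).trans (card_le_of_le hle)
    refine ⟨?_, ?_⟩
    · calc ρ ^ 3 < ρ ^ 4 := Nat.pow_lt_pow_right (by omega) (by norm_num)
        _ = (ρ ^ 2) ^ 2 := by ring
        _ ≤ idx D R ^ 2 := Nat.pow_le_pow_left (b1.trans hι) 2
    · calc ρ < ρ ^ 2 := lt_self_pow₀ (by omega) (by norm_num)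
        _ ≤ _ := b2.trans hcomm
  obtain ⟨hJD, hDJ⟩ := thompson_le_centralizer (hDW.trans hWS) hDel hP
  -- every member lies in the centralizer
  have hmem : ∀ U ∈ eFam (S : Subgroup G), U ≤ C := by
    rintro U ⟨hUS, hE, hJ⟩
    have h1 := hE D (hDJ.trans hJ) (by rw [normalizer_eq_top (H := D)]; exact le_top) hDel
      (hP.mono hUS)
    rw [hC, ← hWDZ, le_centralizer_iff, sup_le_iff]
    exact ⟨h1, (hZ₁.trans inf_le_right).trans (centralizer_le hUS)⟩
  set P := (S : Subgroup G) ⊓ C with hPdef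
  have hJP : Cfsg.thompsonSubgroupOf 2 P = Cfsg.thompsonSubgroupOf 2 (S : Subgroup G) := by
    obtain ⟨U, hU⟩ := eFam_nonempty (S : Subgroup G)
    exact thompsonSubgroupOf_eq_of_between inf_le_left
      (le_inf (thompsonSubgroupOf_le _) (hU.2.2.trans (hmem U hU)))
  have hfam : eFam P = eFam (S : Subgroup G) := by
    ext U
    exact ⟨fun h => ⟨h.1.trans inf_le_left, h.2.1, hJP ▸ h.2.2⟩,
      fun h => ⟨le_inf h.1 (hmem U h), h.2.1, hJP.symm ▸ h.2.2⟩⟩
  have hJH : jHatIn P = jHatIn (S : Subgroup G) := by rw [jHatIn, hfam, ← jHatIn]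
  -- Frattini
  have hidx : ¬ 2 ∣ (P.subgroupOf C).index := by
    change ¬ 2 ∣ P.relIndex C
    rw [inf_relIndex_right]
    exact fun hd => S.not_dvd_index
      (hd.trans (CfsgLib.PLocalCore.relIndex_dvd_index_of_normal_right (S : Subgroup G) C))
  have hpg : IsPGroup 2 (P.subgroupOf C) := (S.2.to_le inf_le_left).comap_subtype
  have h1 := Sylow.normalizer_sup_eq_top (hpg.toSylow hidx)
  rw [show (hpg.toSylow hidx : Subgroup C) = P.subgroupOf C from rfl,
    subgroupOf_map_subtype, inf_eq_left.2 (inf_le_right : P ≤ C)] at h1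
  obtain ⟨c, hc, n, hn, rfl⟩ := mem_sup_of_normal_left.1
    (show x ∈ C ⊔ normalizer (P : Set G) by rw [sup_comm, h1]; exact mem_top x)
  refine ⟨c, centralizer_le hZW hc, n, ?_, rfl⟩
  have hPn : P.map (MulAut.conj n).toMonoidHom = P := by
    ext y
    constructor
    · rintro ⟨w, hw, rfl⟩
      exact (mem_normalizer_iff.1 hn w).1 hw
    · intro hy
      exact ⟨n⁻¹ * y * n, (mem_normalizer_iff''.1 hn y).1 hy, by simp [mul_assoc]⟩
  have h := jHatIn_map (MulAut.conj n).toMonoidHom (MulAut.conj n).injective P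
  rw [hPn, hJH] at h
  refine mem_normalizer_fintype fun y hy => ?_
  rw [h]
  exact ⟨y, hy, by simp⟩

/-- `G = C(Z(S)) N(Ĵ(S))`. -/
theorem center_jhat_factor (hchar : centralizer (Cfsg.pCore 2 G : Set G) ≤ Cfsg.pCore 2 G)
    (hfree : ¬ Cfsg.Involves (Equiv.Perm (Fin 4)) G) (hK : KAll G) (S : Sylow 2 G) (g : G) :
    ∃ c ∈ centralizer (((S : Subgroup G) ⊓ centralizer ((S : Subgroup G) : Set G) : Subgroup G)
        : Set G),
      ∃ n ∈ normalizer (jHatIn (S : Subgroup G) : Set G), g = c * n := by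
  haveI : Fact (Nat.Prime 2) := ⟨Nat.prime_two⟩
  have hinv := not_inverts_of_free hchar hfree
  set Z := (S : Subgroup G) ⊓ centralizer ((S : Subgroup G) : Set G) with hZ
  obtain ⟨N, hN⟩ := IsPGroup.iff_card.1 (S.2.to_le (inf_le_left : Z ≤ _))
  suffices key : ∀ i ≤ N, ∀ g : G,
      ∃ c ∈ centralizer (powCenter (S : Subgroup G) (N - i) : Set G),
      ∃ n ∈ normalizer (jHatIn (S : Subgroup G) : Set G), g = c * n by
    obtain ⟨c, hc, n, hn, he⟩ := key N le_rfl g
    have hle : Z ≤ powCenter (S : Subgroup G) (N - N) := fun z hz => ⟨z, hz, by simp⟩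
    exact ⟨c, centralizer_le hle hc, n, hn, he⟩
  intro i hi
  induction i with
  | zero =>
    intro g
    refine ⟨g, mem_centralizer_iff.2 ?_, 1, one_mem _, (mul_one g).symm⟩
    rintro _ ⟨w, hw, rfl⟩
    have h : w ^ 2 ^ N = 1 := by
      have := congrArg Subtype.val
        (orderOf_dvd_iff_pow_eq_one.1 (orderOf_dvd_natCard (⟨w, hw⟩ : ↥Z)))
      rwa [hN, SubmonoidClass.coe_pow, OneMemClass.coe_one] at this
    rw [Nat.sub_zero, h, one_mul, mul_one]
  | succ i ih =>
    intro g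
    obtain ⟨c, hc, n, hn, rfl⟩ := ih (by omega) g
    set X := centralizer (powCenter (S : Subgroup G) (N - i) : Set G) with hX
    have hSX : (S : Subgroup G) ≤ X := fun s hs => mem_centralizer_iff.2 fun z hz => by
      obtain ⟨w, hw, rfl⟩ := hz
      exact ((show Commute s w from mem_centralizer_iff.1 hw.2 s hs).pow_right _).symm.eq
    set S' : Sylow 2 X := S.subtype hSX
    have hS' : (S' : Subgroup X).map X.subtype = (S : Subgroup G) := by
      rw [show (S' : Subgroup X) = (S : Subgroup G).subgroupOf X from rfl,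
        map_subgroupOf_eq_of_le hSX]
    set j := N - (i + 1) with hj
    have hji : N - i = j + 1 := by omega
    set P := powCenter (S : Subgroup G) j with hP
    have hPZ : P ≤ Z := by
      rintro _ ⟨w, hw, rfl⟩
      exact pow_mem hw _
    have hPX : P ≤ X := hPZ.trans (inf_le_left.trans hSX)
    obtain ⟨c', hc', n', hn', he⟩ := jhat_step (charP_subgroup hchar
        ((CfsgLib.Fitting.pCore_le_sylow S).trans hSX))
      (fun h => hinv h.of_subgroup) (kAll_subgroup hK X) S' (P.subgroupOf X) (fun z hz => ⟨(hPZ hz).1,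
        mem_centralizer_iff.2 fun s hs => Subtype.ext (mem_centralizer_iff.1 (hPZ hz).2 s hs)⟩)
      (fun z hz => mem_center_iff.2 fun y => Subtype.ext (by
        obtain ⟨w, hw, hwz⟩ := mem_subgroupOf.1 hz
        have h2 : (z : G) * z ∈ powCenter (S : Subgroup G) (N - i) :=
          ⟨w, hw, by rw [hji, pow_succ, pow_mul, hwz, pow_two]⟩
        exact (mem_centralizer_iff.1 y.2 _ h2).symm))
      ⟨c, hc⟩
    refine ⟨(c' : G), mem_centralizer_iff.2 fun z hz =>
      congrArg Subtype.val (mem_centralizer_iff.1 hc' ⟨z, hPX hz⟩ hz), (n' : G) * n, ?_, ?_⟩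
    · refine mul_mem ?_ hn
      have h := le_normalizer_map X.subtype (mem_map_of_mem X.subtype hn')
      rwa [← jHatIn_map X.subtype X.subtype_injective, hS'] at h
    · rw [← mul_assoc]
      congr 1
      exact congrArg Subtype.val he

/-- `G = C(Ω₁(Z(Ĵ(S)))) N(Jₑ(S))`. -/
theorem jhat_center_thompson_factor (hchar : centralizer (Cfsg.pCore 2 G : Set G) ≤ Cfsg.pCore 2 G)
    (hfree : ¬ Cfsg.Involves (Equiv.Perm (Fin 4)) G) (hK : KAll G) (S : Sylow 2 G) (g : G) :
    ∃ c ∈ centralizer ((Cfsg.omegaOne 2 (jHatIn (S : Subgroup G) ⊓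
        centralizer (jHatIn (S : Subgroup G) : Set G))) : Set G),
      ∃ n ∈ normalizer (Cfsg.thompsonSubgroupOf 2 (S : Subgroup G) : Set G), g = c * n := by
  obtain ⟨U, hUS, hE, hJ, hfac⟩ := exists_e_factor _ rfl hchar hfree hK S
  obtain ⟨c, hc, n, hn, he⟩ := hfac g
  refine ⟨c, centralizer_le ?_ hc, n, hn, he⟩
  refine le_inf ((omega_center_jHat_le _).trans hJ) ?_
  exact (omegaOne_le _).trans (inf_le_right.trans
    (centralizer_le (le_sSup (show U ∈ eFam (S : Subgroup G) from ⟨hUS, hE, hJ⟩))))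

end CfsgLib.SThreeFree.K
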