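import Cfsg.Agent.SThreeFree.K.JHat
import Cfsg.Agent.SThreeFree.Functors

/-!
`Q ↦ Ω₁(Z(Ĵ(Q)))` as a functor.
-/

set_option autoImplicit false
set_option linter.unusedSectionVars false
set_option linter.style.haveILetI false

namespace CfsgLib.SThreeFree.K

open Subgroup CfsgLib.Thompson

universe u

/-- `Ω₁(Z(Ĵ(S)))` in the ambient group. -/
def zjIn {G : Type u} [Group G] (S : Subgroup G) : Subgroup G :=
  Cfsg.omegaOne 2 (jHatIn S ⊓ centralizer (jHatIn S : Set G))

/-- `Ω₁(Z(Ĵ(Q)))`. -/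
def zjFun : ∀ (Q : Type u) [Group Q], Subgroup Q := fun Q _ => zjIn (⊤ : Subgroup Q)

theorem zjIn_map {G H : Type u} [Group G] [Finite G] [Group H] [Finite H] (f : H →* G)
    (hf : Function.Injective f) (S : Subgroup H) : (zjIn S).map f = zjIn (S.map f) := by
  rw [zjIn, zjIn, map_omegaOne f hf, jHatIn_map f hf, map_inf_centralizer f hf]

theorem induced_zjFun {G : Type u} [Group G] [Finite G] (P : Subgroup G) :
    Cfsg.inducedFunctor zjFun.{u} P = zjIn P := by
  show (zjIn (⊤ : Subgroup P)).map P.subtype = zjIn P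
  rw [zjIn_map P.subtype P.subtype_injective, ← MonoidHom.range_eq_map, range_subtype]

theorem zjIn_ne_bot {G : Type u} [Group G] [Finite G] {S : Subgroup G} (hS : IsPGroup 2 S)
    (h : S ≠ ⊥) : zjIn S ≠ ⊥ := by
  haveI : Fact (Nat.Prime 2) := ⟨Nat.prime_two⟩
  intro hb
  have h1 := omega_center_le_thompson S
  obtain ⟨E, hE⟩ := exists_maxIn (p := 2) S
  haveI : Nontrivial S := (nontrivial_iff_ne_bot S).2 h
  haveI := hS.center_nontrivial
  obtain ⟨z, hz⟩ := exists_prime_orderOf_dvd_card' (G := center S) 2 (by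
    obtain ⟨k, hk⟩ := IsPGroup.iff_card.1 (hS.to_subgroup (center S))
    have h1 : 1 < Nat.card (center S) := Finite.one_lt_card
    rw [hk] at h1 ⊢
    exact dvd_pow_self 2 (by rintro rfl; simp at h1))
  -- an involution of `J`
  have hzJ : ((z : S) : G) ∈ Cfsg.thompsonSubgroupOf 2 S := by
    refine h1 (mem_omegaOne ⟨(z : S).2, mem_centralizer_iff.2 fun s hs => ?_⟩ ?_)
    · exact congrArg Subtype.val (mem_center_iff.1 z.2 ⟨s, hs⟩)
    · have := pow_orderOf_eq_one z
      rw [hz] at this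
      simpa using congrArg (fun w : center S => ((w : S) : G)) this
  have hz1 : ((z : S) : G) ∈ zjIn S := by
    refine mem_omegaOne ⟨thompson_le_jHatIn S hzJ, mem_centralizer_iff.2 fun s hs => ?_⟩ ?_
    · exact congrArg Subtype.val (mem_center_iff.1 z.2 ⟨s, jHatIn_le S hs⟩)
    · have := pow_orderOf_eq_one z
      rw [hz] at this
      simpa using congrArg (fun w : center S => ((w : S) : G)) this
  rw [hb, mem_bot] at hz1
  have hz2 : z = 1 := Subtype.ext (Subtype.ext hz1)
  rw [hz2, orderOf_one] at hz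
  omega

theorem isCharPFunctor_zjFun : Cfsg.IsCharPFunctor.{u} 2 zjFun.{u} := by
  refine ⟨fun Q _ _ hQ hne => zjIn_ne_bot (hQ.to_subgroup ⊤) ?_, fun Q R _ _ _ _ φ => ?_⟩
  · haveI := hne
    exact top_ne_bot
  · haveI : Finite R := Finite.of_equiv _ φ.toEquiv
    show (zjIn (⊤ : Subgroup Q)).map φ.toMonoidHom = zjIn (⊤ : Subgroup R)
    rw [zjIn_map φ.toMonoidHom φ.injective, map_top_of_surjective φ.toMonoidHom φ.surjective]

theorem omega_center_le_zjIn {G : Type u} [Group G] [Finite G] (S : Subgroup G) :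
    Cfsg.omegaOne 2 (S ⊓ centralizer (S : Set G)) ≤ zjIn S := by
  rw [Cfsg.omegaOne, closure_le]
  rintro z ⟨⟨hzS, hzc⟩, hz2⟩
  refine mem_omegaOne ⟨thompson_le_jHatIn S ?_, ?_⟩ hz2
  · exact omega_center_le_thompson S (mem_omegaOne ⟨hzS, hzc⟩ hz2)
  · exact centralizer_le (jHatIn_le S) hzc

end CfsgLib.SThreeFree.K
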