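import Cfsg.Agent.SThreeFree.K.Model
import Cfsg.Agent.ZJ.Inverts
import Cfsg.Agent.Offender2.SThree
import Cfsg.Agent.Comp.Basic
import Cfsg.Agent.Kinf.BBalanceBasic

/-!
Elementary lemmas on actions on elementary abelian 2-groups, written inside an ambient finite group.
-/

set_option autoImplicit false
set_option linter.unusedSectionVars false
set_option linter.style.haveILetI false

namespace CfsgLib.SThreeFree.K

open Subgroup

universe u

variable {Γ : Type u} [Group Γ] [Finite Γ]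

/-- The index of the fixed points. -/
noncomputable def idx (W A : Subgroup Γ) : ℕ := (W ⊓ centralizer (A : Set Γ)).relIndex W

theorem idx_pos (W A : Subgroup Γ) : 1 ≤ idx W A := Nat.one_le_iff_ne_zero.2 index_ne_zero_of_finite

theorem idx_mul (W : Subgroup Γ) {A B : Subgroup Γ} (hBA : B ≤ A) :
    idx W A = idx W B * idx (W ⊓ centralizer (B : Set Γ)) A := by
  have h : (W ⊓ centralizer (B : Set Γ)) ⊓ centralizer (A : Set Γ) = W ⊓ centralizer (A : Set Γ) := by
    rw [inf_assoc, inf_eq_right.2 (centralizer_le (show (B : Set Γ) ⊆ A from hBA))]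
  unfold idx
  rw [h, mul_comm]
  exact (relIndex_mul_relIndex _ _ _ (inf_le_inf_left W (centralizer_le (show (B : Set Γ) ⊆ A from hBA)))
    inf_le_left).symm

/-- If `A` is generated by `B` and `T`, the fixed points of `T` in those of `B` are those of `A`. -/
theorem idx_sup (W B T : Subgroup Γ) :
    idx (W ⊓ centralizer (B : Set Γ)) (B ⊔ T) = idx (W ⊓ centralizer (B : Set Γ)) T := by
  unfold idx
  congr 1
  refine le_antisymm (inf_le_inf_left _ (centralizer_le (show (T : Set Γ) ⊆ (B ⊔ T : Subgroup Γ) from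
    SetLike.coe_subset_coe.2 le_sup_right))) ?_
  rintro w ⟨hw, hT⟩
  refine ⟨hw, ?_⟩
  have h : B ⊔ T ≤ centralizer ({w} : Set Γ) := sup_le
    (fun b hb => mem_centralizer_singleton_iff.2 (mem_centralizer_iff.1 hw.2 b hb))
    fun t ht => mem_centralizer_singleton_iff.2 (mem_centralizer_iff.1 hT t ht)
  exact mem_centralizer_iff.2 fun x hx => mem_centralizer_singleton_iff.1 (h hx)

theorem idx_conj (W : Subgroup Γ) {g : Γ} (hg : g ∈ normalizer (W : Set Γ)) (a : Γ) :
    (W ⊓ centralizer ({g * a * g⁻¹} : Set Γ)).relIndex W =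
      (W ⊓ centralizer ({a} : Set Γ)).relIndex W :=
  CfsgLib.Suzuki.relIndex_centralizer_conj hg a

theorem relIndex_le_idx {W A : Subgroup Γ} {a : Γ} (ha : a ∈ A) :
    (W ⊓ centralizer ({a} : Set Γ)).relIndex W ≤ idx W A :=
  relIndex_le_of_le_left (inf_le_inf_left W (centralizer_le (Set.singleton_subset_iff.2 ha)))
    index_ne_zero_of_finite

theorem relIndex_eq_pow {W : Subgroup Γ} (hW : IsPGroup 2 W) (C : Subgroup Γ) :
    ∃ i, C.relIndex W = 2 ^ i := by
  haveI : Fact (Nat.Prime 2) := ⟨Nat.prime_two⟩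
  obtain ⟨n, hn⟩ := (IsPGroup.iff_card (p := 2)).1 hW
  obtain ⟨i, -, hi⟩ := (Nat.dvd_prime_pow Nat.prime_two).1 (hn ▸ relIndex_dvd_card C W)
  exact ⟨i, hi⟩

/-- Thompson's `A × B` lemma. -/
theorem fixes_of_inf {W B : Subgroup Γ} (hW : Cfsg.IsElementaryAbelian 2 W)
    (hB : Cfsg.IsElementaryAbelian 2 B) (hBW : B ≤ normalizer (W : Set Γ)) {x : Γ}
    (hxW : x ∈ normalizer (W : Set Γ)) (hxo : Odd (orderOf x)) (hxB : ∀ b ∈ B, b * x = x * b)
    (hfix : ∀ w ∈ W ⊓ centralizer (B : Set Γ), x * w * x⁻¹ = w) :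
    x ∈ centralizer (W : Set Γ) := by
  classical
  have hWc : ∀ a ∈ W, ∀ b ∈ W, a * b = b * a := fun a ha b hb =>
    CfsgLib.Thompson.elab_commute hW ha hb
  have main : ∀ s : Finset Γ, (∀ b ∈ s, b ∈ B) →
      (∀ w ∈ W, (∀ b ∈ s, b * w * b⁻¹ = w) → x * w * x⁻¹ = w) → ∀ w ∈ W, x * w * x⁻¹ = w := by
    intro s
    induction s using Finset.induction with
    | empty => exact fun _ h w hw => h w hw (by simp)
    | @insert b s hbs ih =>
      intro hs h
      refine ih (fun c hc => hs c (Finset.mem_insert_of_mem hc)) fun w hw hws => ?_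
      have hbB : b ∈ B := hs b (Finset.mem_insert_self b s)
      have hbw : b * w * b⁻¹ ∈ W := (mem_normalizer_iff.1 (hBW hbB) w).1 hw
      have hb2 : b⁻¹ = b := by
        rw [inv_eq_iff_mul_eq_one, ← pow_two]; exact hB.2 b hbB
      have hw2 : w * w = 1 := by rw [← pow_two]; exact hW.2 w hw
      set u := w * (b * w * b⁻¹) with hu
      have hu' : x * u * x⁻¹ = u := by
        refine h u (W.mul_mem hw hbw) fun c hc => ?_
        have hcu : ∀ v ∈ W, c * v * c⁻¹ = v → c * (b * v * b⁻¹) * c⁻¹ = b * v * b⁻¹ := by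
          intro v _ hv
          rcases eq_or_ne c b with rfl | hne
          · rw [hv, hv]
          have hcb : c * b = b * c := CfsgLib.Thompson.elab_commute hB (hs c hc) hbB
          calc c * (b * v * b⁻¹) * c⁻¹ = (c * b) * v * (c * b)⁻¹ := by group
            _ = (b * c) * v * (b * c)⁻¹ := by rw [hcb]
            _ = b * (c * v * c⁻¹) * b⁻¹ := by group
            _ = b * v * b⁻¹ := by rw [hv]
        rcases Finset.mem_insert.1 hc with rfl | hc'
        · rw [hu]
          calc c * (w * (c * w * c⁻¹)) * c⁻¹ = (c * w * c⁻¹) * ((c * c) * w * (c * c)⁻¹) := by group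
            _ = (c * w * c⁻¹) * w := by rw [← pow_two, hB.2 c hbB]; group
            _ = w * (c * w * c⁻¹) := hWc _ hbw _ hw
        · rw [hu]
          calc c * (w * (b * w * b⁻¹)) * c⁻¹ = (c * w * c⁻¹) * (c * (b * w * b⁻¹) * c⁻¹) := by group
            _ = w * (b * w * b⁻¹) := by rw [hws c hc', hcu w hw (hws c hc')]
      have hxw : x * w * x⁻¹ ∈ W := (mem_normalizer_iff.1 hxW w).1 hw
      set c := x * w * x⁻¹ * w with hc
      have hbx : x * (b * w * b⁻¹) * x⁻¹ = b * (x * w * x⁻¹) * b⁻¹ := by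
        calc x * (b * w * b⁻¹) * x⁻¹ = (x * b) * w * (x * b)⁻¹ := by group
          _ = (b * x) * w * (b * x)⁻¹ := by rw [hxB b hbB]
          _ = _ := by group
      have hcfix : b * c * b⁻¹ = c := by
        have e : x * w * x⁻¹ * (b * (x * w * x⁻¹) * b⁻¹) = w * (b * w * b⁻¹) := by
          rw [← hbx]
          calc x * w * x⁻¹ * (x * (b * w * b⁻¹) * x⁻¹) = x * u * x⁻¹ := by rw [hu]; group
            _ = _ := by rw [hu', hu]
        have e2 : b * (x * w * x⁻¹) * b⁻¹ = (x * w * x⁻¹) * (w * (b * w * b⁻¹)) := by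
          calc b * (x * w * x⁻¹) * b⁻¹ = (x * w * x⁻¹) ^ 2 * (b * (x * w * x⁻¹) * b⁻¹) := by
                rw [hW.2 _ hxw, one_mul]
            _ = (x * w * x⁻¹) * (x * w * x⁻¹ * (b * (x * w * x⁻¹) * b⁻¹)) := by rw [pow_two]; group
            _ = _ := by rw [e]
        calc b * c * b⁻¹ = (b * (x * w * x⁻¹) * b⁻¹) * (b * w * b⁻¹) := by rw [hc]; group
          _ = (x * w * x⁻¹) * w * ((b * w * b⁻¹) * (b * w * b⁻¹)) := by rw [e2]; group
          _ = c := by rw [← pow_two, hW.2 _ hbw, mul_one, hc]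
      have hxc : x * c * x⁻¹ = c := by
        refine h c (W.mul_mem hxw hw) fun d hd => ?_
        rcases Finset.mem_insert.1 hd with rfl | hd'
        · exact hcfix
        · have hdx : d * (x * w * x⁻¹) * d⁻¹ = x * w * x⁻¹ := by
            calc d * (x * w * x⁻¹) * d⁻¹ = (d * x) * w * (d * x)⁻¹ := by group
              _ = (x * d) * w * (x * d)⁻¹ := by rw [hxB d (hs d hd)]
              _ = x * (d * w * d⁻¹) * x⁻¹ := by group
              _ = _ := by rw [hws d hd']
          calc d * c * d⁻¹ = (d * (x * w * x⁻¹) * d⁻¹) * (d * w * d⁻¹) := by rw [hc]; group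
            _ = c := by rw [hdx, hws d hd', hc]
      have hpow : ∀ k : ℕ, x ^ k * w * (x ^ k)⁻¹ = c ^ k * w := by
        intro k
        induction k with
        | zero => simp
        | succ k ihk =>
          have h1 : x ^ (k + 1) * w * (x ^ (k + 1))⁻¹ = x * (x ^ k * w * (x ^ k)⁻¹) * x⁻¹ := by
            rw [pow_succ']; group
          rw [h1, ihk, show x * (c ^ k * w) * x⁻¹ = (x * c * x⁻¹) ^ k * (x * w * x⁻¹) by
            rw [conj_pow]; group, hxc, pow_succ]
          rw [hc, mul_assoc (c ^ k), mul_assoc (x * w * x⁻¹), hw2, mul_one]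
      have h1 := hpow (orderOf x)
      rw [pow_orderOf_eq_one, inv_one, mul_one, one_mul, right_eq_mul] at h1
      have hc2 : c ^ 2 = 1 := hW.2 c (W.mul_mem hxw hw)
      have hc1 : c = 1 := by
        obtain ⟨k, hk⟩ := hxo
        rw [hk, pow_succ, pow_mul, hc2, one_pow, one_mul] at h1
        exact h1
      calc x * w * x⁻¹ = c * w⁻¹ := by rw [hc]; group
        _ = w := by rw [hc1, one_mul, inv_eq_iff_mul_eq_one, hw2]
  haveI := Fintype.ofFinite Γ
  have := main (Finset.univ.filter fun b => b ∈ B) (fun b hb => (Finset.mem_filter.1 hb).2)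
    fun w hw h => hfix w ⟨hw, mem_centralizer_iff.2 fun b hb => mul_inv_eq_iff_eq_mul.1
      (h b (Finset.mem_filter.2 ⟨Finset.mem_univ b, hb⟩))⟩
  exact mem_centralizer_iff.2 fun w hw => (mul_inv_eq_iff_eq_mul.1 (this w hw)).symm

/-- The fixed points of a `p`-element have index `2^d` with `p ∣ 2^d - 1`. -/
theorem exists_pow_relIndex {W : Subgroup Γ} (hW : Cfsg.IsElementaryAbelian 2 W) {y : Γ}
    (hy : y ∈ normalizer (W : Set Γ)) {p v : ℕ} (hp : p.Prime) (hp2 : p ≠ 2) (hyp : y ^ p ^ v = 1)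
    (hne : y ∉ centralizer (W : Set Γ)) :
    ∃ d, 1 ≤ d ∧ p ∣ 2 ^ d - 1 ∧ (W ⊓ centralizer ({y} : Set Γ)).relIndex W = 2 ^ d := by
  classical
  haveI : Fact p.Prime := ⟨hp⟩
  haveI : Fact (Nat.Prime 2) := ⟨Nat.prime_two⟩
  set C := W ⊓ centralizer ({y} : Set Γ) with hC
  obtain ⟨d, hd⟩ := relIndex_eq_pow (CfsgLib.Thompson.elab_isPGroup hW) C
  refine ⟨d, ?_, ?_, hd⟩
  · rcases Nat.eq_zero_or_pos d with rfl | h
    · rw [pow_zero, relIndex_eq_one] at hd
      exact absurd (mem_centralizer_iff.2 fun w hw => mem_centralizer_singleton_iff.1 (hd hw).2) hne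
    · exact h
  have hN : ∀ g : zpowers y, ∀ w ∈ W, (g : Γ) * w * (g : Γ)⁻¹ ∈ W := fun g w hw =>
    (mem_normalizer_iff.1 ((zpowers_le.2 hy) g.2) w).1 hw
  letI : MulAction (zpowers y) W :=
    { smul := fun g w => ⟨(g : Γ) * w * (g : Γ)⁻¹, hN g w w.2⟩
      one_smul := fun w => Subtype.ext (by
        show ((1 : zpowers y) : Γ) * w * ((1 : zpowers y) : Γ)⁻¹ = w
        simp)
      mul_smul := fun a b w => Subtype.ext (by
        show ((a * b : zpowers y) : Γ) * w * ((a * b : zpowers y) : Γ)⁻¹ =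
          (a : Γ) * ((b : Γ) * w * (b : Γ)⁻¹) * (a : Γ)⁻¹
        simp [mul_assoc]) }
  have hP : IsPGroup p (zpowers y) := by
    obtain ⟨i, -, hi⟩ := (Nat.dvd_prime_pow hp).1 (orderOf_dvd_of_pow_eq_one hyp)
    exact IsPGroup.of_card (n := i) (by rw [Nat.card_zpowers, hi])
  have hfix : Nat.card (MulAction.fixedPoints (zpowers y) W) = Nat.card C := by
    refine Nat.card_congr
      { toFun := fun w => ⟨(w.1 : Γ), w.1.2, ?_⟩
        invFun := fun c => ⟨⟨c.1, c.2.1⟩, ?_⟩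
        left_inv := fun w => rfl
        right_inv := fun c => rfl }
    · show (w.1 : Γ) ∈ centralizer ({y} : Set Γ)
      rw [mem_centralizer_singleton_iff]
      exact (mul_inv_eq_iff_eq_mul.1 (congrArg Subtype.val (w.2 ⟨y, mem_zpowers y⟩))).symm
    · rintro ⟨g, hg⟩
      refine Subtype.ext ?_
      show g * (c : Γ) * g⁻¹ = c
      obtain ⟨i, rfl⟩ := mem_zpowers_iff.1 hg
      rw [((show Commute y (c : Γ) from (mem_centralizer_singleton_iff.1 c.2.2).symm).zpow_left i).eq,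
        mul_inv_cancel_right]
  have hmod := hP.card_modEq_card_fixedPoints W
  rw [hfix] at hmod
  have hcard : Nat.card C * 2 ^ d = Nat.card W := by
    rw [← hd, ← relIndex_bot_left C, relIndex_mul_relIndex ⊥ C W bot_le inf_le_left, relIndex_bot_left]
  rw [← hcard] at hmod
  have h1 : p ∣ Nat.card C * 2 ^ d - Nat.card C :=
    (Nat.modEq_iff_dvd' (Nat.le_mul_of_pos_right _ (by positivity))).1 hmod.symm
  rw [← Nat.mul_sub_one] at h1
  refine (hp.dvd_mul.1 h1).resolve_left fun h => ?_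
  obtain ⟨a, ha⟩ := (IsPGroup.iff_card (p := 2)).1
    ((CfsgLib.Thompson.elab_isPGroup hW).to_le (inf_le_left : C ≤ W))
  rw [ha] at h
  exact hp2 ((Nat.prime_dvd_prime_iff_eq hp Nat.prime_two).1 (hp.dvd_of_dvd_pow h))

/-- An element built from two conjugates of `a` moves at most `R²` cosets. -/
theorem le_sq_of_two_conj {W : Subgroup Γ} {a g h y : Γ} (hg : g ∈ normalizer (W : Set Γ))
    (hh : h ∈ normalizer (W : Set Γ)) (hy : y ∈ zpowers ((g * a * g⁻¹) * (h * a * h⁻¹))) :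
    (W ⊓ centralizer ({y} : Set Γ)).relIndex W ≤
      (W ⊓ centralizer ({a} : Set Γ)).relIndex W * (W ⊓ centralizer ({a} : Set Γ)).relIndex W := by
  obtain ⟨i, rfl⟩ := mem_zpowers_iff.1 hy
  refine (relIndex_le_of_le_left (H := (W ⊓ centralizer ({g * a * g⁻¹} : Set Γ)) ⊓
    (W ⊓ centralizer ({h * a * h⁻¹} : Set Γ))) ?_ index_ne_zero_of_finite).trans
    (relIndex_inf_le.trans (le_of_eq (by rw [idx_conj W hg, idx_conj W hh])))
  rintro v ⟨⟨hv, h1⟩, -, h2⟩
  refine ⟨hv, mem_centralizer_singleton_iff.2 ?_⟩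
  exact ((Commute.mul_right (mem_centralizer_singleton_iff.1 h1)
    (mem_centralizer_singleton_iff.1 h2) : Commute v _).zpow_right i).eq

/-- The `p`-part of an element. -/
theorem exists_ppart {g : Γ} {p : ℕ} (hp : p.Prime) :
    ∃ n v : ℕ, ¬ p ∣ n ∧ (g ^ n) ^ p ^ v = 1 := by
  refine ⟨orderOf g / p ^ (orderOf g).factorization p, (orderOf g).factorization p,
    Nat.not_dvd_ordCompl hp (orderOf_pos g).ne', ?_⟩
  rw [← pow_mul, Nat.div_mul_cancel (Nat.ordProj_dvd _ p), pow_orderOf_eq_one]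

/-- An element acting trivially on a perfect group modulo its centre acts trivially. -/
theorem commute_of_mod_center {K : Subgroup Γ} (hK : Group.IsPerfect K) {g : Γ}
    (hg : ∀ k ∈ K, ∃ z : K, z ∈ center K ∧ g * k * g⁻¹ = (z : Γ) * k) :
    ∀ k ∈ K, g * k = k * g := by
  choose z hz hze using hg
  have hcc : ∀ (k : Γ) (hk : k ∈ K) (m : Γ), m ∈ K → Commute (z k hk : Γ) m := fun k hk m hm =>
    (congrArg Subtype.val (mem_center_iff.1 (hz k hk) ⟨m, hm⟩)).symm
  have hKK : ⁅K, K⁆ = K := by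
    rw [← map_subtype_commutator, hK.commutator_eq_top, ← MonoidHom.range_eq_map, range_subtype]
  have hle : ⁅K, K⁆ ≤ centralizer ({g} : Set Γ) := by
    refine commutator_le.2 fun a ha b hb => mem_centralizer_singleton_iff.2 ?_
    have e : g * (a * b * a⁻¹ * b⁻¹) * g⁻¹ = a * b * a⁻¹ * b⁻¹ := by
      set u := (z a ha : Γ)
      set v := (z b hb : Γ)
      calc g * (a * b * a⁻¹ * b⁻¹) * g⁻¹
          = (g * a * g⁻¹) * (g * b * g⁻¹) * (g * a * g⁻¹)⁻¹ * (g * b * g⁻¹)⁻¹ := by group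
        _ = (u * a) * (v * b) * (u * a)⁻¹ * (v * b)⁻¹ := by rw [hze a ha, hze b hb]
        _ = u * (a * v) * b * a⁻¹ * u⁻¹ * b⁻¹ * v⁻¹ := by group
        _ = u * (v * a) * b * a⁻¹ * u⁻¹ * b⁻¹ * v⁻¹ := by rw [(hcc b hb a ha).eq]
        _ = u * v * ((a * b * a⁻¹) * u⁻¹) * b⁻¹ * v⁻¹ := by group
        _ = u * v * (u⁻¹ * (a * b * a⁻¹)) * b⁻¹ * v⁻¹ := by
          rw [((hcc a ha _ (K.mul_mem (K.mul_mem ha hb) (K.inv_mem ha))).inv_left).eq]
        _ = (u * v * u⁻¹) * ((a * b * a⁻¹ * b⁻¹) * v⁻¹) := by group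
        _ = (u * v * u⁻¹) * (v⁻¹ * (a * b * a⁻¹ * b⁻¹)) := by
          rw [((hcc b hb _ (K.mul_mem (K.mul_mem (K.mul_mem ha hb) (K.inv_mem ha))
            (K.inv_mem hb))).inv_left).eq]
        _ = (v * u * u⁻¹) * (v⁻¹ * (a * b * a⁻¹ * b⁻¹)) := by rw [(hcc a ha _ (z b hb).2).eq]
        _ = a * b * a⁻¹ * b⁻¹ := by group
    exact (mul_inv_eq_iff_eq_mul.1 e).symm
  intro k hk
  exact (mem_centralizer_singleton_iff.1 (hle (hKK.symm ▸ hk))).symm

/-- A semidirect product of odd order group and elementary 2-group acting faithfully. -/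
theorem inf_centralizer_eq_bot {W O A : Subgroup Γ} (hOW : O ≤ normalizer (W : Set Γ))
    (hO : Odd (Nat.card O)) (hA : Cfsg.IsElementaryAbelian 2 A)
    (hAO : A ≤ normalizer (O : Set Γ)) (hf : ∀ o ∈ O, o ∈ centralizer (W : Set Γ) → o = 1)
    (hfA : ∀ a ∈ A, (∀ o ∈ O, a * o = o * a) → a = 1) :
    (O ⊔ A) ⊓ centralizer (W : Set Γ) = ⊥ := by
  rw [eq_bot_iff]
  rintro g ⟨hg, hgc⟩
  have hg' : g ∈ ((O ⊔ A : Subgroup Γ) : Set Γ) := hg
  rw [coe_mul_of_right_le_normalizer_left O A hAO] at hg'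
  obtain ⟨o, ho, a, ha, rfl⟩ := hg'
  have hnc : ∀ q ∈ normalizer (W : Set Γ), ∀ c ∈ centralizer (W : Set Γ),
      q * c * q⁻¹ ∈ centralizer (W : Set Γ) := by
    intro q hq c hc
    refine mem_centralizer_iff.2 fun w hw => ?_
    have h1 := mem_centralizer_iff.1 hc _ ((mem_normalizer_iff''.1 hq w).1 hw)
    calc w * (q * c * q⁻¹) = q * ((q⁻¹ * w * q) * c) * q⁻¹ := by group
      _ = q * (c * (q⁻¹ * w * q)) * q⁻¹ := by rw [h1]
      _ = _ := by group
  have hconj : ∀ q ∈ O, o * a * q * (o * a)⁻¹ ∈ O := fun q hq => by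
    rw [show o * a * q * (o * a)⁻¹ = o * (a * q * a⁻¹) * o⁻¹ by group]
    exact O.mul_mem (O.mul_mem ho ((mem_normalizer_iff.1 (hAO ha) q).1 hq)) (O.inv_mem ho)
  have hcentr : ∀ q ∈ O, o * a * q = q * (o * a) := by
    intro q hq
    have h1 : o * a * q * (o * a)⁻¹ * q⁻¹ = 1 := by
      refine hf _ (O.mul_mem (hconj q hq) (O.inv_mem hq)) ?_
      rw [show o * a * q * (o * a)⁻¹ * q⁻¹ = o * a * (q * (o * a)⁻¹ * q⁻¹) by group]
      exact mul_mem hgc (hnc q (hOW hq) _ (inv_mem hgc))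
    rwa [mul_inv_eq_one, mul_inv_eq_iff_eq_mul] at h1
  have ha2 : a * a = 1 := by rw [← pow_two]; exact hA.2 a ha
  have hoa : a * o * a⁻¹ = o⁻¹ := by
    have h1 : o * a * (o * a) = 1 := by
      refine hf _ ?_ (mul_mem hgc hgc)
      rw [show o * a * (o * a) = o * (a * o * a⁻¹) * (a * a) by group, ha2, mul_one]
      exact O.mul_mem ho ((mem_normalizer_iff.1 (hAO ha) o).1 ho)
    rw [show o * a * (o * a) = o * (a * o * a⁻¹) * (a * a) by group, ha2, mul_one] at h1
    exact eq_inv_of_mul_eq_one_right h1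
  have hao : a * o = o * a := by
    have h1 := hcentr o ho
    rw [mul_assoc] at h1
    exact mul_left_cancel h1
  have ho1 : o = 1 := by
    rw [hao, mul_inv_cancel_right] at hoa
    have h2 : orderOf o ∣ 2 := orderOf_dvd_of_pow_eq_one (by
      rw [pow_two]; nth_rewrite 2 [hoa]; exact mul_inv_cancel o)
    exact orderOf_eq_one_iff.1 (Nat.eq_one_of_dvd_coprimes (Nat.coprime_two_left.2 hO) h2
      (O.orderOf_dvd_natCard ho))
  subst ho1
  simp only [one_mul] at hcentr ⊢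
  exact mem_bot.2 (hfA a ha hcentr)

/-- Complements in elementary abelian 2-groups. -/
theorem exists_compl {A B : Subgroup Γ} (hA : Cfsg.IsElementaryAbelian 2 A) (hBA : B ≤ A) :
    ∃ T ≤ A, T ⊓ B = ⊥ ∧ B ⊔ T = A := by
  obtain ⟨T, hT, hmax⟩ := Set.Finite.exists_maximalFor id {T : Subgroup Γ | T ≤ A ∧ T ⊓ B = ⊥}
    (Set.toFinite _) ⟨⊥, bot_le, bot_inf_eq B⟩
  refine ⟨T, hT.1, hT.2, le_antisymm (sup_le hBA hT.1) fun a ha => ?_⟩
  by_contra hna
  have h2 : T ⊔ zpowers a ∈ {T : Subgroup Γ | T ≤ A ∧ T ⊓ B = ⊥} := by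
    refine ⟨sup_le hT.1 (zpowers_le.2 ha), ?_⟩
    rw [eq_bot_iff]
    rintro x ⟨hx, hxB⟩
    have hnorm : zpowers a ≤ normalizer (T : Set Γ) :=
      zpowers_le.2 (mem_normalizer_iff.2 fun t => by
        constructor <;> intro ht
        · rw [CfsgLib.Thompson.elab_commute hA ha (hT.1 ht), mul_inv_cancel_right]; exact ht
        · have h := hT.1 ht
          have e : t = a * t * a⁻¹ := by
            have h' := CfsgLib.Thompson.elab_commute hA (A.inv_mem ha) h
            calc t = a⁻¹ * (a * t * a⁻¹) * a := by group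
              _ = _ := by rw [h']; group
          rw [e]; exact ht)
    have hx' : x ∈ ((T ⊔ zpowers a : Subgroup Γ) : Set Γ) := hx
    rw [coe_mul_of_right_le_normalizer_left T _ hnorm] at hx'
    obtain ⟨t, ht, z, hz, rfl⟩ := hx'
    obtain ⟨i, rfl⟩ := mem_zpowers_iff.1 hz
    change t * a ^ i ∈ B at hxB
    show t * a ^ i ∈ (⊥ : Subgroup Γ)
    rcases Int.even_or_odd i with ⟨k, hk⟩ | ⟨k, hk⟩
    · have : a ^ i = 1 := by
        rw [hk, ← two_mul, zpow_mul, zpow_ofNat, hA.2 a ha, one_zpow]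
      rw [this, mul_one] at hxB ⊢
      rw [← hT.2]; exact ⟨ht, hxB⟩
    · have : a ^ i = a := by
        rw [hk, zpow_add, zpow_mul, zpow_ofNat, hA.2 a ha, one_zpow, one_mul, zpow_one]
      rw [this] at hxB
      refine absurd ?_ hna
      have e : a = t⁻¹ * (t * a) := by group
      rw [e]
      exact mul_mem (mem_sup_right (T.inv_mem ht)) (mem_sup_left hxB)
  exact hna (mem_sup_right (hmax h2 le_sup_left (mem_sup_right (mem_zpowers a))))

theorem card_sq_le {A B T : Subgroup Γ} (hA : Cfsg.IsElementaryAbelian 2 A) (hBA : B ≤ A)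
    (hTA : T ≤ A) (h : B ⊔ T = A) : Nat.card A ≤ Nat.card B * Nat.card T := by
  have hn : T ≤ normalizer (B : Set Γ) := fun t ht => mem_normalizer_iff.2 fun b => by
    constructor <;> intro hb
    · rw [CfsgLib.Thompson.elab_commute hA (hTA ht) (hBA hb), mul_inv_cancel_right]; exact hb
    · have h' := CfsgLib.Thompson.elab_commute hA (A.inv_mem (hTA ht)) (hBA hb)
      have e : b = t * b * t⁻¹ := by
        calc b = t⁻¹ * (t * b * t⁻¹) * t := by group
          _ = _ := by rw [h']; group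
      rw [e]; exact hb
  rw [← Nat.card_prod]
  refine Nat.card_le_card_of_surjective
    (fun bt : B × T => (⟨bt.1 * bt.2, h ▸ mul_mem (mem_sup_left bt.1.2) (mem_sup_right bt.2.2)⟩ : A))
    fun a => ?_
  have ha : (a : Γ) ∈ ((B ⊔ T : Subgroup Γ) : Set Γ) := by rw [h]; exact a.2
  rw [coe_mul_of_right_le_normalizer_left B T hn] at ha
  obtain ⟨b, hb, t, ht, e⟩ := ha
  exact ⟨(⟨b, hb⟩, ⟨t, ht⟩), Subtype.ext e⟩

end CfsgLib.SThreeFree.K
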