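import Cfsg.Agent.Suzuki.Automorphisms
import Cfsg.Agent.Suzuki.ModuleBound
import Cfsg.Agent.AutPSL.Out
import Cfsg.Agent.Classical.PSLTwoFour
import Cfsg.Agent.Classical.PSLTwo
import Cfsg.Agent.Classical.PSLTwoSub
import Cfsg.Agent.Classical.SmallPSL
import Cfsg.Agent.PrimeGraph.PSL2Spectrum
import Cfsg.Agent.PLocal.Thompson
import Cfsg.Agent.Char.Burnside
import Cfsg.Prelude.Def_LocalEven

/-!
The facts on Suzuki groups and on `PSL₂(3^odd)` used in the offender bound for groups without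
`S₃`-sections: elementary abelian groups of automorphisms contain inner ones and are small, and
every involution inverts an element of large prime order.
-/

set_option autoImplicit false
set_option linter.unusedSectionVars false
set_option linter.style.haveILetI false

namespace CfsgLib.SThreeFree.K

open Subgroup

universe u

/-- The data used for a simple composition factor; `N` bounds the orders of elementary abelian
2-groups of automorphisms. -/
structure Data (S : Type*) [Group S] (N : ℕ) : Prop where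
  invol : ∃ s : S, s * s = 1 ∧ s ≠ 1
  small : ∀ E : Subgroup (MulAut S), Cfsg.IsElementaryAbelian 2 E → Nat.card E ≤ N
  inner : ∀ E : Subgroup (MulAut S), Cfsg.IsElementaryAbelian 2 E → 2 < Nat.card E →
    ∃ s : S, s * s = 1 ∧ s ≠ 1 ∧ MulAut.conj s ∈ E
  prime : ∀ s : S, s * s = 1 → s ≠ 1 → ∃ r : ℕ, r.Prime ∧ r ≠ 2 ∧
    (∃ c d : S, orderOf ((c * s * c⁻¹) * (d * s * d⁻¹)) = r) ∧
    ∀ j i : ℕ, 1 ≤ j → r ∣ 2 ^ j - 1 → j ≤ 2 * i → N ^ 2 ≤ 2 ^ i

theorem conj_congr {S T : Type*} [Group S] [Group T] (e : S ≃* T) (t : T) :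
    MulAut.congr e (MulAut.conj (e.symm t)) = MulAut.conj t := by
  ext x
  simp [MulAut.congr, MulAut.conj_apply]

theorem Data.congr {S T : Type*} [Group S] [Group T] {N : ℕ} (h : Data T N) (e : S ≃* T) :
    Data S N := by
  have key : ∀ E : Subgroup (MulAut S), Cfsg.IsElementaryAbelian 2 E →
      Cfsg.IsElementaryAbelian 2 (E.map (MulAut.congr e).toMonoidHom) ∧
        Nat.card (E.map (MulAut.congr e).toMonoidHom) = Nat.card E := fun E hE =>
    ⟨CfsgLib.Thompson.elab_map _ hE, card_map_of_injective (MulAut.congr e).injective⟩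
  refine ⟨?_, fun E hE => (key E hE).2 ▸ h.small _ (key E hE).1, fun E hE h2 => ?_, fun s hs hs1 => ?_⟩
  · obtain ⟨t, ht, ht1⟩ := h.invol
    exact ⟨e.symm t, by rw [← map_mul, ht, map_one], fun h' => ht1 (by simpa using congrArg e h')⟩
  · obtain ⟨t, ht, ht1, a, ha, hat⟩ := h.inner _ (key E hE).1 ((key E hE).2.symm ▸ h2)
    refine ⟨e.symm t, by rw [← map_mul, ht, map_one], fun h' => ht1 (by simpa using congrArg e h'), ?_⟩
    have hinj : a = MulAut.conj (e.symm t) :=
      (MulAut.congr e).injective (hat.trans (conj_congr e t).symm)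
    exact hinj ▸ ha
  · obtain ⟨r, hr, hr2, ⟨c, d, hcd⟩, hj⟩ :=
      h.prime (e s) (by rw [← map_mul, hs, map_one]) (fun h' => hs1 (by simpa using congrArg e.symm h'))
    refine ⟨r, hr, hr2, ⟨e.symm c, e.symm d, ?_⟩, hj⟩
    rw [← hcd, ← orderOf_injective e.toMonoidHom e.injective]
    simp

theorem conj_injective {S : Type*} [Group S] [IsSimpleGroup S] (hn : ¬ IsMulCommutative S) :
    Function.Injective (MulAut.conj : S →* MulAut S) := by
  rw [← MonoidHom.ker_eq_bot_iff]
  refine (Subgroup.Normal.eq_bot_or_eq_top inferInstance).resolve_right fun htop => hn ⟨⟨fun a b => ?_⟩⟩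
  have h1 : MulAut.conj a = 1 := by rw [← MonoidHom.mem_ker, htop]; exact mem_top _
  have h2 := DFunLike.congr_fun h1 b
  rw [MulAut.conj_apply, MulAut.one_apply, mul_inv_eq_iff_eq_mul] at h2
  exact h2

theorem not_comm_of {S T : Type*} [Group S] [Group T] (e : S ≃* T) (h : ¬ IsMulCommutative S) :
    ¬ IsMulCommutative T := fun hT => h ⟨⟨fun a b => e.injective (by
  rw [map_mul, map_mul, hT.is_comm.comm])⟩⟩

section Suzuki

open CfsgLib.Suzuki

variable {F : Type*} [Field F] {m : ℕ}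

/-- The field automorphisms as a homomorphism. -/
noncomputable def fieldHom (h : IsSzField F m) : RingAut F →* MulAut (SzG F m) where
  toFun := fieldAut h
  map_one' := by
    refine MulEquiv.ext fun g => Subtype.ext (Subtype.ext ?_)
    ext i j
    rfl
  map_mul' a b := by
    refine MulEquiv.ext fun g => Subtype.ext (Subtype.ext ?_)
    ext i j
    rfl

theorem sz_inner (h : IsSzField F m) (e : MulAut (SzG F m)) (he : e * e = 1) :
    ∃ c : SzG F m, e = MulAut.conj c := by
  have := finite_G h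
  have := h.finite
  haveI : Finite (MulAut (SzG F m)) := Finite.of_injective (fun a => (⇑a)) DFunLike.coe_injective
  set I := (MulAut.conj : SzG F m →* MulAut (SzG F m)).range with hI
  haveI hIn : I.Normal := ⟨by
    rintro _ ⟨c, rfl⟩ α
    refine ⟨α c, MulEquiv.ext fun x => ?_⟩
    simp [MulAut.conj_apply]⟩
  set f : RingAut F →* MulAut (SzG F m) ⧸ I := (QuotientGroup.mk' I).comp (fieldHom h)
  have hf : Function.Surjective f := by
    intro z
    obtain ⟨α, rfl⟩ := QuotientGroup.mk'_surjective I z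
    obtain ⟨θ, c, hc⟩ := aut_eq_inner_field h α
    refine ⟨θ, ?_⟩
    have e1 : α = MulAut.conj c * fieldHom h θ := MulEquiv.ext fun g => by
      rw [hc]; rfl
    show QuotientGroup.mk' I (fieldHom h θ) = _
    have hc1 : QuotientGroup.mk' I (MulAut.conj c) = 1 := (QuotientGroup.eq_one_iff _).2 ⟨c, rfl⟩
    rw [e1, map_mul, hc1, one_mul]
  have hodd : Odd (Nat.card (MulAut (SzG F m) ⧸ I)) := by
    refine Odd.of_dvd_nat ?_ (Subgroup.card_dvd_of_surjective f hf)
    rw [card_ringAut h]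
    exact odd_two_mul_add_one m
  have h1 : orderOf (QuotientGroup.mk' I e) ∣ 2 := by
    refine orderOf_dvd_of_pow_eq_one ?_
    rw [pow_two, ← map_mul, he, map_one]
  have h2 : QuotientGroup.mk' I e = 1 := orderOf_eq_one_iff.1 (Nat.eq_one_of_dvd_coprimes
    (Nat.coprime_two_left.2 hodd) h1 (orderOf_dvd_natCard _))
  obtain ⟨c, hc⟩ := (QuotientGroup.eq_one_iff e).1 h2
  exact ⟨c, hc.symm⟩

theorem sz_conj_inj (h : IsSzField F m) {a b : SzG F m} (e : MulAut.conj a = MulAut.conj b) :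
    a = b := by
  haveI := isSimpleGroup_Sz h
  refine conj_injective (fun hc => ?_) e
  obtain ⟨t, ht⟩ := exists_unit_ne_one h
  have h2 : dE h t * uE h 1 0 = uE h 1 0 * dE h t := hc.is_comm.comm _ _
  have h3 := dE_conj h t (1 : F) 0
  rw [h2, mul_inv_cancel_right] at h3
  exact ht (scale_eq_one_left h one_ne_zero (uE_inj h h3).1.symm)

theorem sz_elab_card_le (h : IsSzField F m) (A : Subgroup (SzG F m))
    (hA : Cfsg.IsElementaryAbelian 2 A) : Nat.card A ≤ Nat.card F := by
  have := finite_G h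
  have := h.finite
  obtain ⟨c, hc⟩ := exists_conj_le_unip h (CfsgLib.Thompson.elab_isPGroup hA)
  have hmem : ∀ a : A, ∃ b, c * (a : SzG F m) * c⁻¹ = uE h 0 b := by
    intro a
    obtain ⟨a', b, he⟩ := exists_uE h (hc _ a.2)
    have hsq : uE h a' b * uE h a' b = 1 := by
      rw [← he, show c * (a : SzG F m) * c⁻¹ * (c * a * c⁻¹) = c * ((a : SzG F m) ^ 2) * c⁻¹ by
        rw [pow_two]; group, hA.2 _ a.2]
      group
    rw [uE_sq, uE_eq_one] at hsq
    rcases mul_eq_zero.1 hsq.2 with h0 | h0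
    · rw [sg_eq_zero] at h0
      exact ⟨b, by rw [he, h0]⟩
    · exact ⟨b, by rw [he, h0]⟩
  choose b hb using hmem
  refine Nat.card_le_card_of_injective b fun x y hxy => Subtype.ext ?_
  have := (hb x).trans (hxy ▸ (hb y).symm)
  exact mul_left_cancel (mul_right_cancel this)

theorem data_sz (h : IsSzField F m) (hn : ¬ IsMulCommutative (SzG F m)) :
    Data (SzG F m) (Nat.card F) := by
  have := finite_G h
  haveI := isSimpleGroup_Sz h
  have hinj := conj_injective hn
  have := h.finite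
  haveI : Finite (MulAut (SzG F m)) := Finite.of_injective (fun a => (⇑a)) DFunLike.coe_injective
  have key : ∀ E : Subgroup (MulAut (SzG F m)), Cfsg.IsElementaryAbelian 2 E →
      ∃ A : Subgroup (SzG F m), Cfsg.IsElementaryAbelian 2 A ∧ A.map MulAut.conj = E := by
    intro E hE
    refine ⟨E.comap MulAut.conj, ⟨⟨⟨fun a b => Subtype.ext (hinj ?_)⟩⟩, fun a ha => hinj ?_⟩,
      map_comap_eq_self ?_⟩
    · simp only [MulMemClass.coe_mul, map_mul]
      exact CfsgLib.Thompson.elab_commute hE a.2 b.2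
    · rw [map_pow, map_one]
      exact hE.2 _ ha
    · intro e he
      obtain ⟨c, hc⟩ := sz_inner h e (by rw [← pow_two]; exact hE.2 e he)
      exact ⟨c, hc.symm⟩
  refine ⟨⟨uE h 0 1, by rw [← pow_two, ← orderOf_uE_two h (one_ne_zero (α := F)), pow_orderOf_eq_one],
    fun e => one_ne_zero ((uE_eq_one h).1 e).2⟩, fun E hE => ?_, fun E hE h2 => ?_, fun s hs hs1 => ?_⟩
  · obtain ⟨A, hA, rfl⟩ := key E hE
    exact (Nat.le_of_dvd Nat.card_pos (card_map_dvd A MulAut.conj)).trans (sz_elab_card_le h A hA)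
  · obtain ⟨A, hA, rfl⟩ := key E hE
    have hA1 : A ≠ ⊥ := fun h' => by
      rw [h', Subgroup.map_bot, card_bot] at h2
      omega
    obtain ⟨⟨s, hs⟩, hs1⟩ := ne_bot_iff_exists_ne_one.1 hA1
    exact ⟨s, by rw [← pow_two]; exact hA.2 s hs, fun h' => hs1 (Subtype.ext h'),
      mem_map_of_mem _ hs⟩
  · set k := 4 * (2 * m + 1) with hk
    obtain ⟨r, hr, hrk⟩ := CfsgLib.Primitive2.exists_primitive (k := k) (by have := h.pos; omega)
      (by have := h.pos; omega)
    have hdvd : r ∣ Nat.card F ^ 2 + 1 := by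
      rw [h.card, ← pow_mul]
      have h1 := (hrk k).2 dvd_rfl
      have e : 2 ^ k - 1 = (2 ^ ((2 * m + 1) * 2) + 1) * (2 ^ ((2 * m + 1) * 2) - 1) := by
        rw [← Nat.sq_sub_sq, one_pow, ← pow_mul, show (2 * m + 1) * 2 * 2 = k by omega]
      rw [e] at h1
      refine (hr.dvd_mul.1 h1).resolve_right fun hh => ?_
      have := Nat.le_of_dvd (by omega) ((hrk _).1 hh)
      omega
    refine ⟨r, hr, fun e => ?_, exists_prod_conj_involution h hr hdvd hs1 hs, fun j i hj hd hij => ?_⟩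
    · subst e
      exact (Nat.not_even_iff_odd.2 (odd_card_sq_add_one h)) (even_iff_two_dvd.2 hdvd)
    · have := Nat.le_of_dvd hj ((hrk j).1 hd)
      rw [h.card, ← pow_mul]
      exact Nat.pow_le_pow_right (by norm_num) (by omega)

end Suzuki

section PSL

open Matrix
open CfsgLib.SL2C (SL)
open CfsgLib.Linear.SmallSub (proj P2)

variable {F : Type*} [Field F] [Fintype F]

theorem pow_mod_cycle {M n x : ℕ} (h : x ^ n % M = 1) (k : ℕ) :
    x ^ k % M = x ^ (k % n) % M := by
  conv_lhs => rw [← Nat.mod_add_div k n]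
  rw [pow_add, pow_mul, Nat.mul_mod, Nat.pow_mod (x ^ n), h, one_pow, Nat.mul_mod_mod,
    Nat.mul_one, Nat.mod_mod]

/-- A prime divisor of `(3^m-1)/2`, `m` odd, is not among the small primes. -/
theorem large_prime {m : ℕ} (hm : Odd m) (h3 : 3 ≤ m) :
    ∃ r : ℕ, r.Prime ∧ r ≠ 2 ∧ r ∣ 3 ^ m - 1 ∧
      ∀ j, 1 ≤ j → r ∣ 2 ^ j - 1 → 7 ≤ j := by
  have h4 : 3 ^ m % 4 = 3 := by
    rw [pow_mod_cycle (M := 4) (n := 2) (by norm_num) m, Nat.odd_iff.1 hm]; norm_num
  have hbig : 27 ≤ 3 ^ m := (by norm_num : (27 : ℕ) ≤ 3 ^ 3).trans (Nat.pow_le_pow_right (by norm_num) h3)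
  obtain ⟨r, hr, hrd⟩ := Nat.exists_prime_and_dvd (show (3 ^ m - 1) / 2 ≠ 1 by omega)
  have hd : r ∣ 3 ^ m - 1 := hrd.trans (Nat.div_dvd_of_dvd (by omega))
  have hr2 : r ≠ 2 := by
    rintro rfl
    omega
  have hmod : 3 ^ m % r = 1 := by
    have h1 : (3 ^ m - 1) % r = 0 := Nat.mod_eq_zero_of_dvd hd
    have := (Nat.modEq_iff_dvd' (show 1 ≤ 3 ^ m by omega)).2 hd
    rw [Nat.ModEq, Nat.one_mod_eq_one.2 hr.ne_one] at this
    exact this.symm
  refine ⟨r, hr, hr2, hd, fun j hj hdj => ?_⟩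
  by_contra hj7
  have hr3 : r ≠ 3 := by
    rintro rfl
    rw [Nat.pow_mod] at hmod
    simp [zero_pow (show m ≠ 0 by omega)] at hmod
  have h5 : r ≠ 5 := by
    rintro rfl
    rw [pow_mod_cycle (M := 5) (n := 4) (by norm_num) m] at hmod
    have : m % 4 = 1 ∨ m % 4 = 3 := by have := Nat.odd_iff.1 hm; omega
    rcases this with e | e <;> rw [e] at hmod <;> norm_num at hmod
  have h7 : r ≠ 7 := by
    rintro rfl
    rw [pow_mod_cycle (M := 7) (n := 6) (by norm_num) m] at hmod
    have : m % 6 = 1 ∨ m % 6 = 3 ∨ m % 6 = 5 := by have := Nat.odd_iff.1 hm; omega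
    rcases this with e | e | e <;> rw [e] at hmod <;> norm_num at hmod
  have h31 : r ≠ 31 := by
    rintro rfl
    rw [pow_mod_cycle (M := 31) (n := 30) (by norm_num) m] at hmod
    have h30 : m % 30 % 2 = 1 := by have := Nat.odd_iff.1 hm; omega
    have : m % 30 < 30 := Nat.mod_lt _ (by norm_num)
    interval_cases he : m % 30 <;> omega
  have hp : ∀ p : ℕ, p.Prime → r ∣ p → r = p := fun p hp h => (Nat.prime_dvd_prime_iff_eq hr hp).1 h
  have h22 : ∀ a b : ℕ, r ∣ a * b → r ∣ a ∨ r ∣ b := fun a b => hr.dvd_mul.1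
  interval_cases j
  · norm_num at hdj
    exact hr.ne_one hdj
  · exact hr3 (hp 3 Nat.prime_three hdj)
  · exact h7 (hp 7 (by norm_num) hdj)
  · rcases h22 3 5 hdj with h | h
    exacts [hr3 (hp 3 Nat.prime_three h), h5 (hp 5 (by norm_num) h)]
  · exact h31 (hp 31 (by norm_num) hdj)
  · rcases h22 9 7 hdj with h | h
    · rcases h22 3 3 h with h | h <;> exact hr3 (hp 3 Nat.prime_three h)
    · exact h7 (hp 7 (by norm_num) h)

theorem data_psl {n : ℕ} (hn : 1 ≤ n) (hF : Fintype.card F = 3 ^ (2 * n + 1))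
    (hna : ¬ IsMulCommutative (Matrix.ProjectiveSpecialLinearGroup (Fin 2) F)) :
    Data (Matrix.ProjectiveSpecialLinearGroup (Fin 2) F) 4 := by
  classical
  set q := Fintype.card F with hq
  have h8 : q % 8 = 3 := by
    rw [hF, pow_mod_cycle (M := 8) (n := 2) (by norm_num) (2 * n + 1), Nat.mul_add_mod]
    norm_num
  have hodd : Odd q := Nat.odd_iff.2 (by omega)
  have hq27 : 27 ≤ q := hF ▸ (by norm_num : (27 : ℕ) ≤ 3 ^ 3).trans
    (Nat.pow_le_pow_right (by norm_num) (by omega))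
  haveI : Fact (Nat.Prime 3) := ⟨Nat.prime_three⟩
  haveI : Fact (Nat.Prime 2) := ⟨Nat.prime_two⟩
  set S := Matrix.ProjectiveSpecialLinearGroup (Fin 2) F
  haveI : Finite (MulAut S) := Finite.of_injective (fun a => (⇑a)) DFunLike.coe_injective
  have h2F : (2 : F) ≠ 0 := CfsgLib.SL2C.two_ne_zero_of_odd hodd
  set D := Cfsg.inndiagPSL 2 F with hD
  obtain ⟨eD⟩ := CfsgLib.AutPSL.nonempty_inndiag_equiv_PGL (F := F) (n := 2) le_rfl
  have hDcard : Nat.card D = q * (q ^ 2 - 1) := by
    rw [Nat.card_congr eD.toEquiv, hq, ← Nat.card_eq_fintype_card (α := F)]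
    exact CfsgLib.Linear.PSLTwo.card_pgl
  have hle : ∀ E : Subgroup (MulAut S), Cfsg.IsElementaryAbelian 2 E → E ≤ D := by
    intro E hE e he
    rw [hD, ← CfsgLib.AutPSL.ker_fieldData, MonoidHom.mem_ker]
    obtain ⟨eR⟩ := CfsgLib.AutPSL.nonempty_ringAut_equiv (p := 3) (f := 2 * n + 1) (by omega) hF
    refine orderOf_eq_one_iff.1 (Nat.eq_one_of_dvd_coprimes
      (Nat.coprime_two_left.2 (?_ : Odd (Nat.card (RingAut F))))
      (orderOf_dvd_of_pow_eq_one (n := 2) ?_) (orderOf_dvd_natCard _))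
    · rw [Nat.card_congr eR.toEquiv]
      simp
    · rw [← map_pow, hE.2 e he, map_one]
  have hsmall : ∀ E : Subgroup (MulAut S), Cfsg.IsElementaryAbelian 2 E → Nat.card E ≤ 4 := by
    intro E hE
    by_contra hlt
    have hdvd : Nat.card E ∣ q * (q ^ 2 - 1) := hDcard ▸ card_dvd_of_le (hle E hE)
    obtain ⟨a, ha⟩ := (IsPGroup.iff_card (p := 2)).1 (CfsgLib.Thompson.elab_isPGroup hE)
    have ha3 : 3 ≤ a := by
      by_contra h'
      refine hlt ?_
      rw [ha]
      exact Nat.pow_le_pow_right (show 1 ≤ 2 by norm_num) (show a ≤ 2 by omega)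
    have h16 : ¬ 16 ∣ q * (q ^ 2 - 1) := by
      intro h
      obtain ⟨t, ht⟩ : ∃ t, q = 8 * t + 3 := ⟨q / 8, by omega⟩
      have h' : 16 ∣ q ^ 2 - 1 := by
        refine Nat.Coprime.dvd_of_dvd_mul_left ?_ h
        rw [show 16 = 2 ^ 4 by norm_num]
        exact Nat.Coprime.pow_left _ (Nat.coprime_two_left.2 hodd)
      rw [ht, show (8 * t + 3) ^ 2 - 1 = 16 * (4 * t * t + 3 * t) + 8 by
        rw [show (8 * t + 3) ^ 2 = 16 * (4 * t * t + 3 * t) + 8 + 1 by ring]; simp] at h'
      omega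
    have ha' : a = 3 := by
      by_contra h'
      exact h16 ((by rw [ha]; exact (pow_dvd_pow 2 (show 4 ≤ a by omega)) :
        16 ∣ Nat.card E).trans hdvd)
    subst ha'
    set E' := E.subgroupOf D with hE'
    have hE'c : Nat.card E' = 8 := by
      rw [Nat.card_congr (subgroupOfEquivOfLe (hle E hE)).toEquiv, ha]; norm_num
    have hE'p : IsPGroup 2 E' := IsPGroup.of_card (n := 3) (by rw [hE'c]; norm_num)
    obtain ⟨P, hP⟩ := hE'p.exists_le_sylow
    have hPeq : E' = (P : Subgroup D) := by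
      refine eq_of_le_of_card_ge hP ?_
      obtain ⟨b, hb⟩ := (IsPGroup.iff_card (p := 2)).1 P.2
      rw [hE'c, hb]
      have hb4 : b < 4 := by
        by_contra h'
        refine h16 ((pow_dvd_pow 2 (show 4 ≤ b by omega)).trans ?_)
        rw [← hb, ← hDcard]
        exact Subgroup.card_subgroup_dvd_card _
      calc 2 ^ b ≤ 2 ^ 3 := Nat.pow_le_pow_right (by norm_num) (by omega)
        _ = 8 := by norm_num
    let g : GL (Fin 2) F := Matrix.GeneralLinearGroup.mkOfDetNeZero !![1, 1; -1, 1] (by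
      rw [Matrix.det_fin_two_of]; ring_nf; exact h2F)
    have hgv : (g : Matrix (Fin 2) (Fin 2) F) = !![1, 1; -1, 1] := rfl
    let z : D := ⟨CfsgLib.AutPSL.innDiagHom 2 F g, by
      rw [hD, CfsgLib.AutPSL.inndiag_eq_range]; exact ⟨g, rfl⟩⟩
    have hz4 : z ^ 4 = 1 := by
      refine Subtype.ext ?_
      show (CfsgLib.AutPSL.innDiagHom 2 F g) ^ 4 = 1
      rw [← map_pow, ← MonoidHom.mem_ker, CfsgLib.AutPSL.ker_innDiagHom le_rfl,
        Matrix.GeneralLinearGroup.center_eq_range_scalar]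
      refine ⟨Units.mk0 (-4) (by
        intro h; exact h2F (mul_self_eq_zero.1 (by linear_combination -h))), Units.ext ?_⟩
      rw [Units.val_pow_eq_pow_val, hgv]
      ext i j
      fin_cases i <;> fin_cases j <;>
        simp [pow_succ, Matrix.mul_apply, Fin.sum_univ_two] <;> ring
    have hz2 : z ^ 2 ≠ 1 := by
      intro h
      have h' := congrArg Subtype.val h
      change (CfsgLib.AutPSL.innDiagHom 2 F g) ^ 2 = 1 at h'
      rw [← map_pow, CfsgLib.AutPSL.innDiagHom_apply] at h'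
      obtain ⟨c, hc⟩ := (CfsgLib.AutPSL.semiAut_eq_one le_rfl h').2
      have h01 := congrFun (congrFun hc 0) 1
      rw [Units.val_pow_eq_pow_val, hgv] at h01
      simp [pow_two, Matrix.mul_apply, Fin.sum_univ_two] at h01
      exact h2F (by linear_combination h01)
    have hzp : IsPGroup 2 (zpowers z) := IsPGroup.of_card (n := 2) (by
      rw [Nat.card_zpowers]
      exact orderOf_eq_prime_pow (n := 1) (by simpa using hz2) (by simpa using hz4))
    obtain ⟨Q, hQ⟩ := hzp.exists_le_sylow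
    obtain ⟨d, hd⟩ := MulAction.exists_smul_eq D Q P
    have hzd : d * z * d⁻¹ ∈ (P : Subgroup D) := by
      rw [← hd]
      exact ⟨z, hQ (mem_zpowers z), rfl⟩
    rw [← hPeq, hE', mem_subgroupOf] at hzd
    refine hz2 ?_
    have h1 : (d * z * d⁻¹) ^ 2 = 1 := Subtype.ext (hE.2 _ hzd)
    rw [conj_pow] at h1
    exact conj_eq_one_iff.1 h1
  refine ⟨⟨QuotientGroup.mk (CfsgLib.Linear.FourGroups.std F), ?_, fun h => ?_⟩,
    hsmall, fun E hE h2 => ?_, fun s hs hs1 => ?_⟩
  · rw [← QuotientGroup.mk_mul, CfsgLib.PSL2Spec.mk_eq_one_iff]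
    refine ⟨-1, ?_⟩
    rw [Matrix.SpecialLinearGroup.coe_mul]
    ext i j
    fin_cases i <;> fin_cases j <;> simp [CfsgLib.Linear.FourGroups.std, Matrix.mul_apply,
      Fin.sum_univ_two]
  · obtain ⟨c, hc⟩ := (CfsgLib.PSL2Spec.mk_eq_one_iff _).1 h
    have := congrFun (congrFun hc 1) 0
    simp [CfsgLib.Linear.FourGroups.std] at this
  · -- an elementary group of order four meets the inner automorphisms
    set I := (MulAut.conj : S →* MulAut S).range with hI
    have hID : I ≤ D := CfsgLib.AutPSL.inn_le_inndiag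
    haveI : IsSimpleGroup S :=
      CfsgLib.Linear.PSLTwo.isSimple (by rw [Nat.card_eq_fintype_card]; omega)
    have hinj := conj_injective hna
    have hIc : 2 * Nat.card I = Nat.card D := by
      rw [hDcard, Nat.card_congr (MonoidHom.ofInjective hinj).symm.toEquiv]
      have h' := CfsgLib.Linear.PSLTwo.mul_card (F := F)
      rw [Nat.card_eq_fintype_card (α := F), ← hq, Nat.gcd_eq_left (show 2 ∣ q - 1 by omega)] at h'
      exact h'
    have h1 : I.relIndex E ≤ 2 := by
      refine (relIndex_le_of_le_right (hle E hE) ?_).trans (le_of_eq ?_)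
      · exact index_ne_zero_of_finite
      · have h' : Nat.card I * I.relIndex D = Nat.card D := by
          rw [← relIndex_bot_left I, relIndex_mul_relIndex ⊥ I D bot_le hID, relIndex_bot_left]
        have hpos : 0 < Nat.card I := Nat.card_pos
        rw [← hIc] at h'
        exact Nat.eq_of_mul_eq_mul_left hpos (h'.trans (mul_comm _ _))
    have hne : E ⊓ I ≠ ⊥ := by
      intro h0
      have h' : I.relIndex E = Nat.card E := by
        rw [← inf_relIndex_right, inf_comm, h0, relIndex_bot_left]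
      omega
    obtain ⟨⟨_, he, s, rfl⟩, hs1⟩ := ne_bot_iff_exists_ne_one.1 hne
    refine ⟨s, hinj ?_, fun h' => hs1 (Subtype.ext (by simp [h'])), he⟩
    rw [map_mul, map_one, ← pow_two, hE.2 _ he]
  · obtain ⟨r, hr, hr2, hd, hj⟩ := large_prime (odd_two_mul_add_one n) (by omega)
    haveI : Fact r.Prime := ⟨hr⟩
    obtain ⟨a, ha⟩ := exists_prime_orderOf_dvd_card' (G := Fˣ) r (by
      rw [Nat.card_units, Nat.card_eq_fintype_card, ← hq, hF]; exact hd)
    have hae : (a : F) * ((a⁻¹ : Fˣ) : F) = 1 := by simp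
    let X : SL F := ⟨!![(a : F), 0; 0, ((a⁻¹ : Fˣ) : F)], by simp [Matrix.det_fin_two]⟩
    let T : SL F := CfsgLib.Linear.FourGroups.std F
    let x : S := QuotientGroup.mk X
    let t : S := QuotientGroup.mk T
    have hXp : ∀ k : ℕ, ((X ^ k : SL F) : Matrix (Fin 2) (Fin 2) F) =
        !![(a : F) ^ k, 0; 0, ((a⁻¹ : Fˣ) : F) ^ k] := by
      intro k
      induction k with
      | zero => simp [Matrix.one_fin_two]
      | succ k ih =>
        rw [pow_succ, Matrix.SpecialLinearGroup.coe_mul, ih]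
        simp [X, pow_succ]
    have hxo : orderOf x = r := by
      refine orderOf_eq_prime ?_ fun h => ?_
      · rw [← QuotientGroup.mk_pow, CfsgLib.PSL2Spec.mk_eq_one_iff]
        refine ⟨1, ?_⟩
        rw [hXp, ← Units.val_pow_eq_pow_val, ← Units.val_pow_eq_pow_val, inv_pow,
          show a ^ r = 1 from ha ▸ pow_orderOf_eq_one a]
        simp [Matrix.one_fin_two]
      · obtain ⟨c, hc⟩ := (CfsgLib.PSL2Spec.mk_eq_one_iff X).1 h
        have h00 : (a : F) = c := by simpa [X] using congrFun (congrFun hc 0) 0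
        have h11 : ((a⁻¹ : Fˣ) : F) = c := by simpa [X] using congrFun (congrFun hc 1) 1
        have h2 : a ^ 2 = 1 := Units.ext (by
          rw [Units.val_pow_eq_pow_val, pow_two, Units.val_one]
          nth_rewrite 2 [h00.trans h11.symm]
          exact hae)
        exact hr2 ((Nat.prime_dvd_prime_iff_eq hr Nat.prime_two).1
          (ha ▸ orderOf_dvd_of_pow_eq_one h2))
    have htt : t * t = 1 := by
      rw [← QuotientGroup.mk_mul, CfsgLib.PSL2Spec.mk_eq_one_iff]
      refine ⟨-1, ?_⟩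
      rw [Matrix.SpecialLinearGroup.coe_mul]
      ext i j
      fin_cases i <;> fin_cases j <;> simp [T, CfsgLib.Linear.FourGroups.std, Matrix.mul_apply,
        Fin.sum_univ_two]
    have ht1 : t ≠ 1 := by
      intro h
      obtain ⟨c, hc⟩ := (CfsgLib.PSL2Spec.mk_eq_one_iff T).1 h
      have := congrFun (congrFun hc 1) 0
      simp [T, CfsgLib.Linear.FourGroups.std] at this
    have hxt : x * t * (x * t) = 1 := by
      rw [← QuotientGroup.mk_mul, ← QuotientGroup.mk_mul, CfsgLib.PSL2Spec.mk_eq_one_iff]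
      refine ⟨-1, ?_⟩
      simp only [Matrix.SpecialLinearGroup.coe_mul]
      ext i j
      fin_cases i <;> fin_cases j <;> simp [T, X, CfsgLib.Linear.FourGroups.std, Matrix.mul_apply,
        Fin.sum_univ_two]
    have hxt1 : x * t ≠ 1 := fun h => by
      have e : x = t := by
        rw [eq_inv_of_mul_eq_one_left h, inv_eq_of_mul_eq_one_right htt]
      have h2 : orderOf x ∣ 2 := orderOf_dvd_of_pow_eq_one (by rw [e, pow_two, htt])
      rw [hxo] at h2
      exact hr2 ((Nat.prime_dvd_prime_iff_eq hr Nat.prime_two).1 h2)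
    obtain ⟨c, hc⟩ := isConj_iff.1
      (CfsgLib.Linear.FourGroups.involutions_conj hodd hs hs1 hxt hxt1)
    obtain ⟨d, hd'⟩ := isConj_iff.1 (CfsgLib.Linear.FourGroups.involutions_conj hodd hs hs1 htt ht1)
    refine ⟨r, hr, hr2, ⟨c, d, ?_⟩, fun j i hj' hdj hij => ?_⟩
    · rw [hc, hd', mul_assoc, htt, mul_one, hxo]
    · have := hj j hj' hdj
      calc 4 ^ 2 = 2 ^ 4 := by norm_num
        _ ≤ 2 ^ i := Nat.pow_le_pow_right (by norm_num) (by omega)

theorem not_simple_three (hF : Fintype.card F = 3)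
    [IsSimpleGroup (Matrix.ProjectiveSpecialLinearGroup (Fin 2) F)]
    (hn : ¬ IsMulCommutative (Matrix.ProjectiveSpecialLinearGroup (Fin 2) F)) : False := by
  have hs : Group.IsSolvable (Matrix.ProjectiveSpecialLinearGroup (Fin 2) F) := by
    have h := CfsgLib.Linear.PSLTwo.mul_card (F := F)
    rw [Nat.card_eq_fintype_card (α := F), hF] at h
    norm_num [-Nat.card_eq_fintype_card] at h
    change 2 * Nat.card (Matrix.ProjectiveSpecialLinearGroup (Fin 2) F) = 24 at h
    exact CfsgLib.Char.isSolvable_of_card_eq 2 3 2 1 Nat.prime_two Nat.prime_three (by omega)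
  exact hn (IsSimpleGroup.comm_iff_isSolvable.2 hs |> fun h => ⟨⟨h⟩⟩)

end PSL

theorem data_of_type {S : Type u} [Group S] [IsSimpleGroup S] (hn : ¬ IsMulCommutative S)
    (h : Cfsg.IsSuzukiOrPSL2OddPowerThree S) : ∃ N, Data S N := by
  rcases h with ⟨F, _, _, m, hm, hF, ⟨e⟩⟩ | ⟨F, _, _, n, hF, ⟨e⟩⟩
  · have h := CfsgLib.Suzuki.isSzField_of_card hm hF
    set e' := e.trans (CfsgLib.Suzuki.lieEquiv h).symm
    exact ⟨_, (data_sz h (not_comm_of e' hn)).congr e'⟩
  · rcases Nat.eq_zero_or_pos n with rfl | hn1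
    · exfalso
      haveI : IsSimpleGroup (Matrix.ProjectiveSpecialLinearGroup (Fin 2) F) :=
        e.symm.isSimpleGroup
      exact not_simple_three (by simpa using hF) (not_comm_of e hn)
    · exact ⟨_, (data_psl hn1 hF (not_comm_of e hn)).congr e⟩

end CfsgLib.SThreeFree.K
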