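import Cfsg.Agent.Suzuki.Subgroups
import Cfsg.Agent.Suzuki.LieModel
import Cfsg.Agent.Classical.PSLTwoSub
import Cfsg.Agent.SThreeFree.K.Model
import Cfsg.Prelude.Def_LocalEven
import Cfsg.Prelude.Def_Local

/-!
Groups all of whose non-abelian composition factors are Suzuki groups or `PSL₂(3^odd)` have the
same property for all subgroups and sections.
-/

set_option autoImplicit false
set_option linter.unusedSectionVars false
set_option linter.style.haveILetI false

namespace CfsgLib.SThreeFree.K

open Subgroup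

universe u v

/-- `Sz(2^odd)` or `PSL₂(3^odd)`. -/
abbrev SzL (X : Type u) [Group X] : Prop := Cfsg.IsSuzukiOrPSL2OddPowerThree X

theorem SzL.congr {X : Type u} {Y : Type v} [Group X] [Group Y] (h : SzL X) (e : X ≃* Y) :
    SzL Y := by
  rcases h with ⟨F, iF, iF', m, hm, hc, ⟨eS⟩⟩ | ⟨F, iF, iF', m, hc, ⟨eS⟩⟩
  · exact Or.inl ⟨F, iF, iF', m, hm, hc, ⟨e.symm.trans eS⟩⟩
  · exact Or.inr ⟨F, iF, iF', m, hc, ⟨e.symm.trans eS⟩⟩

/-- Every non-abelian simple image of the group is a Suzuki group or `PSL₂(3^odd)`. -/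
def TopK (H : Type u) [Group H] : Prop :=
  ∀ (N : Subgroup H) [N.Normal], IsSimpleGroup (H ⧸ N) → ¬ IsMulCommutative (H ⧸ N) → SzL (H ⧸ N)

/-- Every non-abelian simple section is a Suzuki group or `PSL₂(3^odd)`. -/
abbrev KAll (G : Type u) [Group G] : Prop :=
  Cfsg.IsKGroupWith Cfsg.IsSuzukiOrPSL2OddPowerThree G

theorem topK_of_solvable {H : Type u} [Group H] (hs : Group.IsSolvable H) : TopK H := by
  intro N hN hsimp hnc
  haveI := hs
  haveI : Group.IsSolvable (H ⧸ N) := Group.isSolvable_of_surjective (QuotientGroup.mk'_surjective N)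
  exact absurd ⟨⟨(IsSimpleGroup.comm_iff_isSolvable (G := H ⧸ N)).2 inferInstance⟩⟩ hnc

theorem topK_of_simple {H : Type u} [Group H] [IsSimpleGroup H] (h : SzL H) : TopK H := by
  intro N hN hsimp hnc
  rcases hN.eq_bot_or_eq_top with rfl | rfl
  · exact SzL.congr h (QuotientGroup.quotientBot (G := H)).symm
  · refine absurd ⟨⟨fun a b => ?_⟩⟩ hnc
    haveI := QuotientGroup.subsingleton_quotient_top (G := H)
    exact Subsingleton.elim _ _

/-- Passing through a hom whose range is normal with abelian quotient. -/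
theorem topK_of_comm_index {I H : Type u} [Group I] [Group H] [IsSimpleGroup I] (f : I →* H)
    (hI : SzL I) (hf : ∀ a b : H, a * b * a⁻¹ * b⁻¹ ∈ f.range) : TopK H := by
  intro N hN hsimp hnc
  haveI hn : f.range.Normal := ⟨fun x hx g => by
    have := f.range.mul_mem (hf g x) hx
    rwa [inv_mul_cancel_right] at this⟩
  set q := QuotientGroup.mk' N
  haveI : (f.range.map q).Normal := hn.map q (QuotientGroup.mk'_surjective N)
  rcases (inferInstance : (f.range.map q).Normal).eq_bot_or_eq_top with h | h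
  · refine absurd ⟨⟨fun a b => ?_⟩⟩ hnc
    obtain ⟨a, rfl⟩ := QuotientGroup.mk'_surjective N a
    obtain ⟨b, rfl⟩ := QuotientGroup.mk'_surjective N b
    have h1 : q (a * b * a⁻¹ * b⁻¹) ∈ f.range.map q := mem_map_of_mem q (hf a b)
    rw [h, mem_bot, map_mul, map_mul, map_mul, map_inv, map_inv, mul_inv_eq_one,
      mul_inv_eq_iff_eq_mul] at h1
    exact h1
  · have hs : Function.Surjective (q.comp f) := by
      rw [← MonoidHom.range_eq_top, MonoidHom.range_comp, h]
    have hk : (q.comp f).ker = ⊥ := by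
      refine (q.comp f).normal_ker.eq_bot_or_eq_top.resolve_right fun hk => ?_
      refine hnc ⟨⟨fun a b => ?_⟩⟩
      obtain ⟨a, rfl⟩ := hs a
      obtain ⟨b, rfl⟩ := hs b
      rw [show (q.comp f) a = 1 from MonoidHom.mem_ker.1 (hk ▸ mem_top a),
        show (q.comp f) b = 1 from MonoidHom.mem_ker.1 (hk ▸ mem_top b)]
    exact SzL.congr hI (MulEquiv.ofBijective (q.comp f) ⟨(MonoidHom.ker_eq_bot_iff _).1 hk, hs⟩)

theorem TopK.congr {H H' : Type u} [Group H] [Group H'] (h : TopK H) (e : H' ≃* H) : TopK H' := by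
  intro N hN hsimp hnc
  haveI : (N.map e.toMonoidHom).Normal := hN.map _ e.surjective
  have e' := QuotientGroup.congr N (N.map e.toMonoidHom) e rfl
  haveI := hsimp
  exact SzL.congr (h _ e'.symm.isSimpleGroup (not_comm_of e' hnc)) e'.symm

section Sz

open CfsgLib.Suzuki

theorem topK_sz {F : Type} [Field F] {m : ℕ} (h : IsSzField F m) (H : Subgroup (SzG F m)) :
    TopK H := by
  by_cases hs : Group.IsSolvable H
  · exact topK_of_solvable hs
  obtain ⟨j, hj, hdiv, φ, c, hc⟩ := nonsolvable_cases h hs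
  haveI := finite_G h
  have e1 : H ≃* conjBy c H := H.equivMapOfInjective _ (MulAut.conj c).injective
  have e2 := MonoidHom.ofInjective (szMap_injective φ (galoisField_isSzField hj) hdiv h)
  have e3 := e1.trans ((MulEquiv.subgroupCongr hc).trans e2.symm)
  haveI := isSimpleGroup_Sz (galoisField_isSzField hj)
  letI := Fintype.ofFinite (GaloisField 2 (2 * j + 1))
  refine (topK_of_simple ?_).congr e3
  exact Or.inl ⟨GaloisField 2 (2 * j + 1), inferInstance, inferInstance, j, hj, by
    rw [← Nat.card_eq_fintype_card, GaloisField.card 2 (2 * j + 1) (by omega)],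
    ⟨lieEquiv (galoisField_isSzField hj)⟩⟩

end Sz

section PSL

open CfsgLib.Linear

theorem topK_psl {F : Type} [Field F] [Fintype F] {n : ℕ} (hF : Fintype.card F = 3 ^ (2 * n + 1))
    (H : Subgroup (Matrix.ProjectiveSpecialLinearGroup (Fin 2) F)) : TopK H := by
  classical
  by_cases hs : Group.IsSolvable H
  · exact topK_of_solvable hs
  haveI : Fact (Nat.Prime 3) := ⟨Nat.prime_three⟩
  haveI : CharP F 3 := by
    obtain ⟨c, hc⟩ := CharP.exists F
    obtain ⟨k, hp, he⟩ := FiniteField.card F c
    rw [hF] at he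
    have := (Nat.prime_dvd_prime_iff_eq hp Nat.prime_three).1
      (hp.dvd_of_dvd_pow (he ▸ dvd_pow_self c k.2.ne'))
    subst this
    exact hc
  rcases CfsgLib.Dickson.psl_classification 3 H with ⟨P, -, hle⟩ | ⟨hc, -, -⟩ |
    ⟨k, -, -, -, -, ⟨e⟩⟩ | ⟨hp, -⟩ | ⟨hp, -⟩ | ⟨-, -, hc, -⟩ | ⟨f, k, hf, hk, hq, hc⟩
  · obtain ⟨w, hw⟩ := PSLTwo.normalizer_eq_stabilizer 3 P
    refine absurd (PSLTwo.stabilizer_solvable w H fun g hg => ?_) hs
    have := hle hg
    rw [hw] at this
    exact this
  · exact absurd (Group.isSolvable_of_comm fun a b => mul_comm' a b) hs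
  · haveI := PSLTwo.dihedral_solvable k
    exact absurd (Group.isSolvable_of_isSolvable_injective (f := e.toMonoidHom) e.injective) hs
  · omega
  · omega
  · exfalso
    have h5 : 5 ∣ Nat.card F * (Nat.card F ^ 2 - 1) := by
      rw [← PSLTwo.mul_card]
      exact Dvd.dvd.mul_left (((by rw [hc]; norm_num : 5 ∣ Nat.card H)).trans
        H.card_subgroup_dvd_card) _
    rw [Nat.card_eq_fintype_card, hF] at h5
    have h9 : (3 ^ (2 * n + 1)) % 5 = 3 ∨ (3 ^ (2 * n + 1)) % 5 = 2 := by
      rw [pow_mod_cycle (M := 5) (n := 4) (by norm_num) (2 * n + 1)]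
      have : (2 * n + 1) % 4 = 1 ∨ (2 * n + 1) % 4 = 3 := by omega
      rcases this with e | e <;> rw [e] <;> norm_num
    have h1 : 1 ≤ (3 ^ (2 * n + 1)) ^ 2 := Nat.one_le_pow _ _ (by positivity)
    rcases (Nat.Prime.dvd_mul (by norm_num)).1 h5 with h | h
    · omega
    · have h2 := (Nat.modEq_iff_dvd' h1).2 h
      rw [Nat.ModEq, Nat.pow_mod] at h2
      rcases h9 with e | e <;> rw [e] at h2 <;> norm_num at h2
  · have hfn : f * k = 2 * n + 1 := by
      rw [← pow_mul, Nat.card_eq_fintype_card, hF] at hq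
      exact (Nat.pow_right_injective (by norm_num : 2 ≤ 3) hq).symm
    obtain ⟨j, rfl⟩ : Odd f := (Nat.odd_mul.1 (hfn ▸ odd_two_mul_add_one n)).1
    letI := Fintype.ofFinite (GaloisField 3 (2 * j + 1))
    have hcard : Fintype.card (GaloisField 3 (2 * j + 1)) = 3 ^ (2 * j + 1) := by
      rw [← Nat.card_eq_fintype_card, GaloisField.card 3 (2 * j + 1) (by omega)]
    have hK : SzL (CfsgLib.Dickson.PSL2 (GaloisField 3 (2 * j + 1))) :=
      Or.inr ⟨GaloisField 3 (2 * j + 1), inferInstance, inferInstance, j, hcard, ⟨MulEquiv.refl _⟩⟩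
    rcases Nat.eq_zero_or_pos j with rfl | hj
    · exfalso
      refine hs ?_
      have h3 : Nat.card (GaloisField 3 (2 * 0 + 1)) = 3 := by
        rw [GaloisField.card 3 _ (by omega)]; norm_num
      rcases hc with ⟨⟨e⟩⟩ | ⟨-, ⟨e⟩⟩
      · refine CfsgLib.Char.isSolvable_of_card_eq 2 3 3 1 Nat.prime_two Nat.prime_three ?_
        rw [Nat.card_congr e.toEquiv, PSLTwo.card_pgl, h3]
        norm_num
      · haveI := PSLTwo.solvable_small _ h3 le_rfl
        exact Group.isSolvable_of_isSolvable_injective (f := e.toMonoidHom) e.injective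
    haveI : IsSimpleGroup (CfsgLib.Dickson.PSL2 (GaloisField 3 (2 * j + 1))) :=
      PSLTwo.isSimple (by
        rw [GaloisField.card 3 _ (by omega)]
        exact le_trans (by norm_num) (Nat.pow_le_pow_right (by norm_num) (show 3 ≤ 2 * j + 1 by omega)))
    rcases hc with ⟨⟨e⟩⟩ | ⟨-, ⟨e⟩⟩
    · refine TopK.congr (topK_of_comm_index
        (Matrix.ProjectiveSpecialLinearGroup.toPGL (n := Fin 2)) hK fun a b => ?_) e
      obtain ⟨a, rfl⟩ := Matrix.ProjGenLinGroup.mk_surjective a
      obtain ⟨b, rfl⟩ := Matrix.ProjGenLinGroup.mk_surjective b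
      obtain ⟨s, hs'⟩ := CfsgLib.AutPSL.exists_eq_toGL (g := a * b * a⁻¹ * b⁻¹) (by
        simp only [map_mul, map_inv]
        rw [mul_comm (Matrix.GeneralLinearGroup.det a)]
        group)
      refine ⟨QuotientGroup.mk s, ?_⟩
      simp only [← map_mul, ← map_inv]
      rw [hs']
      rfl
    · exact (topK_of_simple hK).congr e

end PSL

theorem topK_sub {S : Type u} [Group S] [IsSimpleGroup S] (h : SzL S) (H : Subgroup S) :
    TopK H := by
  rcases h with ⟨F, _, _, m, hm, hF, ⟨e⟩⟩ | ⟨F, _, _, n, hF, ⟨e⟩⟩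
  · have h := CfsgLib.Suzuki.isSzField_of_card hm hF
    have key : ∀ H' : Subgroup (CfsgLib.Suzuki.SzG F m), ∀ (N : Subgroup H) [N.Normal],
        (H ≃* H') → IsSimpleGroup (H ⧸ N) → ¬ IsMulCommutative (H ⧸ N) → SzL (H ⧸ N) := by
      intro H' N hN e' hsimp hnc
      haveI : (N.map e'.toMonoidHom).Normal := hN.map _ e'.surjective
      have eq := QuotientGroup.congr N (N.map e'.toMonoidHom) e' rfl
      exact SzL.congr (topK_sz h H' _ eq.symm.isSimpleGroup (not_comm_of eq hnc)) eq.symm
    intro N hN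
    exact key _ N (H.equivMapOfInjective
      (e.trans (CfsgLib.Suzuki.lieEquiv h).symm).toMonoidHom
      (e.trans (CfsgLib.Suzuki.lieEquiv h).symm).injective)
  · intro N hN hsimp hnc
    have e' := H.equivMapOfInjective e.toMonoidHom e.injective
    haveI : (N.map e'.toMonoidHom).Normal := hN.map _ e'.surjective
    have eq := QuotientGroup.congr N (N.map e'.toMonoidHom) e' rfl
    exact SzL.congr (topK_psl hF _ _ eq.symm.isSimpleGroup (not_comm_of eq hnc)) eq.symm

/-- `TopK` of an extension. -/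
theorem topK_of_extension {H : Type u} [Group H] (M : Subgroup H) [M.Normal] (h1 : TopK M)
    (h2 : TopK (H ⧸ M)) : TopK H := by
  intro N hN hsimp hnc
  haveI hq : (M.map (QuotientGroup.mk' N)).Normal :=
    (inferInstance : M.Normal).map _ (QuotientGroup.mk'_surjective N)
  rcases hq.eq_bot_or_eq_top with h | h
  · have hle : M ≤ N := by
      rwa [Subgroup.map_eq_bot_iff, QuotientGroup.ker_mk'] at h
    haveI : (N.map (QuotientGroup.mk' M)).Normal := hN.map _ (QuotientGroup.mk'_surjective M)
    have e := QuotientGroup.quotientQuotientEquivQuotient M N hle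
    exact SzL.congr (h2 _ e.isSimpleGroup (not_comm_of e.symm hnc)) e
  · set f : M →* H ⧸ N := (QuotientGroup.mk' N).comp M.subtype
    have hf : Function.Surjective f := by
      rw [← MonoidHom.range_eq_top, MonoidHom.range_comp, range_subtype, h]
    have e := QuotientGroup.quotientKerEquivOfSurjective f hf
    exact SzL.congr (h1 _ e.isSimpleGroup (not_comm_of e.symm hnc)) e

theorem kAll_iff {G : Type u} [Group G] : KAll G ↔ ∀ H : Subgroup G, TopK H :=
  ⟨fun h H N hN => h H N, fun h H N hN => h H N⟩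

theorem kAll_of_extension {G : Type u} [Group G] (M : Subgroup G) [M.Normal] (h1 : KAll M)
    (h2 : KAll (G ⧸ M)) : KAll G := by
  rw [kAll_iff] at *
  intro H
  haveI : (M.subgroupOf H).Normal := normal_subgroupOf
  refine topK_of_extension (M.subgroupOf H) ?_ ?_
  · exact (h1 (H.subgroupOf M)).congr
      { toFun := fun x => ⟨⟨((x : H) : G), x.2⟩, (x : H).2⟩
        invFun := fun x => ⟨⟨((x : M) : G), x.2⟩, (x : M).2⟩
        left_inv := fun x => rfl
        right_inv := fun x => rfl
        map_mul' := fun x y => rfl }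
  · set f : H →* G ⧸ M := (QuotientGroup.mk' M).comp H.subtype
    have hk : f.ker = M.subgroupOf H := by
      ext x
      exact QuotientGroup.eq_one_iff (x : G)
    exact (h2 f.range).congr
      ((QuotientGroup.quotientMulEquivOfEq hk.symm).trans (QuotientGroup.quotientKerEquivRange f))

theorem kAll_subgroup {G : Type u} [Group G] (h : KAll G) (X : Subgroup G) : KAll X := by
  rw [kAll_iff] at *
  intro H
  exact (h (H.map X.subtype)).congr (H.equivMapOfInjective _ X.subtype_injective)

theorem kAll_surjective {G G' : Type u} [Group G] [Group G'] (h : KAll G) (f : G →* G')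
    (hf : Function.Surjective f) : KAll G' := by
  intro H N hN hsimp hnc
  set g : H.comap f →* H ⧸ N := (QuotientGroup.mk' N).comp (f.subgroupComap H)
  have hg : Function.Surjective g :=
    (QuotientGroup.mk'_surjective N).comp (fun y => by
      obtain ⟨x, hx⟩ := hf (y : G')
      exact ⟨⟨x, by rw [mem_comap, hx]; exact y.2⟩, Subtype.ext hx⟩)
  have e := QuotientGroup.quotientKerEquivOfSurjective g hg
  exact SzL.congr (h _ _ e.isSimpleGroup (not_comm_of e.symm hnc)) e

theorem kAll_compK {G : Type u} [Group G] (h : KAll G) :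
    Cfsg.IsCompositionKGroupWith Cfsg.IsSuzukiOrPSL2OddPowerThree G :=
  fun H _ N hN => h H N

/-- The composition factors control all sections. -/
theorem kAll_of_compK : ∀ (n : ℕ) {G : Type u} [Group G] [Finite G], Nat.card G = n →
    Cfsg.IsCompositionKGroupWith Cfsg.IsSuzukiOrPSL2OddPowerThree G → KAll G := by
  intro n
  induction n using Nat.strong_induction_on with | _ n ih => ?_
  intro G _ _ hn hc
  rcases subsingleton_or_nontrivial G with hsub | hnt
  · intro H N hN hsimp hnc
    haveI : Nontrivial (H ⧸ N) := hsimp.toNontrivial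
    obtain ⟨a, b, hab⟩ := exists_pair_ne (H ⧸ N)
    obtain ⟨a, rfl⟩ := QuotientGroup.mk_surjective a
    obtain ⟨b, rfl⟩ := QuotientGroup.mk_surjective b
    exact absurd (congrArg QuotientGroup.mk (Subtype.ext (Subsingleton.elim (a : G) b))) hab
  obtain ⟨M, ⟨hMn, hMne⟩, hmax⟩ := Set.Finite.exists_maximalFor id
    {M : Subgroup G | M.Normal ∧ M ≠ ⊤} (Set.toFinite _) ⟨⊥, inferInstance, bot_ne_top⟩
  haveI := hMn
  haveI : Nontrivial (G ⧸ M) := QuotientGroup.nontrivial_iff.2 hMne
  haveI hsimp : IsSimpleGroup (G ⧸ M) := by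
    refine ⟨fun N hN => ?_⟩
    by_cases he : N.comap (QuotientGroup.mk' M) = ⊤
    · refine Or.inr ?_
      rw [← map_comap_eq_self_of_surjective (QuotientGroup.mk'_surjective M) N, he,
        map_top_of_surjective _ (QuotientGroup.mk'_surjective M)]
    · refine Or.inl ?_
      have hle : M ≤ N.comap (QuotientGroup.mk' M) := fun x hx => by
        rw [mem_comap, show QuotientGroup.mk' M x = 1 from (QuotientGroup.eq_one_iff x).2 hx]
        exact one_mem _
      have := hmax ⟨hN.comap _, he⟩ hle
      simp only [id] at this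
      rw [← map_comap_eq_self_of_surjective (QuotientGroup.mk'_surjective M) N,
        le_antisymm this hle, Subgroup.map_eq_bot_iff, QuotientGroup.ker_mk']
  refine kAll_of_extension M (ih _ ?_ rfl ?_) ?_
  · rw [← hn]
    refine lt_of_le_of_ne (card_le_card_group M) fun e => hMne ?_
    exact eq_top_of_card_eq M e
  · intro H hH N hN hs hnc
    have e := H.equivMapOfInjective M.subtype M.subtype_injective
    haveI : (N.map e.toMonoidHom).Normal := hN.map _ e.surjective
    have eq := QuotientGroup.congr N (N.map e.toMonoidHom) e rfl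
    exact SzL.congr (hc (H.map M.subtype)
      (IsSubnormal.trans' hH (Normal.isSubnormal hMn)) _ eq.symm.isSimpleGroup
        (not_comm_of eq hnc)) eq.symm
  · by_cases hcm : IsMulCommutative (G ⧸ M)
    · intro H N hN hs hnc
      refine absurd ⟨⟨fun a b => ?_⟩⟩ hnc
      obtain ⟨a, rfl⟩ := QuotientGroup.mk_surjective a
      obtain ⟨b, rfl⟩ := QuotientGroup.mk_surjective b
      rw [← QuotientGroup.mk_mul, ← QuotientGroup.mk_mul, show a * b = b * a from
        Subtype.ext (hcm.is_comm.comm _ _)]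
    · have hK : SzL (G ⧸ M) := by
        haveI : (M.subgroupOf (⊤ : Subgroup G)).Normal := normal_subgroupOf
        have hme : (M.subgroupOf (⊤ : Subgroup G)).map
            (Subgroup.topEquiv : (⊤ : Subgroup G) ≃* G).toMonoidHom = M := by
          rw [show (Subgroup.topEquiv : (⊤ : Subgroup G) ≃* G).toMonoidHom = (⊤ : Subgroup G).subtype
            from rfl, subgroupOf_map_subtype, inf_top_eq]
        have eq := QuotientGroup.congr (M.subgroupOf (⊤ : Subgroup G)) M Subgroup.topEquiv hme
        exact SzL.congr (hc ⊤ (Normal.isSubnormal inferInstance) _ eq.isSimpleGroup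
          (not_comm_of eq.symm hcm)) eq
      exact kAll_iff.2 fun H => topK_sub hK H

end CfsgLib.SThreeFree.K
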