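import Cfsg.Agent.SThreeFree.K.Orbit
import Cfsg.Agent.Comp.Fitting
import Cfsg.Agent.Comp.Layer
import Cfsg.Agent.ZJ.DihedralSection
import Mathlib.GroupTheory.FiniteAbelian.Duality
import Mathlib.GroupTheory.SemidirectProduct

/-!
The bound `|A|² ≤ |M : C_M(A)|` for `S₃`-free groups with restricted composition factors.
-/

set_option autoImplicit false
set_option linter.unusedSectionVars false
set_option linter.style.haveILetI false

namespace CfsgLib.SThreeFree.K

open Subgroup

universe u

variable {Γ : Type u} [Group Γ] [Finite Γ]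

theorem elab_mono {A B : Subgroup Γ} (h : Cfsg.IsElementaryAbelian 2 A) (hle : B ≤ A) :
    Cfsg.IsElementaryAbelian 2 B :=
  ⟨⟨⟨fun a b => Subtype.ext (CfsgLib.Thompson.elab_commute h (hle a.2) (hle b.2))⟩⟩,
    fun a ha => h.2 a (hle ha)⟩

/-- The bound for a family. -/
theorem family_bound {X : Subgroup Γ} (h3 : ¬ CfsgLib.ZJ.Inverts 3 X) (n : ℕ) :
    ∀ (𝒦 : Set (Subgroup Γ)) (W A : Subgroup Γ), 𝒦.ncard = n → Fam W A X 𝒦 →
      Nat.card A ^ 2 ≤ idx W A := by
  induction n using Nat.strong_induction_on with | _ n ih => ?_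
  intro 𝒦 W A hn hF
  rcases Set.eq_empty_or_nonempty 𝒦 with rfl | ⟨K, hK⟩
  · have hA : A = ⊥ := by
      rw [eq_bot_iff]
      exact fun a ha => mem_bot.2 (hF.faith a ha fun K hK => absurd hK (Set.notMem_empty K))
    rw [hA, card_bot, one_pow]
    exact idx_pos W _
  classical
  set O : Set (Subgroup Γ) := {K' | ∃ a ∈ A, K' = K.map (MulAut.conj a).toMonoidHom} with hO
  have hOsub : O ⊆ 𝒦 := by
    rintro _ ⟨a, ha, rfl⟩; exact hF.perm a ha K hK
  have hKO : K ∈ O := ⟨1, one_mem _, by ext x; simp⟩
  have hOperm : ∀ a ∈ A, ∀ K' ∈ O, K'.map (MulAut.conj a).toMonoidHom ∈ O := by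
    rintro a ha _ ⟨b, hb, rfl⟩
    exact ⟨a * b, A.mul_mem ha hb, (map_conj_mul a b K).symm⟩
  set B := A ⊓ centralizer (⋃ K' ∈ O, (K' : Set Γ)) with hB
  have hBA : B ≤ A := inf_le_left
  have hBc : ∀ b ∈ B, ∀ K' ∈ O, ∀ k ∈ K', b * k = k * b := fun b hb K' hK' k hk =>
    (mem_centralizer_iff.1 hb.2 k (Set.mem_biUnion hK' hk)).symm
  obtain ⟨T, hTA, hTB, hsup⟩ := exists_compl hF.elabA hBA
  have hcA : ∀ a ∈ A, ∀ b ∈ A, a * b = b * a := fun a ha b hb =>
    CfsgLib.Thompson.elab_commute hF.elabA ha hb
  -- the remaining members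
  have hlt : (𝒦 \ O).ncard < n := by
    rw [← hn]
    exact Set.ncard_lt_ncard ⟨Set.diff_subset, fun h => (h hK).2 hKO⟩ (Set.toFinite _)
  have h1 : Nat.card B ^ 2 ≤ idx W B := ih _ hlt (𝒦 \ O) W B rfl
    { elabW := hF.elabW
      elabA := elab_mono hF.elabA hBA
      normA := hBA.trans hF.normA
      normK := fun K' h => hF.normK K' h.1
      leA := hBA.trans hF.leA
      leK := fun K' h => hF.leK K' h.1
      comm := fun K' h K'' h' => hF.comm K' h.1 K'' h'.1
      perm := fun b hb K' h => ⟨hF.perm b (hBA hb) K' h.1, fun hmem => h.2 (by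
        have := hOperm b⁻¹ (A.inv_mem (hBA hb)) _ hmem
        rw [← map_conj_mul, inv_mul_cancel] at this
        convert this using 1
        ext x; simp)⟩
      typ := fun K' h => hF.typ K' h.1
      nt := fun K' h => hF.nt K' h.1
      faith := fun b hb h => hF.faith b (hBA hb) fun K' hK' => by
        by_cases hm : K' ∈ O
        · exact hBc b hb K' hm
        · exact h K' ⟨hK', hm⟩ }
  set W' := W ⊓ centralizer (B : Set Γ) with hW'
  have hTF : Fam W' T X O :=
    { elabW := elab_mono hF.elabW inf_le_left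
      elabA := elab_mono hF.elabA hTA
      normA := fun t ht => mem_normalizer_inf_centralizer (hF.normA (hTA ht))
        fun b hb => hcA t (hTA ht) b (hBA hb)
      normK := fun K' h k hk => mem_normalizer_inf_centralizer (hF.normK K' (hOsub h) hk)
        fun b hb => (hBc b hb K' h k hk).symm
      leA := hTA.trans hF.leA
      leK := fun K' h => hF.leK K' (hOsub h)
      comm := fun K' h K'' h' => hF.comm K' (hOsub h) K'' (hOsub h')
      perm := fun t ht => hOperm t (hTA ht)
      typ := fun K' h => hF.typ K' (hOsub h)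
      nt := fun K' h hle => by
        obtain ⟨r, hr, hr2, x, hx, hxc⟩ := exists_prime_elt (hF.typ K' (hOsub h))
        refine hxc ((hF.typ K' (hOsub h)).mem_center_of_fixes (hF.normK K' (hOsub h))
          (hF.nt K' (hOsub h)) x.2 ?_)
        exact fixes_of_inf hF.elabW (elab_mono hF.elabA hBA) (hBA.trans hF.normA)
          (hF.normK K' (hOsub h) x.2) (by rw [Subgroup.orderOf_coe, hx]; exact hr.odd_of_ne_two hr2)
          (fun b hb => hBc b hb K' h x x.2)
          fun w hw => mul_inv_eq_iff_eq_mul.2 (mem_centralizer_iff.1 (hle x.2) w hw).symm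
      faith := fun t ht h => by
        have : t ∈ T ⊓ B := ⟨ht, hTA ht, mem_centralizer_iff.2 fun k hk => by
          obtain ⟨K', hK', hk⟩ := Set.mem_iUnion₂.1 hk
          exact (h K' hK' k hk).symm⟩
        rwa [hTB, mem_bot] at this }
  have h2 : Nat.card T ^ 2 ≤ idx W' T := by
    refine orbit_bound hTF h3 hKO ?_
    rintro _ ⟨a, ha, rfl⟩
    have ha' : a ∈ B ⊔ T := hsup.symm ▸ ha
    have hn : T ≤ normalizer (B : Set Γ) := fun t ht => mem_normalizer_fintype fun b hb => by
      show t * b * t⁻¹ ∈ B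
      rw [hcA t (hTA ht) b (hBA hb), mul_inv_cancel_right]; exact hb
    have ha'' : a ∈ ((B ⊔ T : Subgroup Γ) : Set Γ) := ha'
    rw [coe_mul_of_right_le_normalizer_left B T hn] at ha''
    obtain ⟨b, hb, t, ht, rfl⟩ := ha''
    refine ⟨t, ht, ?_⟩
    show K.map (MulAut.conj (b * t)).toMonoidHom = _
    rw [hcA b (hBA hb) t (hTA ht), map_conj_mul]
    congr 1
    ext x
    rw [mem_map_conj]
    constructor
    · intro hx
      have h' := hBc b hb K hKO _ hx
      have : b⁻¹ * x * b = x := by
        calc b⁻¹ * x * b = b⁻¹ * (b * (b⁻¹ * x * b)) := by group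
          _ = b⁻¹ * ((b⁻¹ * x * b) * b) := by rw [h']
          _ = (b * b)⁻¹ * x * (b * b) := by group
          _ = x := by rw [← pow_two, hF.elabA.2 b (hBA hb)]; group
      rwa [this] at hx
    · intro hx
      rwa [show b⁻¹ * x * b = x by rw [mul_assoc, ← hBc b hb K hKO x hx, inv_mul_cancel_left]]
  calc Nat.card A ^ 2 ≤ (Nat.card B * Nat.card T) ^ 2 :=
        Nat.pow_le_pow_left (card_sq_le hF.elabA hBA hTA hsup) 2
    _ = Nat.card B ^ 2 * Nat.card T ^ 2 := by ring
    _ ≤ idx W B * idx W' T := Nat.mul_le_mul h1 h2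
    _ = idx W A := by
      rw [idx_mul W hBA]
      congr 1
      rw [← hsup, idx_sup]

/-- The bound. -/
theorem k_bound {G : Type u} [Group G] [Finite G] (f : G →* Γ) (hf : Function.Injective f)
    (M : Subgroup Γ) (hM : Cfsg.IsElementaryAbelian 2 M)
    (hnorm : f.range ≤ normalizer (M : Set Γ)) (hfaith : f.range ⊓ centralizer (M : Set Γ) = ⊥)
    (hO : Cfsg.pCore 2 G = ⊥) (h3 : ¬ CfsgLib.ZJ.Inverts 3 G)
    (hc : Cfsg.IsCompositionKGroupWith Cfsg.IsSuzukiOrPSL2OddPowerThree G)
    (A : Subgroup G) (hA : Cfsg.IsElementaryAbelian 2 A) :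
    Nat.card A ^ 2 ≤ idx M (A.map f) := by
  classical
  haveI : Fact (Nat.Prime 2) := ⟨Nat.prime_two⟩
  set X := f.range
  have h3X : ¬ CfsgLib.ZJ.Inverts 3 X := by
    rw [CfsgLib.ZJ.inverts_subgroup_iff]
    rintro ⟨_, ⟨g, rfl⟩, _, ⟨x, rfl⟩, hx1, ⟨k, hk⟩, he⟩
    exact h3 ⟨g, x, fun e => hx1 (by rw [e, map_one]),
      ⟨k, hf (by rw [map_pow, hk, map_one])⟩,
      hf (by rw [map_mul, map_mul, map_inv, map_inv, he])⟩
  have heq1 : ∀ g : G, f g ∈ centralizer (M : Set Γ) → g = 1 := fun g hg => hf (by
    have h : f g ∈ X ⊓ centralizer (M : Set Γ) := ⟨⟨g, rfl⟩, hg⟩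
    rw [hfaith, mem_bot] at h
    rw [h, map_one])
  -- the Fitting subgroup has odd order
  set F := Cfsg.fittingSubgroup G with hF
  haveI hFnil : Group.IsNilpotent F := CfsgLib.Comp.fitting_isNilpotent
  have hFodd : Odd (Nat.card F) := by
    rw [← Nat.not_even_iff_odd, even_iff_two_dvd]
    intro h2
    obtain ⟨P⟩ := (inferInstance : Nonempty (Sylow 2 F))
    haveI : (P : Subgroup F).Characteristic := Sylow.characteristic_of_normal P inferInstance
    haveI hn : ((P : Subgroup F).map F.subtype).Normal := ConjAct.normal_of_characteristic_of_normal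
    have hle := CfsgLib.Solvable.le_pCore 2 hn (P.2.map _)
    rw [hO, le_bot_iff, map_eq_bot_iff_of_injective _ F.subtype_injective] at hle
    exact P.ne_bot_of_dvd_card h2 hle
  -- the split along the Fitting subgroup
  set B := A ⊓ centralizer (F : Set G) with hB
  have hBA : B ≤ A := inf_le_left
  obtain ⟨T, hTA, hTB, hsup⟩ := exists_compl hA hBA
  have helab : ∀ H : Subgroup G, H ≤ A → Cfsg.IsElementaryAbelian 2 (H.map f) := fun H hH =>
    CfsgLib.Thompson.elab_map f (elab_mono hA hH)
  have hmapc : ∀ H : Subgroup G, Nat.card (H.map f) = Nat.card H := fun H =>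
    card_map_of_injective hf
  set 𝒦 : Set (Subgroup Γ) := (fun K : Subgroup G => K.map f) '' {K | Cfsg.IsComponent K}
  have hBfam : Fam M (B.map f) X 𝒦 :=
    { elabW := hM
      elabA := helab B hBA
      normA := (map_le_range f B).trans hnorm
      normK := by rintro _ ⟨K, -, rfl⟩; exact (map_le_range f K).trans hnorm
      leA := map_le_range f B
      leK := by rintro _ ⟨K, -, rfl⟩; exact map_le_range f K
      comm := by
        rintro _ ⟨K, hK, rfl⟩ _ ⟨K', hK', rfl⟩ hne k hk k' hk'
        obtain ⟨k, hk0, rfl⟩ := mem_map.1 hk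
        obtain ⟨k', hk0', rfl⟩ := mem_map.1 hk'
        rcases CfsgLib.Comp.component_eq_or_commute hK hK' with rfl | h
        · exact absurd rfl hne
        · have h1 := mem_centralizer_iff.1 (CfsgLib.Comp.le_centralizer_of_commutator_eq_bot h hk0) k' hk0'
          rw [← map_mul, ← map_mul, h1]
      perm := by
        rintro _ ⟨b, -, rfl⟩ _ ⟨K, hK, rfl⟩
        refine ⟨K.map (MulAut.conj b).toMonoidHom, CfsgLib.Comp.component_conj b hK, ?_⟩
        show (K.map (MulAut.conj b).toMonoidHom).map f = (K.map f).map _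
        rw [map_map, map_map]
        congr 1
        ext x
        simp
      typ := by
        rintro _ ⟨K, hK, rfl⟩
        set e := K.equivMapOfInjective f hf
        have hq : Cfsg.IsQuasisimple (K.map f) := CfsgLib.Comp.isQuasisimple_of_equiv e hK.2
        have hce : (center K).map e.toMonoidHom = center (K.map f) := by
          ext y
          rw [mem_map_equiv, mem_center_iff, mem_center_iff]
          constructor
          · intro h z
            simpa using congrArg e (h (e.symm z))
          · intro h z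
            simpa using congrArg e.symm (h (e z))
        refine ⟨hq, ?_, ?_⟩
        · rw [← hce, card_map_of_injective e.injective,
            ← card_map_of_injective (f := K.subtype) K.subtype_injective]
          refine hFodd.of_dvd_nat (card_dvd_of_le (CfsgLib.Comp.subnormal_nilpotent_le_fitting ?_ ?_))
          · exact CfsgLib.Comp.isSubnormal_map_subtype hK.1 inferInstance
          · letI : CommGroup (center K) :=
              { (inferInstance : Group (center K)) with
                mul_comm := fun a b => Subtype.ext (mem_center_iff.1 b.2 a) }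
            exact Group.nilpotent_of_mulEquiv
              ((center K).equivMapOfInjective K.subtype K.subtype_injective)
        · haveI := hK.2.2
          have ht := hc K hK.1 (center K) inferInstance (fun hcomm => by
            refine CfsgLib.Comp.quasisimple_not_solvable hK.2 ?_
            haveI : Group.IsSolvable (K ⧸ center K) :=
              (IsSimpleGroup.comm_iff_isSolvable (G := K ⧸ center K)).1 hcomm.is_comm.comm
            haveI : Group.IsSolvable (center K) :=
              Group.isSolvable_of_comm fun a b => Subtype.ext (mem_center_iff.1 b.2 a)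
            exact Group.isSolvable_of_ker_le_range (center K).subtype (QuotientGroup.mk' (center K))
              (by rw [QuotientGroup.ker_mk', range_subtype]))
          have eq' := QuotientGroup.congr (center K) (center (K.map f)) e hce
          rcases ht with ⟨F, iF, iF', m, hm, hcard, ⟨eS⟩⟩ | ⟨F, iF, iF', m, hcard, ⟨eS⟩⟩
          · exact Or.inl ⟨F, iF, iF', m, hm, hcard, ⟨eq'.symm.trans eS⟩⟩
          · exact Or.inr ⟨F, iF, iF', m, hcard, ⟨eq'.symm.trans eS⟩⟩
      nt := by
        rintro _ ⟨K, hK, rfl⟩ hle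
        refine CfsgLib.Comp.component_ne_bot hK (eq_bot_iff.2 fun k hk => ?_)
        exact mem_bot.2 (heq1 k (hle (mem_map_of_mem f hk)))
      faith := by
        rintro _ ⟨b, hb, rfl⟩ h
        have hbF : b ∈ centralizer (Cfsg.generalizedFittingSubgroup G : Set G) := by
          have hle : Cfsg.generalizedFittingSubgroup G ≤ centralizer ({b} : Set G) := by
            refine sup_le (CfsgLib.Comp.layer_le fun K hK k hk => ?_) fun k hk => ?_
            · exact mem_centralizer_singleton_iff.2 (hf (by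
                rw [map_mul, map_mul]
                exact (h _ ⟨K, hK, rfl⟩ _ (mem_map_of_mem f hk)).symm))
            · exact mem_centralizer_singleton_iff.2 (mem_centralizer_iff.1 hb.2 k hk)
          exact mem_centralizer_iff.2 fun k hk => mem_centralizer_singleton_iff.1 (hle hk)
        set Z := centralizer (Cfsg.generalizedFittingSubgroup G : Set G)
        haveI : Z.Normal := inferInstance
        have hZle : Z ≤ F := by
          letI : CommGroup Z :=
            { (inferInstance : Group Z) with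
              mul_comm := fun x y => Subtype.ext
                (mem_centralizer_iff.1 y.2 x (CfsgLib.Comp.centralizer_Fstar_le x.2)) }
          exact CfsgLib.Comp.le_fitting inferInstance CommGroup.isNilpotent
        have hbb : orderOf b ∣ 2 := orderOf_dvd_of_pow_eq_one (hA.2 b (hBA hb))
        rw [orderOf_eq_one_iff.1 (Nat.eq_one_of_dvd_coprimes (Nat.coprime_two_left.2 hFodd) hbb
          (F.orderOf_dvd_natCard (hZle hbF))), map_one] }
  have h1 : Nat.card B ^ 2 ≤ idx M (B.map f) := by
    rw [← hmapc B]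
    exact family_bound h3X _ 𝒦 M _ rfl hBfam
  set W' := M ⊓ centralizer ((B.map f : Subgroup Γ) : Set Γ) with hW'
  have hcA : ∀ a ∈ A, ∀ b ∈ A, a * b = b * a := fun a ha b hb =>
    CfsgLib.Thompson.elab_commute hA ha hb
  have hW'el := elab_mono hM (inf_le_left : W' ≤ M)
  have hnW : ∀ g : G, (∀ b ∈ B, g * b = b * g) → f g ∈ normalizer (W' : Set Γ) := fun g hg =>
    mem_normalizer_inf_centralizer (hnorm ⟨g, rfl⟩) (by
      rintro _ ⟨b, hb, rfl⟩
      rw [← map_mul, ← map_mul, hg b hb])
  have hBF : ∀ o ∈ F, ∀ b ∈ B, o * b = b * o := fun o ho b hb =>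
    mem_centralizer_iff.1 hb.2 o ho
  have hOW : F.map f ≤ normalizer (W' : Set Γ) := by
    rintro _ ⟨o, ho, rfl⟩
    exact hnW o (hBF o ho)
  have hTW : T.map f ≤ normalizer (W' : Set Γ) := by
    rintro _ ⟨t, ht, rfl⟩
    exact hnW t fun b hb => hcA t (hTA ht) b (hBA hb)
  have hTO : T.map f ≤ normalizer ((F.map f : Subgroup Γ) : Set Γ) := by
    rintro _ ⟨t, -, rfl⟩
    refine mem_normalizer_fintype ?_
    rintro _ ⟨o, ho, rfl⟩
    exact ⟨t * o * t⁻¹, (CfsgLib.Comp.fitting_normal (G := G)).conj_mem o ho t,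
      by simp only [map_mul, map_inv]⟩
  have hTf : ∀ a ∈ T.map f, (∀ o ∈ F.map f, a * o = o * a) → a = 1 := by
    rintro _ ⟨t, ht, rfl⟩ h
    have : t ∈ T ⊓ B := ⟨ht, hTA ht, mem_centralizer_iff.2 fun o ho => hf (by
      rw [map_mul, map_mul, h _ (mem_map_of_mem f ho)])⟩
    rw [hTB, mem_bot] at this
    rw [this, map_one]
  have hOf : ∀ o ∈ F.map f, o ∈ centralizer (W' : Set Γ) → o = 1 := by
    rintro _ ⟨o, ho, rfl⟩ hc'
    rw [heq1 o ?_, map_one]
    refine fixes_of_inf hM (helab B hBA) ((map_le_range f B).trans hnorm) (hnorm ⟨o, rfl⟩) ?_ ?_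
      fun w hw => mul_inv_eq_iff_eq_mul.2 (mem_centralizer_iff.1 hc' w hw).symm
    · rw [orderOf_injective f hf]
      exact hFodd.of_dvd_nat (F.orderOf_dvd_natCard ho)
    · rintro _ ⟨b, hb, rfl⟩
      rw [← map_mul, ← map_mul, hBF o ho b hb]
  have hFc : Odd (Nat.card (F.map f)) := by rw [hmapc]; exact hFodd
  have hTel := helab T hTA
  have h2 : Nat.card T ^ 2 ≤ idx W' (T.map f) := by
    haveI : IsMulCommutative W' := hW'el.1
    have hX : F.map f ⊔ T.map f ≤ X := sup_le (map_le_range f F) (map_le_range f T)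
    exact CfsgLib.OffenderTwo.sq_le_relIndex (F.map f ⊔ T.map f) W' (F.map f) hW'el.2
      (sup_le hOW hTW) (inf_centralizer_eq_bot hOW hFc hTel hTO hOf hTf) le_sup_left hFc
      (fun a ha x hx ho he => h3X (CfsgLib.ZJ.inverts_subgroup_iff.2 ⟨a, hX ha, x, hX hx,
        fun e => by rw [e, orderOf_one] at ho; omega,
        ⟨1, by rw [pow_one, ← ho, pow_orderOf_eq_one]⟩, he⟩))
      _ (T.map f) (hmapc T) le_sup_right (fun a ha b hb => CfsgLib.Thompson.elab_commute hTel ha hb)
      hTel.2 hTO hTf
  calc Nat.card A ^ 2 ≤ (Nat.card B * Nat.card T) ^ 2 :=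
        Nat.pow_le_pow_left (card_sq_le hA hBA hTA hsup) 2
    _ = Nat.card B ^ 2 * Nat.card T ^ 2 := by ring
    _ ≤ idx M (B.map f) * idx W' (T.map f) := Nat.mul_le_mul h1 h2
    _ = idx M (A.map f) := by
      rw [idx_mul M (map_mono hBA)]
      congr 1
      rw [← hsup, Subgroup.map_sup, idx_sup]

end CfsgLib.SThreeFree.K
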