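import Cfsg.Agent.SThreeFree.K.Star
import Cfsg.Agent.PLocal.Thompson
import Cfsg.Agent.ZJ.SymFourSection
import Cfsg.Agent.SThreeFree.Factor

/-!
E-groups and `Ĵ` inside an ambient group.
-/

set_option autoImplicit false
set_option linter.unusedSectionVars false
set_option linter.style.haveILetI false

namespace CfsgLib.SThreeFree.K

open Subgroup CfsgLib.Thompson
open scoped commutatorElement

universe u

variable {G : Type u} [Group G] [Finite G]

/-- The subgroup `U` is an E-group. -/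
def IsE (U : Subgroup G) : Prop :=
  ∀ V ≤ U, U ≤ normalizer (V : Set G) → Cfsg.IsElementaryAbelian 2 V → PProp U V →
    V ≤ centralizer (U : Set G)

theorem PProp.mono {U U' V : Subgroup G} (h : PProp U V) (hle : U' ≤ U) : PProp U' V :=
  fun R hR => h R (hR.trans hle)

theorem ineq_iff {C R V : Subgroup G} :
    (Nat.card R) ^ 3 * (Nat.card ↥(V ⊓ C)) ^ 2 <
        (Nat.card V) ^ 2 * (Nat.card ↥(R ⊓ centralizer (V : Set G))) ^ 3 ↔
      (centralizer (V : Set G)).relIndex R ^ 3 < (V ⊓ C).relIndex V ^ 2 := by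
  have e1 := card_relIndex (inf_le_left : R ⊓ centralizer (V : Set G) ≤ R)
  have e2 := card_relIndex (inf_le_left : V ⊓ C ≤ V)
  rw [inf_comm R, inf_relIndex_right, inf_comm] at e1
  rw [← e1, ← e2, mul_pow, mul_pow]
  generalize (centralizer (V : Set G)).relIndex R ^ 3 = x
  generalize (V ⊓ C).relIndex V ^ 2 = y
  have h : 0 < Nat.card ↥(R ⊓ centralizer (V : Set G)) ^ 3 * Nat.card ↥(V ⊓ C) ^ 2 :=
    Nat.mul_pos (pow_pos Nat.card_pos 3) (pow_pos Nat.card_pos 2)
  rw [show Nat.card ↥(R ⊓ centralizer (V : Set G)) ^ 3 * x * Nat.card ↥(V ⊓ C) ^ 2 =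
      Nat.card ↥(R ⊓ centralizer (V : Set G)) ^ 3 * Nat.card ↥(V ⊓ C) ^ 2 * x by ring,
    show Nat.card ↥(V ⊓ C) ^ 2 * y * Nat.card ↥(R ⊓ centralizer (V : Set G)) ^ 3 =
      Nat.card ↥(R ⊓ centralizer (V : Set G)) ^ 3 * Nat.card ↥(V ⊓ C) ^ 2 * y by ring]
  exact Nat.mul_lt_mul_left h

theorem ineq_comm_iff {R V : Subgroup G} {n : ℕ} :
    Nat.card R < n * Nat.card ↥(R ⊓ centralizer (V : Set G)) ↔
      (centralizer (V : Set G)).relIndex R < n := by
  have e1 := card_relIndex (inf_le_left : R ⊓ centralizer (V : Set G) ≤ R)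
  rw [inf_comm R, inf_relIndex_right, inf_comm] at e1
  rw [← e1, mul_comm n]
  exact Nat.mul_lt_mul_left Nat.card_pos

theorem isEGroup_iff_top : Cfsg.IsEGroup G ↔ IsE (⊤ : Subgroup G) := by
  have hc : centralizer ((⊤ : Subgroup G) : Set G) = center G := by
    rw [coe_top, centralizer_univ]
  constructor
  · intro h V _ hn hV hP
    haveI : V.Normal := normalizer_eq_top_iff.1 (top_le_iff.1 hn)
    rw [hc]
    exact h V inferInstance hV fun R h1 h2 h3 =>
      ⟨ineq_iff.2 (hP R le_top ⟨h1, h2⟩ h3).1, ineq_comm_iff.2 (hP R le_top ⟨h1, h2⟩ h3).2⟩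
  · intro h V hVn hV hP
    rw [← hc]
    refine h V le_top ?_ hV fun R _ hR h3 => ?_
    · haveI := hVn
      rw [normalizer_eq_top]
    · exact ⟨ineq_iff.1 (hP R hR.1 hR.2 h3).1, ineq_comm_iff.1 (hP R hR.1 hR.2 h3).2⟩

section Map

variable {H : Type u} [Group H] [Finite H] (f : H →* G) (hf : Function.Injective f)

include hf

theorem comap_centralizer_map (V : Subgroup H) :
    (centralizer ((V.map f : Subgroup G) : Set G)).comap f = centralizer (V : Set H) := by
  ext x
  constructor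
  · intro hx
    exact mem_centralizer_iff.2 fun v hv => hf (by
      rw [map_mul, map_mul]; exact mem_centralizer_iff.1 hx _ (mem_map_of_mem f hv))
  · intro hx
    refine mem_centralizer_iff.2 ?_
    rintro _ ⟨v, hv, rfl⟩
    rw [← map_mul, ← map_mul, mem_centralizer_iff.1 hx v hv]

theorem map_le_centralizer_iff (R V : Subgroup H) :
    R.map f ≤ centralizer ((V.map f : Subgroup G) : Set G) ↔ R ≤ centralizer (V : Set H) := by
  rw [map_le_iff_le_comap, comap_centralizer_map f hf]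

theorem map_inf_centralizer (R V : Subgroup H) :
    V.map f ⊓ centralizer ((R.map f : Subgroup G) : Set G) =
      (V ⊓ centralizer (R : Set H)).map f := by
  ext x
  constructor
  · rintro ⟨⟨v, hv, rfl⟩, hc⟩
    exact ⟨v, ⟨hv, (comap_centralizer_map f hf R).le (mem_comap.2 hc)⟩, rfl⟩
  · rintro ⟨v, ⟨hv, hc⟩, rfl⟩
    exact ⟨mem_map_of_mem f hv, mem_comap.1 ((comap_centralizer_map f hf R).ge hc)⟩

theorem elab_map_iff (V : Subgroup H) :
    Cfsg.IsElementaryAbelian 2 (V.map f) ↔ Cfsg.IsElementaryAbelian 2 V := by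
  refine ⟨fun h => ⟨⟨⟨fun a b => Subtype.ext (hf ?_)⟩⟩, fun a ha => hf ?_⟩, elab_map f⟩
  · rw [Subgroup.coe_mul, Subgroup.coe_mul, map_mul, map_mul]
    exact elab_commute h (mem_map_of_mem f a.2) (mem_map_of_mem f b.2)
  · rw [map_pow, map_one]
    exact h.2 _ (mem_map_of_mem f ha)

theorem pProp_map_iff (U V : Subgroup H) : PProp (U.map f) (V.map f) ↔ PProp U V := by
  have hel : ∀ R : Subgroup H, ElemMod (V.map f) (R.map f) ↔ ElemMod V R := by
    intro R
    rw [ElemMod, ElemMod, ← map_commutator, map_le_centralizer_iff f hf]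
    refine and_congr_right fun _ => ⟨fun h a ha => ?_, fun h => ?_⟩
    · rw [← comap_centralizer_map f hf, mem_comap, map_pow]
      exact h _ (mem_map_of_mem f ha)
    · rintro _ ⟨a, ha, rfl⟩
      rw [← map_pow, ← mem_comap, comap_centralizer_map f hf]
      exact h a ha
  have e1 : ∀ R : Subgroup H, (centralizer ((V.map f : Subgroup G) : Set G)).relIndex (R.map f) =
      (centralizer (V : Set H)).relIndex R := fun R => by
    rw [← relIndex_comap, comap_centralizer_map f hf]
  have e2 : ∀ R : Subgroup H, idx (V.map f) (R.map f) = idx V R := fun R => by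
    rw [idx, idx, map_inf_centralizer f hf, relIndex_map_map_of_injective _ _ hf]
  have e3 : ∀ R : Subgroup H, Nat.card ↥⁅V.map f, R.map f⁆ = Nat.card ↥⁅V, R⁆ := fun R => by
    rw [← map_commutator, card_map_of_injective hf]
  constructor
  · intro h R hR hE hn
    have h' := h (R.map f) (map_mono hR) ((hel R).2 hE)
      fun hc => hn ((map_le_centralizer_iff f hf R V).1 hc)
    rwa [e1, e2, e3] at h'
  · intro h R hR hE hn
    obtain ⟨R₀, hR₀, rfl⟩ : ∃ R₀ ≤ U, R₀.map f = R := by
      refine ⟨R.comap f, ?_, ?_⟩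
      · intro x hx
        obtain ⟨y, hy, he⟩ := hR hx
        rwa [← hf he]
      · exact map_comap_eq_self (hR.trans (map_le_range f U))
    rw [e1, e2, e3]
    exact h R₀ hR₀ ((hel R₀).1 hE) fun hc => hn ((map_le_centralizer_iff f hf R₀ V).2 hc)

theorem map_le_normalizer_iff (U V : Subgroup H) :
    U.map f ≤ normalizer ((V.map f : Subgroup G) : Set G) ↔ U ≤ normalizer (V : Set H) := by
  constructor
  · intro h x hx
    refine mem_normalizer_fintype fun v hv => ?_
    obtain ⟨w, hw, he⟩ := (mem_normalizer_iff.1 (h (mem_map_of_mem f hx)) (f v)).1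
      (mem_map_of_mem f hv)
    rw [← map_inv, ← map_mul, ← map_mul] at he
    show x * v * x⁻¹ ∈ V
    rwa [← hf he]
  · intro h
    exact (map_mono h).trans (le_normalizer_map f)

theorem isE_map_iff (U : Subgroup H) : IsE (U.map f) ↔ IsE U := by
  constructor
  · intro h V hV hn hVe hP
    exact (map_le_centralizer_iff f hf V U).1 (h (V.map f) (map_mono hV)
      ((map_le_normalizer_iff f hf U V).2 hn) (elab_map f hVe) ((pProp_map_iff f hf U V).2 hP))
  · intro h V hV hn hVe hP
    obtain ⟨V₀, hV₀, rfl⟩ : ∃ V₀ ≤ U, V₀.map f = V := by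
      refine ⟨V.comap f, ?_, map_comap_eq_self (hV.trans (map_le_range f U))⟩
      intro x hx
      obtain ⟨y, hy, he⟩ := hV hx
      rwa [← hf he]
    exact (map_le_centralizer_iff f hf V₀ U).2 (h V₀ hV₀ ((map_le_normalizer_iff f hf U V₀).1 hn)
      ((elab_map_iff f hf V₀).1 hVe) ((pProp_map_iff f hf U V₀).1 hP))

end Map

theorem isEGroup_iff (U : Subgroup G) : Cfsg.IsEGroup U ↔ IsE U := by
  rw [isEGroup_iff_top, ← isE_map_iff U.subtype U.subtype_injective, ← MonoidHom.range_eq_map,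
    range_subtype]

/-- A largest elementary abelian subgroup is no worse than an offender. -/
theorem idx_le_of_maxIn {U V E : Subgroup G} (hVU : V ≤ U) (hV : Cfsg.IsElementaryAbelian 2 V)
    (hE : E ∈ maxIn 2 U) : idx V E ≤ (centralizer (V : Set G)).relIndex E := by
  set E₀ := E ⊓ centralizer (V : Set G) with hE₀
  have hsup := elab_sup (elab_mono hE.2.1 (inf_le_left : E₀ ≤ E)) hV inf_le_right
  have h7 := hE.2.2 _ (sup_le (inf_le_left.trans hE.1) hVU) hsup
  have h8 := CfsgLib.Solvable.card_sup_mul_card_inf (A := E₀) (K := V)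
    (inf_le_right.trans (centralizer_le_normalizer _))
  have h9 : Nat.card ↥(E₀ ⊓ V) ≤ Nat.card ↥(V ⊓ centralizer (E : Set G)) :=
    Subgroup.card_le_of_le (le_inf inf_le_right
      ((inf_le_left.trans inf_le_left).trans (elab_le_centralizer hE.2.1)))
  have e1 := card_relIndex (inf_le_left : V ⊓ centralizer (E : Set G) ≤ V)
  have e2 : Nat.card E₀ * (centralizer (V : Set G)).relIndex E = Nat.card E := by
    rw [← inf_relIndex_right (centralizer (V : Set G)), inf_comm]
    exact card_relIndex inf_le_left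
  refine Nat.le_of_mul_le_mul_left ?_
    (Nat.mul_pos (Nat.card_pos (α := E₀)) (Nat.card_pos (α := ↥(V ⊓ centralizer (E : Set G)))))
  calc Nat.card E₀ * Nat.card ↥(V ⊓ centralizer (E : Set G)) * idx V E
      = Nat.card E₀ * Nat.card V := by rw [mul_assoc, idx, e1]
    _ = Nat.card ↥(E₀ ⊔ V) * Nat.card ↥(E₀ ⊓ V) := h8.symm
    _ ≤ Nat.card E * Nat.card ↥(V ⊓ centralizer (E : Set G)) := Nat.mul_le_mul h7 h9
    _ = _ := by rw [← e2]; ring

/-- An elementary subgroup above the bound lies in every largest elementary abelian subgroup. -/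
theorem le_of_maxIn {U V E : Subgroup G} (hVU : V ≤ U) (hV : Cfsg.IsElementaryAbelian 2 V)
    (hP : PProp U V) (hE : E ∈ maxIn 2 U) : E ≤ centralizer (V : Set G) ∧ V ≤ E := by
  have hle : E ≤ centralizer (V : Set G) := by
    by_contra hn
    have h := (hP E hE.1 (elemMod_of_elab hE.2.1 V) hn).1
    have h10 := idx_le_of_maxIn hVU hV hE
    have h11 : 1 ≤ (centralizer (V : Set G)).relIndex E :=
      Nat.one_le_iff_ne_zero.2 index_ne_zero_of_finite
    exact absurd h (not_lt.2 ((Nat.pow_le_pow_left h10 2).trans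
      (Nat.pow_le_pow_right h11 (by norm_num))))
  refine ⟨hle, fun v hv => ?_⟩
  have hs := elab_sup hE.2.1 hV hle
  have := CfsgLib.Solvable.eq_of_le_of_card_le (le_sup_left : E ≤ E ⊔ V)
    (hE.2.2 _ (sup_le hE.1 hVU) hs)
  rw [this]
  exact mem_sup_right hv

theorem thompson_le_centralizer {U V : Subgroup G} (hVU : V ≤ U)
    (hV : Cfsg.IsElementaryAbelian 2 V) (hP : PProp U V) :
    Cfsg.thompsonSubgroupOf 2 U ≤ centralizer (V : Set G) ∧
      V ≤ Cfsg.thompsonSubgroupOf 2 U := by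
  rw [thompsonSubgroupOf_eq]
  obtain ⟨E, hE⟩ := exists_maxIn (p := 2) U
  exact ⟨sSup_le fun E hE => (le_of_maxIn hVU hV hP hE).1,
    (le_of_maxIn hVU hV hP hE).2.trans (le_sSup hE)⟩

theorem thompsonSubgroupOf_eq_of_between {U U' : Subgroup G} (hle : U' ≤ U)
    (hJ : Cfsg.thompsonSubgroupOf 2 U ≤ U') :
    Cfsg.thompsonSubgroupOf 2 U' = Cfsg.thompsonSubgroupOf 2 U := by
  rw [thompsonSubgroupOf_eq] at hJ
  rw [thompsonSubgroupOf_eq, thompsonSubgroupOf_eq]
  have hm : ∀ E ∈ maxIn 2 U, E ≤ U' := fun E hE => (le_sSup hE).trans hJ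
  obtain ⟨E, hE⟩ := exists_maxIn (p := 2) U
  exact le_antisymm (sSup_le fun B hB => le_sSup ⟨hB.1.trans hle, hB.2.1,
      fun B' hB' hB'e => (hE.2.2 B' hB' hB'e).trans (hB.2.2 E (hm E hE) hE.2.1)⟩)
    (sSup_le fun B hB => le_sSup ⟨hm B hB, hB.2.1,
      fun B' hB' hB'e => hB.2.2 B' (hB'.trans hle) hB'e⟩)

/-- The members of the family defining `Ĵ(S)`. -/
def eFam (S : Subgroup G) : Set (Subgroup G) :=
  {U | U ≤ S ∧ IsE U ∧ Cfsg.thompsonSubgroupOf 2 S ≤ U}

/-- `Ĵ(S)` in the ambient group. -/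
def jHatIn (S : Subgroup G) : Subgroup G := sSup (eFam S)

theorem jHat_map_eq (S : Subgroup G) : (Cfsg.jHat S).map S.subtype = jHatIn S := by
  refine le_antisymm ?_ (sSup_le ?_)
  · rw [map_le_iff_le_comap, Cfsg.jHat]
    refine sSup_le fun U hU => map_le_iff_le_comap.1 (le_sSup ⟨map_subtype_le U, ?_, map_mono hU.2⟩)
    exact (isE_map_iff S.subtype S.subtype_injective U).2 ((isEGroup_iff U).1 hU.1)
  · rintro U ⟨hUS, hE, hJ⟩
    rw [← inf_eq_left.2 hUS, ← subgroupOf_map_subtype]
    refine map_mono (le_sSup ⟨(isEGroup_iff _).2 ?_, ?_⟩)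
    · rw [← isE_map_iff S.subtype S.subtype_injective, subgroupOf_map_subtype, inf_eq_left.2 hUS]
      exact hE
    · rw [← map_le_map_iff_of_injective (f := S.subtype) S.subtype_injective,
        subgroupOf_map_subtype, inf_eq_left.2 hUS]
      exact hJ

theorem jHatIn_le (S : Subgroup G) : jHatIn S ≤ S := sSup_le fun _ hU => hU.1

theorem eFam_map {H : Type u} [Group H] [Finite H] (f : H →* G) (hf : Function.Injective f)
    (S : Subgroup H) : eFam (S.map f) = (fun U => U.map f) '' eFam S := by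
  ext U
  constructor
  · rintro ⟨hUS, hE, hJ⟩
    have he : (U.comap f).map f = U := map_comap_eq_self (hUS.trans (map_le_range f S))
    refine ⟨U.comap f, ⟨fun x hx => ?_, ?_, ?_⟩, he⟩
    · obtain ⟨y, hy, hxy⟩ := hUS hx
      rwa [← hf hxy]
    · rw [← isE_map_iff f hf, he]; exact hE
    · rw [← map_le_iff_le_comap, ← thompsonSubgroupOf_map f hf]; exact hJ
  · rintro ⟨U, ⟨hUS, hE, hJ⟩, rfl⟩
    exact ⟨map_mono hUS, (isE_map_iff f hf U).2 hE, by
      rw [thompsonSubgroupOf_map f hf]; exact map_mono hJ⟩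

theorem jHatIn_map {H : Type u} [Group H] [Finite H] (f : H →* G) (hf : Function.Injective f)
    (S : Subgroup H) : jHatIn (S.map f) = (jHatIn S).map f := by
  rw [jHatIn, jHatIn, eFam_map f hf, sSup_image, sSup_eq_iSup, Subgroup.map_iSup]
  simp only [Subgroup.map_iSup]

/-- A 2-group contains an E-group containing its Thompson subgroup. -/
theorem eFam_nonempty (U : Subgroup G) : (eFam U).Nonempty := by
  induction hn : Nat.card U using Nat.strong_induction_on generalizing U with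
  | _ n ih => ?_
  subst hn
  by_cases hE : IsE U
  · exact ⟨U, le_rfl, hE, thompsonSubgroupOf_le U⟩
  simp only [IsE, not_forall] at hE
  obtain ⟨V, hVU, -, hV, hP, hnc⟩ := hE
  obtain ⟨hJ, -⟩ := thompson_le_centralizer hVU hV hP
  set U' := U ⊓ centralizer (V : Set G)
  have hlt : U' < U := by
    refine lt_of_le_of_ne inf_le_left fun h => hnc ?_
    rw [le_centralizer_iff]
    exact inf_eq_left.1 h
  have hJ' := thompsonSubgroupOf_eq_of_between (inf_le_left : U' ≤ U)
    (le_inf (thompsonSubgroupOf_le U) hJ)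
  obtain ⟨U'', h1, h2, h3⟩ := ih _ (CfsgLib.Solvable.card_lt_of_lt hlt) U' rfl
  exact ⟨U'', h1.trans inf_le_left, h2, hJ' ▸ h3⟩

theorem thompson_le_jHatIn (S : Subgroup G) : Cfsg.thompsonSubgroupOf 2 S ≤ jHatIn S := by
  obtain ⟨U, hU⟩ := eFam_nonempty S
  exact hU.2.2.trans (le_sSup hU)

theorem omega_center_le_thompson (S : Subgroup G) :
    Cfsg.omegaOne 2 (S ⊓ centralizer (S : Set G)) ≤ Cfsg.thompsonSubgroupOf 2 S := by
  rw [Cfsg.omegaOne, closure_le]
  rintro z ⟨⟨hzS, hzc⟩, hz2⟩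
  obtain ⟨E, hE⟩ := exists_maxIn (p := 2) S
  have hle : E ≤ centralizer ((zpowers z : Subgroup G) : Set G) := by
    rw [le_centralizer_iff, zpowers_le]
    exact centralizer_le hE.1 hzc
  have hsup := elab_sup hE.2.1 (elab_zpowers hz2) hle
  have := CfsgLib.Solvable.eq_of_le_of_card_le (le_sup_left : E ≤ E ⊔ zpowers z)
    (hE.2.2 _ (sup_le hE.1 (zpowers_le.2 hzS)) hsup)
  rw [SetLike.mem_coe, thompsonSubgroupOf_eq]
  exact le_sSup hE (this ▸ mem_sup_right (mem_zpowers z))

/-- An involution centralizing the Thompson subgroup lies in it. -/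
theorem omega_center_jHat_le (S : Subgroup G) :
    Cfsg.omegaOne 2 (jHatIn S ⊓ centralizer (jHatIn S : Set G)) ≤
      Cfsg.thompsonSubgroupOf 2 S := by
  rw [Cfsg.omegaOne, closure_le]
  rintro z ⟨⟨hzS, hzc⟩, hz2⟩
  obtain ⟨E, hE⟩ := exists_maxIn (p := 2) S
  have hEJ : E ≤ jHatIn S := by
    refine le_trans ?_ (thompson_le_jHatIn S)
    rw [thompsonSubgroupOf_eq]
    exact le_sSup hE
  have hle : E ≤ centralizer ((zpowers z : Subgroup G) : Set G) := by
    rw [le_centralizer_iff, zpowers_le]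
    exact centralizer_le hEJ hzc
  have hsup := elab_sup hE.2.1 (elab_zpowers hz2) hle
  have := CfsgLib.Solvable.eq_of_le_of_card_le (le_sup_left : E ≤ E ⊔ zpowers z)
    (hE.2.2 _ (sup_le hE.1 (zpowers_le.2 (jHatIn_le S hzS))) hsup)
  rw [SetLike.mem_coe, thompsonSubgroupOf_eq]
  exact le_sSup hE (this ▸ mem_sup_right (mem_zpowers z))

end CfsgLib.SThreeFree.K
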