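import Cfsg.Agent.SThreeFree.K.Model
import Cfsg.Agent.GLElem.PSL2Classes

/-!
For an elementary abelian 2-group `E` of automorphisms of a Suzuki group or of `PSL₂(3^odd)` there
is an element `y` such that `[e, y]` is a 2-element for no nonidentity `e` in `E`.
-/

set_option autoImplicit false
set_option linter.unusedSectionVars false
set_option linter.style.haveILetI false

namespace CfsgLib.SThreeFree.K

open Subgroup

universe u

/-- A generic element for `E`. -/
def Generic (S : Type*) [Group S] : Prop :=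
  ∀ E : Subgroup (MulAut S), Cfsg.IsElementaryAbelian 2 E →
    ∃ y : S, (∀ k : ℕ, y ^ 2 ^ k ≠ 1) ∧
      ∀ e ∈ E, e ≠ 1 → ∀ k : ℕ, (e y * y⁻¹) ^ 2 ^ k ≠ 1

theorem Generic.congr {S T : Type*} [Group S] [Group T] (h : Generic T) (e : S ≃* T) :
    Generic S := by
  intro E hE
  obtain ⟨y, hy, hgen⟩ := h (E.map (MulAut.congr e).toMonoidHom) (CfsgLib.Thompson.elab_map _ hE)
  refine ⟨e.symm y, fun k hk => hy k ?_, fun a ha ha1 k hk => ?_⟩
  · simpa using congrArg e hk
  · refine hgen _ (mem_map_of_mem _ ha) (fun h' => ha1 ((MulAut.congr e).injective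
      (h'.trans (map_one (MulAut.congr e)).symm))) k ?_
    have := congrArg e hk
    simpa [MulAut.congr] using this

section Suzuki

open CfsgLib.Suzuki

variable {F : Type*} [Field F] {m : ℕ}

theorem generic_sz (h : IsSzField F m) : Generic (SzG F m) := by
  intro E hE
  haveI := finite_G h
  haveI := h.finite
  haveI : Fact (Nat.Prime 2) := ⟨Nat.prime_two⟩
  obtain ⟨A, hA, hmapA⟩ : ∃ A : Subgroup (SzG F m), IsPGroup 2 A ∧ ∀ e ∈ E, e ≠ 1 →
      ∃ a ∈ A, a ≠ 1 ∧ a * a = 1 ∧ e = MulAut.conj a := by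
    haveI := isSimpleGroup_Sz h
    refine ⟨E.comap MulAut.conj, ?_, fun e he he1 => ?_⟩
    · intro a
      obtain ⟨k, hk⟩ := CfsgLib.Thompson.elab_isPGroup hE ⟨MulAut.conj (a : SzG F m), a.2⟩
      refine ⟨k, Subtype.ext ?_⟩
      have hk' := congrArg Subtype.val hk
      rw [SubgroupClass.coe_pow, OneMemClass.coe_one, ← map_pow] at hk'
      rw [SubgroupClass.coe_pow, OneMemClass.coe_one]
      refine sz_conj_inj h (hk'.trans (map_one _).symm)
    · obtain ⟨a, rfl⟩ := sz_inner h e (by rw [← pow_two]; exact hE.2 e he)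
      refine ⟨a, he, fun ha => he1 (by rw [ha, map_one]), sz_conj_inj h ?_, rfl⟩
      rw [map_mul, map_one, ← pow_two, hE.2 _ he]
  obtain ⟨c, hc⟩ := exists_conj_le_unip h hA
  set k := 4 * (2 * m + 1) with hk
  obtain ⟨r, hr, hrk⟩ := CfsgLib.Primitive2.exists_primitive (k := k) (by have := h.pos; omega)
    (by have := h.pos; omega)
  have hdvd : r ∣ Nat.card F ^ 2 + 1 := by
    rw [h.card, ← pow_mul]
    have h1 := (hrk k).2 dvd_rfl
    have e : 2 ^ k - 1 = (2 ^ ((2 * m + 1) * 2) + 1) * (2 ^ ((2 * m + 1) * 2) - 1) := by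
      rw [← Nat.sq_sub_sq, one_pow, ← pow_mul, show (2 * m + 1) * 2 * 2 = k by omega]
    rw [e] at h1
    refine (hr.dvd_mul.1 h1).resolve_right fun hh => ?_
    have := Nat.le_of_dvd (by omega) ((hrk _).1 hh)
    omega
  haveI : Fact r.Prime := ⟨hr⟩
  have hr2 : r ≠ 2 := fun e => by
    subst e
    exact (Nat.not_even_iff_odd.2 (odd_card_sq_add_one h)) (even_iff_two_dvd.2 hdvd)
  have hG : r ∣ Nat.card (SzG F m) := by
    rw [card_Sz h]
    exact dvd_mul_of_dvd_left (dvd_mul_of_dvd_right hdvd _) _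
  obtain ⟨y₀, hy₀⟩ := exists_prime_orderOf_dvd_card' r hG
  have hmove : y₀ • inf F ≠ inf F := by
    intro hfix
    have h1 : r ∣ Nat.card F ^ 2 * (Nat.card F - 1) := by
      rw [← card_borel h, ← hy₀]
      exact (borel F m).orderOf_dvd_natCard (mem_borel_iff.2 hfix)
    have hnq : ¬ r ∣ Nat.card F := fun hh => hr.ne_one (Nat.dvd_one.1
      ((Nat.dvd_add_right (dvd_pow hh two_ne_zero)).1 hdvd))
    have h2 : r ∣ Nat.card F - 1 :=
      (hr.dvd_mul.1 h1).resolve_left fun hh => hnq (hr.dvd_of_dvd_pow hh)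
    have hq1 : 1 ≤ Nat.card F := Nat.card_pos
    have h3 : r ∣ 2 := by
      have h4 : Nat.card F ^ 2 + 1 = (Nat.card F - 1) * (Nat.card F + 1) + 2 := by
        obtain ⟨q', hq'⟩ : ∃ q', Nat.card F = q' + 1 := ⟨Nat.card F - 1, by omega⟩
        rw [hq']; simp only [Nat.add_sub_cancel]; ring
      rw [h4] at hdvd
      exact (Nat.dvd_add_right (h2.mul_right _)).1 hdvd
    exact hr2 ((Nat.prime_dvd_prime_iff_eq hr Nat.prime_two).1 h3)
  refine ⟨c⁻¹ * y₀ * c, fun i hi => ?_, fun e he he1 i hi => ?_⟩
  · have h1 : orderOf (c⁻¹ * y₀ * c) ∣ 2 ^ i := orderOf_dvd_of_pow_eq_one hi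
    rw [show c⁻¹ * y₀ * c = c⁻¹ * y₀ * (c⁻¹)⁻¹ by rw [inv_inv], orderOf_conj_eq, hy₀] at h1
    exact hr2 ((Nat.prime_dvd_prime_iff_eq hr Nat.prime_two).1 (hr.dvd_of_dvd_pow h1))
  · obtain ⟨a, ha, ha1, haa, rfl⟩ := hmapA e he he1
    set u := c * a * c⁻¹ with hu
    have huU : u ∈ unip h := hc a ha
    have hu1 : u ≠ 1 := fun e => ha1 (conj_eq_one_iff.1 e)
    have huu : u * u = 1 := by
      rw [hu, show c * a * c⁻¹ * (c * a * c⁻¹) = c * (a * a) * c⁻¹ by group, haa]; group
    set w := u * y₀ * u⁻¹ * y₀⁻¹ with hw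
    have hwp : w ^ 2 ^ i = 1 := by
      have e1 : MulAut.conj a (c⁻¹ * y₀ * c) * (c⁻¹ * y₀ * c)⁻¹ = c⁻¹ * w * c := by
        rw [MulAut.conj_apply, hw, hu]; group
      rw [e1, show c⁻¹ * w * c = c⁻¹ * w * (c⁻¹)⁻¹ by rw [inv_inv], conj_pow,
        conj_eq_one_iff] at hi
      exact hi
    have huw : u * w * u⁻¹ = w⁻¹ := by
      rw [hw, inv_eq_of_mul_eq_one_right huu]
      simp only [mul_inv_rev, inv_inv, inv_eq_of_mul_eq_one_right huu]
      calc u * (u * y₀ * u * y₀⁻¹) * u = (u * u) * (y₀ * (u * (y₀⁻¹ * u))) := by group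
        _ = _ := by rw [huu, one_mul]
    have hn : zpowers u ≤ normalizer ((zpowers w : Subgroup (SzG F m)) : Set (SzG F m)) := by
      refine zpowers_le.2 (mem_normalizer_fintype ?_)
      rintro _ ⟨z, rfl⟩
      exact ⟨-z, by simp only [zpow_neg]; rw [← conj_zpow, huw, inv_zpow]⟩
    have hD : IsPGroup 2 ↥(zpowers w ⊔ zpowers u) := by
      obtain ⟨i₁, -, hi₁⟩ := (Nat.dvd_prime_pow Nat.prime_two).1 (orderOf_dvd_of_pow_eq_one hwp)
      refine (IsPGroup.of_card (n := i₁) (by rw [Nat.card_zpowers, hi₁])).to_sup_of_normal_left'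
        (IsPGroup.of_card (n := 1) ?_) hn
      rw [Nat.card_zpowers, orderOf_eq_prime (by rw [pow_two]; exact huu) hu1, pow_one]
    obtain ⟨d, hd⟩ := exists_conj_le_unip h hD
    have hfix : ∀ g ∈ zpowers w ⊔ zpowers u, g • (d⁻¹ • inf F) = d⁻¹ • inf F := by
      intro g hg
      obtain ⟨a', b', he'⟩ := exists_uE h (hd g hg)
      have h1 : (d * g * d⁻¹) • inf F = inf F := by rw [he']; exact uE_smul_inf h a' b'
      rw [mul_smul, mul_smul] at h1
      exact eq_inv_smul_iff.2 h1
    have hp : d⁻¹ • inf F = inf F := eq_inf_of_unip_fix h huU hu1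
      (smul_mem_ovoid' d⁻¹ inf_mem) (hfix u (mem_sup_right (mem_zpowers u)))
    have h2 := hfix (u⁻¹ * w) (mul_mem (inv_mem (mem_sup_right (mem_zpowers u)))
      (mem_sup_left (mem_zpowers w)))
    rw [hp, show u⁻¹ * w = y₀ * u⁻¹ * y₀⁻¹ by rw [hw]; group, mul_smul, mul_smul,
      ← eq_inv_smul_iff, inv_smul_eq_iff, eq_comm] at h2
    refine hmove ?_
    have h3 : y₀⁻¹ • inf F = inf F :=
      eq_inf_of_unip_fix h huU hu1 (smul_mem_ovoid' y₀⁻¹ inf_mem) h2
    rwa [inv_smul_eq_iff, eq_comm] at h3

end Suzuki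

section PSL

open Matrix
open CfsgLib.Linear.SmallSub (P2)

variable {F : Type*} [Field F] [Fintype F]

theorem generic_psl {n : ℕ} (hn : 1 ≤ n) (hF : Fintype.card F = 3 ^ (2 * n + 1)) :
    Generic (Matrix.ProjectiveSpecialLinearGroup (Fin 2) F) := by
  classical
  set q := Fintype.card F with hq
  set S := Matrix.ProjectiveSpecialLinearGroup (Fin 2) F
  have h8 : q % 8 = 3 := by
    rw [hF, pow_mod_cycle (M := 8) (n := 2) (by norm_num) (2 * n + 1), Nat.mul_add_mod]
    norm_num
  have hodd : Odd q := Nat.odd_iff.2 (by omega)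
  have hq27 : 27 ≤ q := hF ▸ (by norm_num : (27 : ℕ) ≤ 3 ^ 3).trans
    (Nat.pow_le_pow_right (by norm_num) (by omega))
  haveI : Fact (Nat.Prime 3) := ⟨Nat.prime_three⟩
  haveI : Fact (Nat.Prime 2) := ⟨Nat.prime_two⟩
  haveI : Finite (MulAut S) := Finite.of_injective (fun a => (⇑a)) DFunLike.coe_injective
  haveI : IsSimpleGroup S :=
    CfsgLib.Linear.PSLTwo.isSimple (by rw [Nat.card_eq_fintype_card, ← hq]; omega)
  haveI : CharP F 3 := by
    obtain ⟨c, hc⟩ := CharP.exists F
    obtain ⟨k, hp, he⟩ := FiniteField.card F c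
    rw [← hq, hF] at he
    have := (Nat.prime_dvd_prime_iff_eq hp Nat.prime_three).1
      (hp.dvd_of_dvd_pow (he ▸ dvd_pow_self c k.2.ne'))
    subst this
    exact hc
  have hcardS : 2 * Nat.card S = q * (q ^ 2 - 1) := by
    have h' := CfsgLib.Linear.PSLTwo.mul_card (F := F)
    rw [Nat.card_eq_fintype_card (α := F), ← hq, Nat.gcd_eq_left (show 2 ∣ q - 1 by omega)] at h'
    exact h'
  have hna : ¬ IsMulCommutative S := by
    intro hc
    refine CfsgLib.Linear.PSLTwo.not_solvable (F := F) (by rw [Nat.card_eq_fintype_card, ← hq]; omega) ?_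
    exact Group.isSolvable_of_comm hc.is_comm.comm
  -- 2-elements are involutions
  have hinv2 : ∀ y : S, ∀ k : ℕ, y ^ 2 ^ k = 1 → y * y = 1 := by
    intro y k hk
    rw [← pow_two, ← orderOf_dvd_iff_pow_eq_one]
    obtain ⟨i, -, hi⟩ := (Nat.dvd_prime_pow Nat.prime_two).1 (orderOf_dvd_of_pow_eq_one hk)
    have hcop : ∀ N : ℕ, orderOf y ∣ N → ¬ 4 ∣ N → orderOf y ∣ 2 := by
      intro N hN h4
      rw [hi] at hN ⊢
      have : i ≤ 1 := by
        by_contra hh
        exact h4 ((pow_dvd_pow 2 (show 2 ≤ i by omega)).trans hN)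
      exact pow_dvd_pow 2 this |>.trans (by norm_num)
    have hg : Nat.gcd 2 (q - 1) = 2 := Nat.gcd_eq_left (by omega)
    rcases CfsgLib.PSL2Spec.orderOf_dvd 3 y with h | h | h
    · exact hcop 3 h (by norm_num)
    · rw [← hq, hg] at h; exact hcop _ h (by omega)
    · rw [← hq, hg] at h; exact hcop _ h (by omega)
  -- centralizers of involutions
  have hindex : ∀ s : S, s * s = 1 → s ≠ 1 →
      2 * (centralizer ({s} : Set S)).index = q * (q - 1) := by
    intro s hs hs1
    have := CfsgLib.PSL2Classes.index_involution hodd hs hs1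
    rwa [if_neg (by omega)] at this
  have hcentS : ∀ e : MulAut S, e * e = 1 → e ≠ 1 → e ∈ Cfsg.inndiagPSL 2 F →
      Nat.card {z : S // e z = z} ≤ q + 1 := by
    intro e hee he1 heD
    set I := (MulAut.conj : S →* MulAut S).range with hI
    have hinj := conj_injective hna
    by_cases heI : e ∈ I
    · obtain ⟨s, rfl⟩ := heI
      have hs : s * s = 1 := hinj (by rw [map_mul, hee, map_one])
      have hs1 : s ≠ 1 := fun h => he1 (by rw [h, map_one])
      have h1 := hindex s hs hs1
      have h2 := (centralizer ({s} : Set S)).card_mul_index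
      have hle : Nat.card {z : S // MulAut.conj s z = z} ≤ Nat.card (centralizer ({s} : Set S)) :=
        Nat.card_le_card_of_injective (fun z => ⟨z.1, mem_centralizer_singleton_iff.2
          (mul_inv_eq_iff_eq_mul.1 z.2).symm⟩) fun a b h =>
          Subtype.ext (congrArg (fun t : centralizer ({s} : Set S) => (t : S)) h)
      refine hle.trans (le_of_eq ?_)
      refine Nat.eq_of_mul_eq_mul_right (show 0 < q * (q - 1) from Nat.mul_pos (by omega) (by omega)) ?_
      rw [← h1, show Nat.card (centralizer ({s} : Set S)) * (2 * (centralizer ({s} : Set S)).index)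
        = 2 * (Nat.card (centralizer ({s} : Set S)) * (centralizer ({s} : Set S)).index) by ring,
        h2, hcardS, h1]
      obtain ⟨q', hq'⟩ : ∃ q', q = q' + 1 := ⟨q - 1, by omega⟩
      rw [hq']
      have e' : (q' + 1) ^ 2 - 1 = q' * q' + 2 * q' := by
        rw [show (q' + 1) ^ 2 = q' * q' + 2 * q' + 1 by ring]; simp
      rw [e']; simp only [Nat.add_sub_cancel]; ring
    · -- outer involutions
      obtain ⟨g, rfl⟩ : ∃ g, CfsgLib.AutPSL.innDiagHom 2 F g = e := by
        rwa [CfsgLib.AutPSL.inndiag_eq_range] at heD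
      set e := CfsgLib.AutPSL.innDiagHom 2 F g
      set P := (centralizer ({e} : Set (MulAut S))).comap (CfsgLib.AutPSL.innDiagHom 2 F) with hP
      have hgns : ¬ ∃ c : F, (g : Matrix (Fin 2) (Fin 2) F) = c • 1 := fun ⟨c, hc⟩ =>
        he1 (CfsgLib.AutPSL.semiAut_scalar hc)
      obtain ⟨v, hv⟩ : ∃ v : Fin 2 → F,
          v 0 * ((g : Matrix (Fin 2) (Fin 2) F) *ᵥ v) 1 - v 1 * ((g : Matrix (Fin 2) (Fin 2) F) *ᵥ v) 0 ≠ 0 := by
        by_contra hcon
        push Not at hcon
        refine hgns ⟨(g : Matrix (Fin 2) (Fin 2) F) 0 0, ?_⟩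
        have h1 := hcon ![1, 0]
        have h2 := hcon ![0, 1]
        have h3 := hcon ![1, 1]
        simp [Matrix.mulVec, dotProduct, Fin.sum_univ_two] at h1 h2 h3
        ext i j
        fin_cases i <;> fin_cases j <;> simp [h1, h2]
        linear_combination h3 - h1 + h2
      set G2 := (g : Matrix (Fin 2) (Fin 2) F)
      have hsign : ∀ h ∈ P, ((h : Matrix (Fin 2) (Fin 2) F) * G2 = G2 * (h : Matrix (Fin 2) (Fin 2) F)) ∨
          ((h : Matrix (Fin 2) (Fin 2) F) * G2 = -(G2 * (h : Matrix (Fin 2) (Fin 2) F))) := by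
        intro h hh
        have h1 : CfsgLib.AutPSL.innDiagHom 2 F (h * g * h⁻¹ * g⁻¹) = 1 := by
          rw [hP, mem_comap, mem_centralizer_singleton_iff] at hh
          rw [map_mul, map_mul, map_mul, map_inv, map_inv, hh, mul_inv_cancel_right]
          exact mul_inv_cancel e
        obtain ⟨c, hc⟩ := (CfsgLib.AutPSL.semiAut_eq_one le_rfl h1).2
        have hdet : c * c = 1 := by
          have hd := congrArg Matrix.det hc
          rw [Matrix.det_smul, Matrix.det_one, Fintype.card_fin, mul_one, pow_two] at hd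
          rw [← hd, ← Matrix.GeneralLinearGroup.val_det_apply]
          simp only [map_mul, map_inv]
          rw [mul_comm (Matrix.GeneralLinearGroup.det h)]
          simp
        have he : (h : Matrix (Fin 2) (Fin 2) F) * G2 = c • (G2 * (h : Matrix (Fin 2) (Fin 2) F)) := by
          have h2 : ((h * g : GL (Fin 2) F) : Matrix (Fin 2) (Fin 2) F) =
              ((h * g * h⁻¹ * g⁻¹) * (g * h) : GL (Fin 2) F) := by
            congr 1; group
          rw [Units.val_mul (h * g * h⁻¹ * g⁻¹) (g * h), hc, smul_mul_assoc, one_mul] at h2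
          exact h2
        rcases mul_self_eq_one_iff.1 hdet with rfl | rfl
        · exact Or.inl (by rw [he, one_smul])
        · exact Or.inr (by rw [he, neg_one_smul])
      have hPcard : Nat.card P ≤ 2 * (q ^ 2 - 1) := by
        let t : P → Bool × {w : Fin 2 → F // w ≠ 0} := fun h =>
          (decide (((h : GL (Fin 2) F) : Matrix (Fin 2) (Fin 2) F) * G2 =
              G2 * ((h : GL (Fin 2) F) : Matrix (Fin 2) (Fin 2) F)),
           ⟨((h : GL (Fin 2) F) : Matrix (Fin 2) (Fin 2) F) *ᵥ v, fun h0 => hv (by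
              have : v = 0 := by
                have := congrArg (fun w => (((h : GL (Fin 2) F)⁻¹ : GL (Fin 2) F) : Matrix (Fin 2) (Fin 2) F) *ᵥ w) h0
                simp only [Matrix.mulVec_mulVec, Units.inv_mul, Matrix.one_mulVec, Matrix.mulVec_zero] at this
                exact this
              simp [this])⟩)
        have hinj' : Function.Injective t := by
          intro h h' ht
          simp only [t, Prod.mk.injEq, Subtype.mk.injEq, decide_eq_decide] at ht
          obtain ⟨hiff, hvv⟩ := ht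
          have hGv : ((h : GL (Fin 2) F) : Matrix (Fin 2) (Fin 2) F) *ᵥ (G2 *ᵥ v) =
              ((h' : GL (Fin 2) F) : Matrix (Fin 2) (Fin 2) F) *ᵥ (G2 *ᵥ v) := by
            rw [Matrix.mulVec_mulVec, Matrix.mulVec_mulVec]
            by_cases hc : ((h : GL (Fin 2) F) : Matrix (Fin 2) (Fin 2) F) * G2 =
                G2 * ((h : GL (Fin 2) F) : Matrix (Fin 2) (Fin 2) F)
            · rw [hc, hiff.1 hc, ← Matrix.mulVec_mulVec, ← Matrix.mulVec_mulVec, hvv]
            · rw [(hsign _ h.2).resolve_left hc, (hsign _ h'.2).resolve_left fun e => hc (hiff.2 e),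
                Matrix.neg_mulVec, Matrix.neg_mulVec, ← Matrix.mulVec_mulVec,
                ← Matrix.mulVec_mulVec, hvv]
          refine Subtype.ext (Units.ext ?_)
          ext i j
          have e0 := congrFun hvv i
          have e1 := congrFun hGv i
          simp only [Matrix.mulVec, dotProduct, Fin.sum_univ_two] at e0 e1
          simp only [Matrix.mulVec, dotProduct, Fin.sum_univ_two] at hv
          fin_cases j <;> simp only [Fin.zero_eta, Fin.mk_one, Fin.isValue] at *
          · refine mul_left_cancel₀ hv ?_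
            linear_combination (G2 1 0 * v 0 + G2 1 1 * v 1) * e0 - v 1 * e1
          · refine mul_left_cancel₀ hv ?_
            linear_combination v 0 * e1 - (G2 0 0 * v 0 + G2 0 1 * v 1) * e0
        refine (Nat.card_le_card_of_injective t hinj').trans (le_of_eq ?_)
        rw [Nat.card_prod, Nat.card_eq_fintype_card (α := Bool), Fintype.card_bool,
          Nat.card_eq_fintype_card, Fintype.card_subtype_compl, Fintype.card_fun, Fintype.card_fin,
          Fintype.card_subtype_eq]
      have hker : Nat.card (CfsgLib.AutPSL.innDiagHom 2 F).ker = q - 1 := by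
        rw [CfsgLib.AutPSL.ker_innDiagHom le_rfl, CfsgLib.Linear.card_center_GL,
          Nat.card_eq_fintype_card]
      set C := centralizer ({e} : Set (MulAut S)) ⊓ Cfsg.inndiagPSL 2 F with hC
      have hCc : Nat.card C * (q - 1) ≤ 2 * (q ^ 2 - 1) := by
        refine le_trans (le_of_eq ?_) hPcard
        rw [← hker]
        let φ : P →* MulAut S := (CfsgLib.AutPSL.innDiagHom 2 F).comp P.subtype
        have hr : φ.range = C := by
          rw [MonoidHom.range_comp, range_subtype, hP, map_comap_eq, ← CfsgLib.AutPSL.inndiag_eq_range,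
            hC, inf_comm]
        have hk : Nat.card φ.ker = Nat.card (CfsgLib.AutPSL.innDiagHom 2 F).ker := by
          have : φ.ker = (CfsgLib.AutPSL.innDiagHom 2 F).ker.subgroupOf P := by
            rw [show φ.ker = (CfsgLib.AutPSL.innDiagHom 2 F).ker.comap P.subtype from
              (MonoidHom.comap_ker _ _).symm]
            rfl
          rw [this]
          refine Nat.card_congr (subgroupOfEquivOfLe ?_).toEquiv
          intro x hx
          rw [hP, mem_comap, MonoidHom.mem_ker.1 hx]
          exact one_mem _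
        rw [← hr, ← hk, Subgroup.card_eq_card_quotient_mul_card_subgroup φ.ker,
          Nat.card_congr (QuotientGroup.quotientKerEquivRange φ).toEquiv]
      have hhalf : 2 * Nat.card {z : S // e z = z} ≤ Nat.card C := by
        let T : {z : S // e z = z} × Bool → C := fun p =>
          ⟨MulAut.conj p.1.1 * (if p.2 then e else 1), by
            have hcz : MulAut.conj p.1.1 ∈ centralizer ({e} : Set (MulAut S)) := by
              refine mem_centralizer_singleton_iff.2 (MulEquiv.ext fun x => ?_)
              simp [MulAut.conj_apply, map_mul, p.1.2]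
            refine ⟨mul_mem hcz ?_, mul_mem (CfsgLib.AutPSL.inn_le_inndiag ⟨_, rfl⟩) ?_⟩
            · split_ifs
              · exact mem_centralizer_singleton_iff.2 rfl
              · exact one_mem _
            · split_ifs
              · exact heD
              · exact one_mem _⟩
        have hT : Function.Injective T := by
          rintro ⟨⟨z, hz⟩, b⟩ ⟨⟨z', hz'⟩, b'⟩ h
          have h' := congrArg Subtype.val h
          simp only [T] at h'
          cases b <;> cases b' <;> simp only [Bool.false_eq_true, ↓reduceIte, mul_one] at h'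
          · simp [hinj h']
          · exact absurd (⟨z'⁻¹ * z, by rw [map_mul, h', map_inv, inv_mul_cancel_left]⟩ : e ∈ I) heI
          · exact absurd (⟨z⁻¹ * z', by rw [map_mul, ← h', map_inv, inv_mul_cancel_left]⟩ : e ∈ I) heI
          · simp [hinj (mul_right_cancel h')]
        have := Nat.card_le_card_of_injective T hT
        rwa [Nat.card_prod, Nat.card_eq_fintype_card (α := Bool), Fintype.card_bool,
          mul_comm] at this
      obtain ⟨q', hq'⟩ : ∃ q', q = q' + 1 := ⟨q - 1, by omega⟩
      rw [hq', Nat.add_sub_cancel, show (q' + 1) ^ 2 - 1 = (q' + 2) * q' by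
        rw [show (q' + 1) ^ 2 = (q' + 2) * q' + 1 by ring]; simp, ← mul_assoc] at hCc
      have := Nat.le_of_mul_le_mul_right hCc (by omega)
      omega
  -- counting
  intro E hE
  have hsmall : Nat.card E ≤ 4 := (data_psl hn hF hna).small E hE
  have hED : E ≤ Cfsg.inndiagPSL 2 F := by
    intro e he
    rw [← CfsgLib.AutPSL.ker_fieldData, MonoidHom.mem_ker]
    obtain ⟨eR⟩ := CfsgLib.AutPSL.nonempty_ringAut_equiv (p := 3) (f := 2 * n + 1) (by omega) hF
    refine orderOf_eq_one_iff.1 (Nat.eq_one_of_dvd_coprimes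
      (Nat.coprime_two_left.2 (?_ : Odd (Nat.card (RingAut F))))
      (orderOf_dvd_of_pow_eq_one (n := 2) ?_) (orderOf_dvd_natCard _))
    · rw [Nat.card_congr eR.toEquiv]
      simp
    · rw [← map_pow, hE.2 e he, map_one]
  letI := Fintype.ofFinite S
  letI := Fintype.ofFinite (MulAut S)
  let bad : MulAut S → Finset S := fun e =>
    Finset.univ.filter fun y => e y * y⁻¹ * (e y * y⁻¹) = 1
  have hbad : ∀ e ∈ E, e ≠ 1 → (bad e).card ≤ (q + 1) * (q + 1) := by
    intro e he he1
    have hee : e * e = 1 := by rw [← pow_two]; exact hE.2 e he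
    have hC := hcentS e hee he1 (hED he)
    set C := {z : S // e z = z}
    have hz : ∀ y ∈ bad e, e (e y * y⁻¹) = e y * y⁻¹ := by
      intro y hy
      have h1 : e y * y⁻¹ = (e y * y⁻¹)⁻¹ :=
        (inv_eq_of_mul_eq_one_right (Finset.mem_filter.1 hy).2).symm
      calc e (e y * y⁻¹) = (e y * y⁻¹)⁻¹ := by
            rw [map_mul, map_inv, ← MulAut.mul_apply, hee, MulAut.one_apply, _root_.mul_inv_rev, inv_inv]
        _ = _ := h1.symm
    let rep : S → S := fun z =>
      if h : ∃ y, e y * y⁻¹ = z then h.choose else 1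
    have hrep : ∀ y, e (rep (e y * y⁻¹)) * (rep (e y * y⁻¹))⁻¹ = e y * y⁻¹ := fun y => by
      have h : ∃ y', e y' * y'⁻¹ = e y * y⁻¹ := ⟨y, rfl⟩
      simp only [rep, dif_pos h]
      exact h.choose_spec
    let t : {y // y ∈ bad e} → C × C := fun y =>
      (⟨e y.1 * y.1⁻¹, hz y.1 y.2⟩, ⟨(rep (e y.1 * y.1⁻¹))⁻¹ * y.1, by
        have h := hrep y.1
        rw [map_mul, map_inv]
        rw [mul_inv_eq_iff_eq_mul] at h
        rw [h]
        group⟩)
    have ht : Function.Injective t := by
      intro y y' h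
      simp only [t, Prod.mk.injEq, Subtype.mk.injEq] at h
      refine Subtype.ext ?_
      have h2 := congrArg Subtype.val h.2
      have h1 := congrArg Subtype.val h.1
      simp only at h1 h2
      rw [h1] at h2
      exact mul_left_cancel h2
    have := Nat.card_le_card_of_injective t ht
    rw [Nat.card_prod, Nat.card_eq_finsetCard] at this
    exact this.trans (Nat.mul_le_mul hC hC)
  let inv : Finset S := Finset.univ.filter fun y => y * y = 1
  have hinvc : 2 * inv.card ≤ q * (q - 1) + 2 := by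
    by_cases hex : ∃ s : S, s * s = 1 ∧ s ≠ 1
    · obtain ⟨s, hs, hs1⟩ := hex
      have hi := hindex s hs hs1
      have hle : inv ⊆ insert 1 ((Set.toFinite (MulAction.orbit (ConjAct S) s)).toFinset) := by
        intro y hy
        rcases eq_or_ne y 1 with rfl | hy1
        · exact Finset.mem_insert_self _ _
        · refine Finset.mem_insert_of_mem ((Set.Finite.mem_toFinset _).2 ?_)
          exact ConjAct.mem_orbit_conjAct.2
            (CfsgLib.Linear.FourGroups.involutions_conj hodd (Finset.mem_filter.1 hy).2 hy1 hs hs1)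
      have h1 := (Finset.card_le_card hle).trans (Finset.card_insert_le _ _)
      have h2 : (Set.toFinite (MulAction.orbit (ConjAct S) s)).toFinset.card =
          (centralizer ({s} : Set S)).index := by
        rw [← Set.ncard_eq_toFinset_card, ← Nat.card_coe_set_eq,
          Nat.card_congr (MulAction.orbitEquivQuotientStabilizer (ConjAct S) s),
          ConjAct.stabilizer_eq_centralizer]
        exact (Subgroup.index_eq_card _).symm
      omega
    · push Not at hex
      have : inv ⊆ {1} := fun y hy => Finset.mem_singleton.2 (hex y (Finset.mem_filter.1 hy).2)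
      have := Finset.card_le_card this
      simp at this
      omega
  let Ef : Finset (MulAut S) := Finset.univ.filter fun e => e ∈ E ∧ e ≠ 1
  have hEf : Ef.card ≤ 3 := by
    have h1 : (insert 1 Ef).card ≤ Nat.card E := by
      rw [← Nat.card_eq_finsetCard]
      refine Nat.card_le_card_of_injective (fun e => ⟨e.1, ?_⟩) fun a b h =>
        Subtype.ext (congrArg (fun t : E => (t : MulAut S)) h)
      rcases Finset.mem_insert.1 e.2 with h | h
      · rw [h]; exact one_mem _
      · exact (Finset.mem_filter.1 h).2.1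
    rw [Finset.card_insert_of_notMem (by simp [Ef])] at h1
    omega
  have hex : ∃ y, y ∉ inv ∪ Ef.biUnion bad := by
    by_contra hcon
    push Not at hcon
    have h1 : Nat.card S ≤ (inv ∪ Ef.biUnion bad).card := by
      rw [Nat.card_eq_fintype_card, ← Finset.card_univ]
      exact Finset.card_le_card fun y _ => hcon y
    have h2 : (Ef.biUnion bad).card ≤ 3 * ((q + 1) * (q + 1)) :=
      (Finset.card_biUnion_le_card_mul _ _ _ fun e he =>
        hbad e (Finset.mem_filter.1 he).2.1 (Finset.mem_filter.1 he).2.2).trans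
        (Nat.mul_le_mul_right _ hEf)
    have h3 := (Finset.card_union_le inv (Ef.biUnion bad))
    obtain ⟨q', hq'⟩ : ∃ q', q = q' + 1 := ⟨q - 1, by omega⟩
    rw [hq', show (q' + 1) ^ 2 - 1 = q' * q' + 2 * q' by
      rw [show (q' + 1) ^ 2 = q' * q' + 2 * q' + 1 by ring]; simp] at hcardS
    rw [hq', Nat.add_sub_cancel] at hinvc
    rw [hq'] at h2
    nlinarith [hq27, Nat.mul_le_mul_left (q' * q') (show 26 ≤ q' by omega)]
  obtain ⟨y, hy⟩ := hex
  rw [Finset.mem_union, Finset.mem_biUnion, not_or] at hy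
  refine ⟨y, fun k hk => hy.1 ?_, fun e he he1 k hk => hy.2 ⟨e, ?_, ?_⟩⟩
  · simpa [inv] using hinv2 y k hk
  · simp [Ef, he, he1]
  · simpa [bad] using hinv2 _ k hk

end PSL

/-- Simple groups of the two types have generic elements. -/
theorem generic_of_type {S : Type u} [Group S] [IsSimpleGroup S] (hn : ¬ IsMulCommutative S)
    (h : Cfsg.IsSuzukiOrPSL2OddPowerThree S) : Generic S := by
  rcases h with ⟨F, _, _, m, hm, hF, ⟨e⟩⟩ | ⟨F, _, _, n, hF, ⟨e⟩⟩
  · have h := CfsgLib.Suzuki.isSzField_of_card hm hF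
    exact (generic_sz h).congr (e.trans (CfsgLib.Suzuki.lieEquiv h).symm)
  · rcases Nat.eq_zero_or_pos n with rfl | hn1
    · haveI : IsSimpleGroup (Matrix.ProjectiveSpecialLinearGroup (Fin 2) F) := e.symm.isSimpleGroup
      exact (not_simple_three (by simpa using hF) (not_comm_of e hn)).elim
    · exact (generic_psl hn1 hF).congr e

end CfsgLib.SThreeFree.K
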