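import Cfsg.Agent.SThreeFree.K.Single
import Mathlib.GroupTheory.NoncommPiCoprod

/-!
A transitively permuted family of commuting quasisimple groups of restricted type.
-/

set_option autoImplicit false
set_option linter.unusedSectionVars false
set_option linter.style.haveILetI false

namespace CfsgLib.SThreeFree.K

open Subgroup

universe u

variable {Γ : Type u} [Group Γ] [Finite Γ]

/-- A family of commuting quasisimple groups permuted by `A`, all acting on `W`. -/
structure Fam (W A X : Subgroup Γ) (𝒦 : Set (Subgroup Γ)) : Prop where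
  elabW : Cfsg.IsElementaryAbelian 2 W
  elabA : Cfsg.IsElementaryAbelian 2 A
  normA : A ≤ normalizer (W : Set Γ)
  normK : ∀ K ∈ 𝒦, K ≤ normalizer (W : Set Γ)
  leA : A ≤ X
  leK : ∀ K ∈ 𝒦, K ≤ X
  comm : ∀ K ∈ 𝒦, ∀ K' ∈ 𝒦, K ≠ K' → ∀ k ∈ K, ∀ k' ∈ K', k * k' = k' * k
  perm : ∀ a ∈ A, ∀ K ∈ 𝒦, K.map (MulAut.conj a).toMonoidHom ∈ 𝒦
  typ : ∀ K ∈ 𝒦, KType K
  nt : ∀ K ∈ 𝒦, ¬ K ≤ centralizer (W : Set Γ)
  faith : ∀ a ∈ A, (∀ K ∈ 𝒦, ∀ k ∈ K, a * k = k * a) → a = 1

theorem mem_map_conj {g x : Γ} {K : Subgroup Γ} :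
    x ∈ K.map (MulAut.conj g).toMonoidHom ↔ g⁻¹ * x * g ∈ K := by
  rw [mem_map_equiv, MulAut.conj_symm_apply]

theorem map_conj_mul (a b : Γ) (K : Subgroup Γ) :
    K.map (MulAut.conj (a * b)).toMonoidHom =
      (K.map (MulAut.conj b).toMonoidHom).map (MulAut.conj a).toMonoidHom := by
  rw [map_map]
  congr 1
  ext x
  simp [mul_assoc]

theorem map_conj_eq_self_iff {a : Γ} {K : Subgroup Γ} :
    K.map (MulAut.conj a).toMonoidHom = K ↔ a ∈ normalizer (K : Set Γ) := by
  rw [mem_normalizer_iff'']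
  constructor
  · intro e x
    conv_lhs => rw [← e]
    exact mem_map_conj
  · intro h
    ext x
    rw [mem_map_conj]
    exact (h x).symm

theorem conj_mem_centralizer {W : Subgroup Γ} {g c : Γ} (hg : g ∈ normalizer (W : Set Γ))
    (hc : c ∈ centralizer (W : Set Γ)) : g * c * g⁻¹ ∈ centralizer (W : Set Γ) := by
  refine mem_centralizer_iff.2 fun w hw => ?_
  have h1 := mem_centralizer_iff.1 hc _ ((mem_normalizer_iff''.1 hg w).1 hw)
  calc w * (g * c * g⁻¹) = g * ((g⁻¹ * w * g) * c) * g⁻¹ := by group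
    _ = g * (c * (g⁻¹ * w * g)) * g⁻¹ := by rw [h1]
    _ = _ := by group

theorem mem_normalizer_inf_centralizer {W B : Subgroup Γ} {g : Γ} (hg : g ∈ normalizer (W : Set Γ))
    (hgB : ∀ b ∈ B, g * b = b * g) : g ∈ normalizer ((W ⊓ centralizer (B : Set Γ) : Subgroup Γ) : Set Γ) := by
  refine mem_normalizer_fintype ?_
  rintro w ⟨hw, hwB⟩
  refine ⟨(mem_normalizer_iff.1 hg w).1 hw, mem_centralizer_iff.2 fun b hb => ?_⟩
  have h1 := mem_centralizer_iff.1 hwB b hb
  have h2 := hgB b hb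
  calc b * (g * w * g⁻¹) = (b * g) * w * g⁻¹ := by group
    _ = g * (b * w) * g⁻¹ := by rw [← h2]; group
    _ = g * w * ((g * b⁻¹)⁻¹)  := by rw [h1]; group
    _ = g * w * (b⁻¹ * g)⁻¹ := by
      have h3 : g * b⁻¹ = b⁻¹ * g := hgB b⁻¹ (B.inv_mem hb)
      rw [h3]
    _ = _ := by group

theorem pi_noncomm_mem {ι : Type*} [Fintype ι] {N : ι → Type*} [∀ i, Monoid (N i)]
    (φ : ∀ i, N i →* Γ) (h : Pairwise fun i j => ∀ x y, Commute (φ i x) (φ j y)) (H : Subgroup Γ)
    (f : ∀ i, N i) (hf : ∀ i, φ i (f i) ∈ H) : MonoidHom.noncommPiCoprod φ h f ∈ H :=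
  Subgroup.noncommProd_mem H (fun i _ j _ hij => h hij _ _) (fun i _ => hf i)

theorem pi_hom_ext {ι : Type*} [Finite ι] [DecidableEq ι] {N : ι → Type*} [∀ i, Monoid (N i)]
    {M : Type*} [Monoid M] {f g : (∀ i, N i) →* M}
    (h : ∀ i x, f (Pi.mulSingle i x) = g (Pi.mulSingle i x)) : f = g := by
  haveI := Fintype.ofFinite ι
  ext x
  rw [← Finset.noncommProd_mulSingle x]
  erw [Finset.map_noncommProd, Finset.map_noncommProd]
  exact Finset.noncommProd_congr rfl (fun i _ => h i (x i)) _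

/-- The bound for one orbit. -/
theorem orbit_bound {W A X : Subgroup Γ} {𝒦 : Set (Subgroup Γ)} (hF : Fam W A X 𝒦)
    (h3 : ¬ CfsgLib.ZJ.Inverts 3 X) {K : Subgroup Γ} (hK : K ∈ 𝒦)
    (htr : ∀ K' ∈ 𝒦, ∃ a ∈ A, K' = K.map (MulAut.conj a).toMonoidHom) :
    Nat.card A ^ 2 ≤ idx W A := by
  classical
  set A1 := A ⊓ normalizer (K : Set Γ) with hA1
  have hA1A : A1 ≤ A := inf_le_left
  obtain ⟨T, hTA, hTA1, hsup⟩ := exists_compl hF.elabA hA1A
  have hcA : ∀ a ∈ A, ∀ b ∈ A, a * b = b * a := fun a ha b hb =>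
    CfsgLib.Thompson.elab_commute hF.elabA ha hb
  have hTel : Cfsg.IsElementaryAbelian 2 T :=
    ⟨⟨⟨fun a b => Subtype.ext (hcA a (hTA a.2) b (hTA b.2))⟩⟩, fun a ha => hF.elabA.2 a (hTA ha)⟩
  have hA1el : Cfsg.IsElementaryAbelian 2 A1 :=
    ⟨⟨⟨fun a b => Subtype.ext (hcA a (hA1A a.2) b (hA1A b.2))⟩⟩, fun a ha => hF.elabA.2 a (hA1A ha)⟩
  -- distinct elements of `T` give distinct conjugates
  have hKt : ∀ t : T, K.map (MulAut.conj (t : Γ)).toMonoidHom ∈ 𝒦 := fun t => hF.perm t (hTA t.2) K hK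
  have hdist : ∀ s t : T, s ≠ t → K.map (MulAut.conj (s : Γ)).toMonoidHom ≠
      K.map (MulAut.conj (t : Γ)).toMonoidHom := by
    intro s t hne e
    refine hne (Subtype.ext ?_)
    have h1 : K.map (MulAut.conj ((t : Γ)⁻¹ * s)).toMonoidHom = K := by
      rw [map_conj_mul, e, ← map_conj_mul, inv_mul_cancel]
      ext x; simp
    have h2 : (t : Γ)⁻¹ * s ∈ T ⊓ A1 :=
      ⟨T.mul_mem (T.inv_mem t.2) s.2, A.mul_mem (A.inv_mem (hTA t.2)) (hTA s.2),
        map_conj_eq_self_iff.1 h1⟩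
    rw [hTA1, mem_bot, inv_mul_eq_one] at h2
    exact h2.symm
  haveI : Fintype T := Fintype.ofFinite T
  let φ : T → (K →* Γ) := fun t => (MulAut.conj (t : Γ)).toMonoidHom.comp K.subtype
  have hφmem : ∀ (t : T) (k : K), φ t k ∈ K.map (MulAut.conj (t : Γ)).toMonoidHom := fun t k =>
    mem_map_of_mem _ k.2
  have hφ : Pairwise fun s t => ∀ x y, Commute (φ s x) (φ t y) := fun s t hst x y =>
    hF.comm _ (hKt s) _ (hKt t) (hdist s t hst) _ (hφmem s x) _ (hφmem t y)
  set P : ((_t : T) → K) →* Γ := MonoidHom.noncommPiCoprod φ hφ with hP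
  have hPs : ∀ (t : T) (k : K), P (Pi.mulSingle t k) = (t : Γ) * k * (t : Γ)⁻¹ := fun t k =>
    MonoidHom.noncommPiCoprod_mulSingle φ t k
  -- the action of a product on `K` is that of its component
  have hone : φ 1 = K.subtype := by
    ext k; simp [φ]
  have hproj : ∀ (f : (_t : T) → K) (k : Γ), k ∈ K →
      P f * k * (P f)⁻¹ = (f 1 : Γ) * k * (f 1 : Γ)⁻¹ := by
    intro f k hk
    set f' : (_t : T) → K := Function.update f 1 1 with hf'
    have hsplit : f = Pi.mulSingle 1 (f 1) * f' := by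
      funext t
      rcases eq_or_ne t 1 with rfl | ht
      · simp [hf']
      · simp [hf', ht]
    have hmem : P f' ∈ centralizer ({k} : Set Γ) := by
      refine pi_noncomm_mem φ hφ _ f' fun t => ?_
      rcases eq_or_ne t 1 with rfl | ht
      · simp [hf', one_mem]
      · refine mem_centralizer_singleton_iff.2 ?_
        have hk1 : k ∈ K.map (MulAut.conj ((1 : T) : Γ)).toMonoidHom := by
          rw [mem_map_conj]; simpa using hk
        exact hF.comm _ (hKt t) _ (hKt 1) (hdist t 1 ht) _ (hφmem t _) _ hk1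
    rw [mem_centralizer_singleton_iff] at hmem
    conv_lhs => rw [hsplit, map_mul, hPs]
    rw [OneMemClass.coe_one]
    calc (1 : Γ) * (f 1 : Γ) * 1⁻¹ * P f' * k * ((1 : Γ) * (f 1 : Γ) * 1⁻¹ * P f')⁻¹
        = (f 1 : Γ) * (P f' * k) * (P f')⁻¹ * (f 1 : Γ)⁻¹ := by group
      _ = (f 1 : Γ) * (k * P f') * (P f')⁻¹ * (f 1 : Γ)⁻¹ := by rw [hmem]
      _ = _ := by group
  have hPW : ∀ f, P f ∈ normalizer (W : Set Γ) := fun f =>
    pi_noncomm_mem φ hφ _ f fun t => mul_mem (mul_mem (hF.normA (hTA t.2)) (hF.normK K hK (f t).2))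
      (inv_mem (hF.normA (hTA t.2)))
  have hPX : ∀ f, P f ∈ X := fun f =>
    pi_noncomm_mem φ hφ _ f fun t => X.mul_mem (X.mul_mem (hF.leA (hTA t.2)) (hF.leK K hK (f t).2))
      (X.inv_mem (hF.leA (hTA t.2)))
  have hKty := hF.typ K hK
  have hKn := hF.normK K hK
  have hKnt := hF.nt K hK
  -- shifting
  have hshift : ∀ (s : T) (f : (_t : T) → K),
      (s : Γ) * P f * (s : Γ)⁻¹ = P fun t => f (s⁻¹ * t) := by
    intro s
    let R : ((_t : T) → K) →* ((_t : T) → K) :=
      MonoidHom.mk' (fun f t => f (s⁻¹ * t)) fun f g => rfl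
    have : (MulAut.conj (s : Γ)).toMonoidHom.comp P = P.comp R := by
      refine pi_hom_ext fun t k => ?_
      have hR : R (Pi.mulSingle t k) = Pi.mulSingle (s * t) k := by
        funext i
        show (Pi.mulSingle t k : (_t : T) → K) (s⁻¹ * i) = _
        rcases eq_or_ne i (s * t) with rfl | hi
        · simp
        · rw [Pi.mulSingle_eq_of_ne hi, Pi.mulSingle_eq_of_ne]
          intro e; exact hi (by rw [← e, mul_inv_cancel_left])
      rw [MonoidHom.comp_apply, MonoidHom.comp_apply, hR, hPs, hPs]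
      simp [mul_assoc]
    exact fun f => DFunLike.congr_fun this f
  -- first step: the bound for `T`
  obtain ⟨r, hr, hr2, x, hx, hxc⟩ := exists_prime_elt hKty
  have hTbound : Nat.card T ^ 2 ≤ idx W T := by
    let Z : Subgroup K := zpowers x
    let Q : ((_t : T) → Z) →* Γ := P.comp (MonoidHom.mk' (fun f t => (f t : K)) fun _ _ => rfl)
    set Y := Q.range with hY
    have hYodd : Odd (Nat.card Y) := by
      refine Odd.of_dvd_nat ?_ (Subgroup.card_range_dvd Q)
      rw [Nat.card_fun, Nat.card_zpowers, hx]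
      exact (hr.odd_of_ne_two hr2).pow
    have hTY : T ≤ normalizer (Y : Set Γ) := fun s hs => by
      refine mem_normalizer_fintype ?_
      rintro _ ⟨f, rfl⟩
      exact ⟨fun t => f ((⟨s, hs⟩ : T)⁻¹ * t), (hshift ⟨s, hs⟩ fun t => (f t : K)).symm⟩
    have hYf : ∀ o ∈ Y, o ∈ centralizer (W : Set Γ) → o = 1 := by
      rintro _ ⟨f, rfl⟩ hc
      have hzero : ∀ t, f t = 1 := by
        intro t
        set g : (_t : T) → K := fun i => (f (t * i) : K) with hg
        have hgc : P g ∈ centralizer (W : Set Γ) := by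
          have e : P g = (t : Γ)⁻¹ * Q f * ((t : Γ)⁻¹)⁻¹ := by
            rw [← Subgroup.coe_inv]
            refine Eq.trans ?_ (hshift t⁻¹ _).symm
            simp [hg]
          rw [e]
          exact conj_mem_centralizer (inv_mem (hF.normA (hTA t.2))) hc
        have hcen : (f t : K) ∈ center K := by
          have key : ∀ k ∈ K, ∃ z : K, z ∈ center K ∧
              ((f t : K) : Γ) * k * ((f t : K) : Γ)⁻¹ = (z : Γ) * k := by
            intro k hk
            refine ⟨(f t : K) * ⟨k, hk⟩ * (f t : K)⁻¹ * (⟨k, hk⟩ : K)⁻¹, ?_, by simp⟩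
            refine hKty.mem_center_of_fixes hKn hKnt (((f t : K) * ⟨k, hk⟩ * (f t : K)⁻¹ * (⟨k, hk⟩ : K)⁻¹).2) ?_
            have h1 := hproj g k hk
            simp only [hg, mul_one] at h1
            have h2 : P g * k * (P g)⁻¹ * k⁻¹ ∈ centralizer (W : Set Γ) := by
              rw [show P g * k * (P g)⁻¹ * k⁻¹ = P g * (k * (P g)⁻¹ * k⁻¹) by group]
              exact mul_mem hgc (conj_mem_centralizer (hKn hk) (inv_mem hgc))
            rw [h1] at h2
            simpa using h2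
          refine mem_center_iff.2 fun k => Subtype.ext ?_
          exact (commute_of_mod_center hKty.perfect key k k.2).symm
        refine Subtype.ext ?_
        by_contra hne
        refine hxc ?_
        obtain ⟨⟨y, hy⟩, hye⟩ : ∃ y : Z, y = f t := ⟨_, rfl⟩
        rw [← hye] at hcen hne
        haveI : Fact r.Prime := ⟨hr⟩
        have htop : zpowers y = zpowers x := by
          refine eq_of_le_of_card_ge (zpowers_le.2 hy) (le_of_eq ?_)
          rw [Nat.card_zpowers, Nat.card_zpowers, hx]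
          exact (((Nat.dvd_prime hr).1 (hx ▸ orderOf_dvd_of_mem_zpowers hy)).resolve_left
            fun h => hne (orderOf_eq_one_iff.1 h)).symm
        exact zpowers_le.2 hcen (htop ▸ mem_zpowers x)
      show Q f = 1
      rw [show f = 1 from funext hzero, map_one]
    have hTf : ∀ a ∈ T, (∀ o ∈ Y, a * o = o * a) → a = 1 := by
      intro a ha h
      by_contra hne
      have hfa : Q (Pi.mulSingle 1 ⟨x, mem_zpowers x⟩) = (x : Γ) := by
        show P (fun t => ((Pi.mulSingle 1 ⟨x, mem_zpowers x⟩ : (_t : T) → Z) t : K)) = _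
        have : (fun t => ((Pi.mulSingle 1 ⟨x, mem_zpowers x⟩ : (_t : T) → Z) t : K)) = Pi.mulSingle 1 x := by
          funext t
          rcases eq_or_ne t 1 with rfl | ht
          · simp
          · simp [ht]
        rw [this, hPs]; simp
      have h1 := h _ ⟨Pi.mulSingle 1 ⟨x, mem_zpowers x⟩, rfl⟩
      rw [hfa] at h1
      refine hxc (mem_center_iff.2 fun k => Subtype.ext ?_)
      have hxa : (x : Γ) ∈ K.map (MulAut.conj ((⟨a, ha⟩ : T) : Γ)).toMonoidHom :=
        ⟨x, x.2, by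
          show a * (x : Γ) * a⁻¹ = x
          rw [h1, mul_inv_cancel_right]⟩
      have hk1 : (k : Γ) ∈ K.map (MulAut.conj ((1 : T) : Γ)).toMonoidHom := by
        rw [mem_map_conj]; simp
      exact (hF.comm _ (hKt ⟨a, ha⟩) _ (hKt 1)
        (hdist _ _ fun e => hne (congrArg Subtype.val e)) _ hxa _ hk1).symm
    have hYW : Y ≤ normalizer (W : Set Γ) := by rintro _ ⟨f, rfl⟩; exact hPW _
    have hYX : Y ≤ X := by rintro _ ⟨f, rfl⟩; exact hPX _
    have hfaith := inf_centralizer_eq_bot hYW hYodd hTel hTY hYf hTf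
    haveI : IsMulCommutative W := hF.elabW.1
    have hMX : Y ⊔ T ≤ X := sup_le hYX (hTA.trans hF.leA)
    exact CfsgLib.OffenderTwo.sq_le_relIndex (Y ⊔ T) W Y hF.elabW.2
      (sup_le hYW (hTA.trans hF.normA)) hfaith le_sup_left hYodd
      (fun a ha z hz ho he => h3 (CfsgLib.ZJ.inverts_subgroup_iff.2 ⟨a, hMX ha, z, hMX hz,
        fun e => by rw [e, orderOf_one] at ho; omega,
        ⟨1, by rw [pow_one, ← ho, pow_orderOf_eq_one]⟩, he⟩))
      _ T rfl le_sup_right (fun a ha b hb => hcA a (hTA ha) b (hTA hb)) hTel.2 hTY hTf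
  -- second step: the diagonal group
  let D0 : K →* Γ := P.comp (MonoidHom.mk' (fun k _ => k) fun _ _ => rfl)
  have hDproj : ∀ (k : K) (m : Γ), m ∈ K → D0 k * m * (D0 k)⁻¹ = (k : Γ) * m * (k : Γ)⁻¹ :=
    fun k m hm => hproj _ m hm
  have hDT : ∀ (k : K), ∀ s ∈ T, s * D0 k = D0 k * s := by
    intro k s hs
    exact mul_inv_eq_iff_eq_mul.1 (hshift ⟨s, hs⟩ _)
  have hDker : D0.ker ≤ center K := by
    intro k hk
    refine mem_center_iff.2 fun m => Subtype.ext ?_
    have h1 := hDproj k m m.2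
    rw [hk] at h1
    simp only [one_mul, inv_one, mul_one] at h1
    show (m : Γ) * k = k * m
    nth_rewrite 1 [h1]
    group
  set D := D0.range with hD
  have hDz : ∀ k : K, D0.rangeRestrict k ∈ center D ↔ k ∈ center K := by
    intro k
    constructor
    · intro hk
      refine mem_center_iff.2 fun m => Subtype.ext ?_
      refine (commute_of_mod_center hKty.perfect (g := (k : Γ)) (fun m' hm' => ?_) m m.2).symm
      refine ⟨k * ⟨m', hm'⟩ * k⁻¹ * (⟨m', hm'⟩ : K)⁻¹, hDker ?_, by simp⟩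
      rw [MonoidHom.mem_ker, map_mul, map_mul, map_mul, map_inv, map_inv]
      have h1 : D0 ⟨m', hm'⟩ * D0 k = D0 k * D0 ⟨m', hm'⟩ :=
        congrArg Subtype.val (mem_center_iff.1 hk (D0.rangeRestrict ⟨m', hm'⟩))
      rw [← h1]
      group
    · intro hk
      refine mem_center_iff.2 ?_
      rintro ⟨_, m, rfl⟩
      refine Subtype.ext ?_
      show D0 m * D0 k = D0 k * D0 m
      rw [← map_mul, ← map_mul, mem_center_iff.1 hk m]
  have hDnc : center D ≠ ⊤ := by
    intro e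
    refine CfsgLib.Comp.quasisimple_center_ne_top hKty.quasi (eq_top_iff.2 fun k _ => ?_)
    exact (hDz k).1 (e ▸ mem_top _)
  have hDq : Cfsg.IsQuasisimple D :=
    CfsgLib.BBalance.quasisimple_of_surjective D0.rangeRestrict D0.rangeRestrict_surjective
      hKty.quasi (by
        by_contra h
        rw [not_nontrivial_iff_subsingleton] at h
        exact hDnc (Subsingleton.elim _ _))
  have hDty : KType D := by
    refine ⟨hDq, ?_, ?_⟩
    · have hmap : center D = (center K).map D0.rangeRestrict := by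
        ext d
        obtain ⟨k, rfl⟩ := D0.rangeRestrict_surjective d
        constructor
        · exact fun h => mem_map_of_mem _ ((hDz k).1 h)
        · rintro ⟨k', hk', e⟩
          exact e ▸ (hDz k').2 hk'
      rw [hmap]
      exact hKty.oddc.of_dvd_nat (card_map_dvd _ _)
    · have e : K ⧸ center K ≃* D ⧸ center D :=
        (QuotientGroup.quotientMulEquivOfEq (show center K =
          ((QuotientGroup.mk' (center D)).comp D0.rangeRestrict).ker by
            ext k; rw [MonoidHom.mem_ker, MonoidHom.comp_apply, ← hDz]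
            exact (QuotientGroup.eq_one_iff _).symm)).trans
          (QuotientGroup.quotientKerEquivOfSurjective _
            ((QuotientGroup.mk'_surjective _).comp D0.rangeRestrict_surjective))
      rcases hKty.type with ⟨F, iF, iF', m, hm, hc, ⟨eS⟩⟩ | ⟨F, iF, iF', m, hc, ⟨eS⟩⟩
      · exact Or.inl ⟨F, iF, iF', m, hm, hc, ⟨e.symm.trans eS⟩⟩
      · exact Or.inr ⟨F, iF, iF', m, hc, ⟨e.symm.trans eS⟩⟩
  set W' := W ⊓ centralizer (T : Set Γ) with hW'
  have hW'el : Cfsg.IsElementaryAbelian 2 W' :=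
    ⟨⟨⟨fun a b => Subtype.ext (CfsgLib.Thompson.elab_commute hF.elabW a.2.1 b.2.1)⟩⟩,
      fun a ha => hF.elabW.2 a ha.1⟩
  have hA1D : ∀ (a : Γ) (ha : a ∈ A1) (k : K),
      a * D0 k * a⁻¹ = D0 ⟨a * k * a⁻¹, (mem_normalizer_iff.1 ha.2 _).1 k.2⟩ := by
    intro a ha
    let β : K →* K := MonoidHom.mk' (fun k => ⟨a * k * a⁻¹, (mem_normalizer_iff.1 ha.2 _).1 k.2⟩)
      fun k l => Subtype.ext (by simp [mul_assoc])
    let R : ((_t : T) → K) →* ((_t : T) → K) :=
      MonoidHom.mk' (fun f t => β (f t)) fun f g => funext fun t => map_mul β _ _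
    have key : (MulAut.conj a).toMonoidHom.comp P = P.comp R := by
      refine pi_hom_ext fun t k => ?_
      have hR : R (Pi.mulSingle t k) = Pi.mulSingle t (β k) := by
        funext i
        rcases eq_or_ne i t with rfl | hi
        · simp [R]
        · simp [R, hi]
      rw [MonoidHom.comp_apply, MonoidHom.comp_apply, hR, hPs, hPs]
      show a * ((t : Γ) * k * (t : Γ)⁻¹) * a⁻¹ = (t : Γ) * (a * k * a⁻¹) * (t : Γ)⁻¹
      calc a * ((t : Γ) * k * (t : Γ)⁻¹) * a⁻¹ = (a * t) * k * (a * t)⁻¹ := by group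
        _ = (t * a) * k * (t * a)⁻¹ := by rw [hcA a (hA1A ha) t (hTA t.2)]
        _ = _ := by group
    exact fun k => DFunLike.congr_fun key fun _ => k
  have hsecond : Nat.card A1 ^ 2 ≤ idx W' A1 := by
    refine single_bound (K := D) hW'el hA1el ?_ ?_ ?_ hDty ?_ ?_ X (hA1A.trans hF.leA)
      (by rintro _ ⟨k, rfl⟩; exact hPX _) h3
    · exact fun a ha => mem_normalizer_inf_centralizer (hF.normA (hA1A ha))
        fun t ht => hcA a (hA1A ha) t (hTA ht)
    · intro a ha
      refine mem_normalizer_fintype ?_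
      rintro _ ⟨k, rfl⟩
      exact ⟨_, (hA1D a ha k).symm⟩
    · rintro _ ⟨k, rfl⟩
      exact mem_normalizer_inf_centralizer (hPW _) fun t ht => (hDT k t ht).symm
    · intro hle
      have hxo : Odd (orderOf (D0 x)) := (hx ▸ hr.odd_of_ne_two hr2).of_dvd_nat (orderOf_map_dvd D0 x)
      have hfix : D0 x ∈ centralizer (W : Set Γ) :=
        fixes_of_inf hF.elabW hTel (hTA.trans hF.normA) (hPW _) hxo (hDT x) fun w hw =>
          mul_inv_eq_iff_eq_mul.2 (mem_centralizer_iff.1 (hle ⟨x, rfl⟩) w hw).symm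
      refine hxc (mem_center_iff.2 fun m => Subtype.ext ?_)
      refine (commute_of_mod_center hKty.perfect (g := (x : Γ)) (fun m' hm' => ?_) m m.2).symm
      refine ⟨x * ⟨m', hm'⟩ * x⁻¹ * (⟨m', hm'⟩ : K)⁻¹,
        hKty.mem_center_of_fixes hKn hKnt ((x * ⟨m', hm'⟩ * x⁻¹ * (⟨m', hm'⟩ : K)⁻¹).2) ?_, by simp⟩
      simp only [Subgroup.coe_mul, Subgroup.coe_inv]
      rw [← hDproj x m' hm', show D0 x * m' * (D0 x)⁻¹ * m'⁻¹ = D0 x * (m' * (D0 x)⁻¹ * m'⁻¹) by group]
      exact mul_mem hfix (conj_mem_centralizer (hKn hm') (inv_mem hfix))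
    · intro a ha h
      have hcK : ∀ k ∈ K, a * k = k * a := by
        refine commute_of_mod_center hKty.perfect fun k hk => ?_
        refine ⟨⟨a * k * a⁻¹, (mem_normalizer_iff.1 ha.2 _).1 hk⟩ * (⟨k, hk⟩ : K)⁻¹, hDker ?_, by simp⟩
        rw [MonoidHom.mem_ker, map_mul, map_inv, ← hA1D a ha ⟨k, hk⟩, h _ ⟨⟨k, hk⟩, rfl⟩,
          mul_inv_cancel_right, mul_inv_cancel]
      refine hF.faith a (hA1A ha) fun K' hK' k hk => ?_
      obtain ⟨b, hb, rfl⟩ := htr K' hK'
      obtain ⟨m, hm, rfl⟩ := mem_map.1 hk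
      show a * (b * m * b⁻¹) = b * m * b⁻¹ * a
      calc a * (b * m * b⁻¹) = b * (a * m) * b⁻¹ := by
            rw [← mul_assoc, ← mul_assoc, hcA a (hA1A ha) b hb]; group
        _ = b * m * (a * b⁻¹) := by rw [hcK m hm]; group
        _ = b * m * (b⁻¹ * a) := by rw [hcA a (hA1A ha) b⁻¹ (A.inv_mem hb)]
        _ = _ := by group
  calc Nat.card A ^ 2 ≤ (Nat.card A1 * Nat.card T) ^ 2 :=
        Nat.pow_le_pow_left (card_sq_le hF.elabA hA1A hTA hsup) 2
    _ = Nat.card T ^ 2 * Nat.card A1 ^ 2 := by ring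
    _ ≤ idx W T * idx W' A1 := Nat.mul_le_mul hTbound hsecond
    _ = idx W A := by
      rw [idx_mul W hTA]
      congr 1
      rw [← hsup, sup_comm, idx_sup]

end CfsgLib.SThreeFree.K
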