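import Cfsg.Agent.SThreeFree.K.Dual
import Cfsg.Agent.SThreeFree.K.AllSub
import Cfsg.Agent.PLocal.Core
import Cfsg.Agent.Solvable.PGroupBasic
import Cfsg.Agent.ZJ.Inverts

/-!
The bound `|A|² ≤ |W : C_W(A)|` on normal elementary sections generated by fixed points of Sylow
subgroups, and its consequence for an arbitrary normal 2-subgroup.
-/

set_option autoImplicit false
set_option linter.unusedSectionVars false
set_option linter.style.haveILetI false

namespace CfsgLib.SThreeFree.K

open Subgroup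
open scoped commutatorElement

universe u

variable {X : Type u} [Group X] [Finite X]

theorem card_relIndex {A B : Subgroup X} (h : A ≤ B) :
    Nat.card A * A.relIndex B = Nat.card B := by
  rw [← relIndex_bot_left, relIndex_mul_relIndex ⊥ A B bot_le h, relIndex_bot_left]

/-- Elementary abelian modulo the centralizer of `W`. -/
def ElemMod (W A : Subgroup X) : Prop :=
  ⁅A, A⁆ ≤ centralizer (W : Set X) ∧ ∀ a ∈ A, a ^ 2 ∈ centralizer (W : Set X)

theorem ElemMod.mono {W A B : Subgroup X} (h : ElemMod W A) (hBA : B ≤ A) : ElemMod W B :=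
  ⟨(commutator_mono hBA hBA).trans h.1, fun b hb => h.2 b (hBA hb)⟩

theorem elemMod_of_elab {A : Subgroup X} (hA : Cfsg.IsElementaryAbelian 2 A) (W : Subgroup X) :
    ElemMod W A :=
  ⟨commutator_le.2 fun a ha b hb => by
    rw [commutatorElement_def, CfsgLib.Thompson.elab_commute hA ha hb, mul_inv_cancel_right,
      mul_inv_cancel]
    exact one_mem _,
  fun a ha => by rw [hA.2 a ha]; exact one_mem _⟩

/-- The bound on a normal elementary subgroup generated by fixed points of Sylow subgroups. -/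
theorem k_section (W : Subgroup X) [W.Normal] (hW : Cfsg.IsElementaryAbelian 2 W)
    (hgen : W = ⨆ S : Sylow 2 X, W ⊓ centralizer ((S : Subgroup X) : Set X))
    (h3 : ¬ CfsgLib.ZJ.Inverts 3 X) (hK : KAll X) (A : Subgroup X) (hA : ElemMod W A) :
    (centralizer (W : Set X)).relIndex A ^ 2 ≤ idx W A ∧
      (centralizer (W : Set X)).relIndex A ^ 2 ≤ Nat.card ↥⁅W, A⁆ := by
  classical
  haveI : Fact (Nat.Prime 2) := ⟨Nat.prime_two⟩
  haveI : Fact (Nat.Prime 3) := ⟨Nat.prime_three⟩
  letI : CommGroup W := { (inferInstance : Group W) with mul_comm := hW.1.is_comm.comm }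
  set C := centralizer (W : Set X) with hC
  set φ : X →* MulAut W := MulAut.conjNormal with hφ
  have hker : ∀ x : X, φ x = 1 ↔ x ∈ C := by
    intro x
    constructor
    · intro h
      refine mem_centralizer_iff.2 fun v hv => ?_
      have h1 := congrArg Subtype.val (DFunLike.congr_fun h (⟨v, hv⟩ : W))
      rw [hφ, MulAut.conjNormal_apply] at h1
      exact (mul_inv_eq_iff_eq_mul.1 h1).symm
    · intro hx
      refine MulEquiv.ext fun v => Subtype.ext ?_
      rw [hφ, MulAut.conjNormal_apply, MulAut.one_apply, mul_inv_eq_iff_eq_mul]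
      exact (mem_centralizer_iff.1 hx v v.2).symm
  set q := QuotientGroup.mk' C with hq
  have hqs : Function.Surjective q := QuotientGroup.mk'_surjective C
  set ρ : (X ⧸ C) →* MulAut W := QuotientGroup.lift C φ fun x hx => (hker x).2 hx with hρ
  have hρq : ∀ (x : X) (w : W), (ρ (q x) w : X) = x * w * x⁻¹ := fun x w => rfl
  haveI : Finite (W ⋊[ρ] (X ⧸ C)) := Finite.of_equiv _ SemidirectProduct.equivProd.symm
  set il : W →* W ⋊[ρ] (X ⧸ C) := SemidirectProduct.inl with hil
  set ir : (X ⧸ C) →* W ⋊[ρ] (X ⧸ C) := SemidirectProduct.inr with hir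
  have hconj : ∀ (r : X ⧸ C) (u : W), ir r * il u * (ir r)⁻¹ = il (ρ r u) := fun r u => by
    rw [hil, hir, ← map_inv, SemidirectProduct.inl_aut]
  have hMe : Cfsg.IsElementaryAbelian 2 il.range := by
    refine ⟨⟨⟨?_⟩⟩, ?_⟩
    · rintro ⟨_, u, rfl⟩ ⟨_, w, rfl⟩
      exact Subtype.ext (by
        simp only [MulMemClass.coe_mul]; rw [← map_mul, ← map_mul, mul_comm])
    · rintro _ ⟨u, rfl⟩
      rw [← map_pow, show u ^ 2 = 1 from Subtype.ext (hW.2 _ u.2), map_one]
  have hn : ir.range ≤ normalizer (il.range : Set (W ⋊[ρ] (X ⧸ C))) := by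
    rintro _ ⟨r, rfl⟩
    refine mem_normalizer_fintype ?_
    rintro _ ⟨u, rfl⟩
    exact ⟨ρ r u, (hconj r u).symm⟩
  have hfaith : ir.range ⊓ centralizer (il.range : Set (W ⋊[ρ] (X ⧸ C))) = ⊥ := by
    rw [eq_bot_iff]
    rintro _ ⟨⟨r, rfl⟩, hr⟩
    obtain ⟨x, rfl⟩ := hqs r
    have hx : x ∈ C := by
      rw [← hker]
      refine MulEquiv.ext fun u => SemidirectProduct.inl_injective (φ := ρ) ?_
      show il (ρ (q x) u) = il u
      rw [← hconj, ← mem_centralizer_iff.1 hr (il u) ⟨u, rfl⟩, mul_inv_cancel_right]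
    rw [mem_bot, show q x = 1 from (QuotientGroup.eq_one_iff x).2 hx, map_one]
  have hAe : Cfsg.IsElementaryAbelian 2 (A.map q) := by
    refine ⟨⟨⟨?_⟩⟩, ?_⟩
    · rintro ⟨_, b, hb, rfl⟩ ⟨_, c, hc, rfl⟩
      refine Subtype.ext (show q b * q c = q c * q b from ?_)
      have : q ⁅b, c⁆ = 1 :=
        (QuotientGroup.eq_one_iff _).2 (hA.1 (commutator_mem_commutator hb hc))
      rw [commutatorElement_def, map_mul, map_mul, map_mul, map_inv, map_inv, mul_inv_eq_one,
        mul_inv_eq_iff_eq_mul] at this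
      exact this
    · rintro _ ⟨b, hb, rfl⟩
      rw [← map_pow]
      exact (QuotientGroup.eq_one_iff _).2 (hA.2 b hb)
  have hO := CfsgLib.PLocalCore.pCore_quotient_eq_bot_of_fixed (p := 2) W hgen
  have h3' : ¬ CfsgLib.ZJ.Inverts 3 (X ⧸ C) := fun h => h3 (h.of_surjective (by norm_num) q hqs)
  have hc := kAll_compK (kAll_surjective hK q hqs)
  have hcard : Nat.card (A.map q) = C.relIndex A := by
    rw [← relIndex_ker A q, hq, QuotientGroup.ker_mk']
  constructor
  · rw [← hcard]
    refine (k_bound ir SemidirectProduct.inr_injective il.range hMe hn hfaith hO h3' hc _ hAe).trans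
      ?_
    have hle : ((W ⊓ centralizer (A : Set X)).subgroupOf W).map il ≤
        il.range ⊓ centralizer (((A.map q).map ir : Subgroup (W ⋊[ρ] (X ⧸ C))) :
          Set (W ⋊[ρ] (X ⧸ C))) := by
      rintro _ ⟨u, hu, rfl⟩
      refine ⟨⟨u, rfl⟩, mem_centralizer_iff.2 ?_⟩
      rintro _ ⟨_, ⟨a, ha, rfl⟩, rfl⟩
      rw [← mul_inv_eq_iff_eq_mul, hconj]
      congr 1
      refine Subtype.ext ?_
      rw [hρq, mul_inv_eq_iff_eq_mul]
      exact mem_centralizer_iff.1 (mem_subgroupOf.1 hu).2 a ha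
    refine (relIndex_le_of_le_left hle index_ne_zero_of_finite).trans (le_of_eq ?_)
    rw [MonoidHom.range_eq_map il,
      relIndex_map_map_of_injective _ _ SemidirectProduct.inl_injective, relIndex_top_right]
    rfl
  · rw [← hcard]
    refine (k_bound_commutator ir SemidirectProduct.inr_injective il.range hMe hn hfaith hO h3' hc _
      hAe).trans ?_
    have hle : ⁅il.range, (A.map q).map ir⁆ ≤ ((⁅W, A⁆).subgroupOf W).map il := by
      refine commutator_le.2 ?_
      rintro _ ⟨u, rfl⟩ _ ⟨_, ⟨a, ha, rfl⟩, rfl⟩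
      refine ⟨u * ρ (q a) u⁻¹, ?_, ?_⟩
      · show ((u * ρ (q a) u⁻¹ : W) : X) ∈ ⁅W, A⁆
        rw [Subgroup.coe_mul, hρq, Subgroup.coe_inv,
          show (u : X) * (a * (u : X)⁻¹ * a⁻¹) = ⁅(u : X), a⁆ by
            rw [commutatorElement_def]; group]
        exact commutator_mem_commutator u.2 ha
      · rw [map_mul, ← hconj, commutatorElement_def, map_inv]
        group
    refine (card_le_of_le hle).trans (le_of_eq ?_)
    rw [card_map_of_injective SemidirectProduct.inl_injective]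
    exact Nat.card_congr (subgroupOfEquivOfLe (commutator_le.2 fun w hw a _ => by
      rw [commutatorElement_def, show w * a * w⁻¹ * a⁻¹ = w * (a * w⁻¹ * a⁻¹) by group]
      exact W.mul_mem hw ((inferInstance : W.Normal).conj_mem _ (W.inv_mem hw) a))).toEquiv

/-- The index over a normal subgroup. -/
theorem idx_quot_mul_le (N P A : Subgroup X) [N.Normal] (hNP : N ≤ P) :
    idx (P.map (QuotientGroup.mk' N)) (A.map (QuotientGroup.mk' N)) * idx N A ≤ idx P A := by
  set q := QuotientGroup.mk' N with hq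
  set D := P ⊓ centralizer (A : Set X) with hD
  have h1 : idx (P.map q) (A.map q) ≤ (D ⊔ N).relIndex P := by
    have hle : D.map q ≤ P.map q ⊓ centralizer ((A.map q : Subgroup (X ⧸ N)) : Set (X ⧸ N)) := by
      rintro _ ⟨d, hd, rfl⟩
      refine ⟨mem_map_of_mem q hd.1, mem_centralizer_iff.2 ?_⟩
      rintro _ ⟨a, ha, rfl⟩
      rw [← map_mul, ← map_mul, mem_centralizer_iff.1 hd.2 a ha]
    refine (relIndex_le_of_le_left hle index_ne_zero_of_finite).trans (le_of_eq ?_)
    rw [relIndex_map_map, hq, QuotientGroup.ker_mk', sup_eq_left.2 hNP]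
  have h2 : idx N A = D.relIndex (D ⊔ N) := by
    have e1 := CfsgLib.Solvable.card_sup_mul_card_inf (A := D) (K := N) le_normalizer_of_normal
    have e2 := card_relIndex (le_sup_left : D ≤ D ⊔ N)
    have e3 : Nat.card ↥(D ⊓ N) * idx N A = Nat.card N := by
      rw [hD, inf_comm P, inf_assoc, inf_eq_right.2 hNP, inf_comm]
      exact card_relIndex inf_le_left
    rw [← e2, ← e3] at e1
    refine Nat.eq_of_mul_eq_mul_left
      (Nat.mul_pos (Nat.card_pos (α := D)) (Nat.card_pos (α := ↥(D ⊓ N)))) ?_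
    linarith
  calc idx (P.map q) (A.map q) * idx N A ≤ (D ⊔ N).relIndex P * D.relIndex (D ⊔ N) :=
        Nat.mul_le_mul h1 h2.le
    _ = idx P A := by
      rw [mul_comm, relIndex_mul_relIndex D (D ⊔ N) P le_sup_left (sup_le inf_le_left hNP)]
      rfl

/-- The bound on a normal 2-subgroup, up to the kernel of a stable action. -/
theorem chief_bound_aux (h3 : ¬ CfsgLib.ZJ.Inverts 3 X) (hK : KAll X) (A : Subgroup X)
    (hA : Cfsg.IsElementaryAbelian 2 A) (n : ℕ) :
    ∀ P : Subgroup X, P.Normal → IsPGroup 2 P → Nat.card P = n →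
      ∃ S : Subgroup X, S.Normal ∧
        (∀ k ∈ S, Odd (orderOf k) → k ∈ centralizer (P : Set X)) ∧
        S.relIndex A ^ 2 ≤ idx P A := by
  classical
  haveI : Fact (Nat.Prime 2) := ⟨Nat.prime_two⟩
  induction n using Nat.strong_induction_on with | _ n ih => ?_
  intro P hPn hP hn
  haveI := hPn
  rcases eq_or_ne P ⊥ with rfl | hne
  · refine ⟨⊤, inferInstance, fun k _ _ => ?_, ?_⟩
    · refine mem_centralizer_iff.2 fun y hy => ?_
      rw [mem_bot.1 (SetLike.mem_coe.1 hy), one_mul, mul_one]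
    · rw [relIndex_top_left, one_pow]
      exact idx_pos _ _
  obtain ⟨N, ⟨hNn, hNP⟩, hmax⟩ := Set.Finite.exists_maximalFor id
    {N : Subgroup X | N.Normal ∧ N < P} (Set.toFinite _) ⟨⊥, inferInstance, bot_lt_iff_ne_bot.2 hne⟩
  haveI := hNn
  obtain ⟨SN, hSNn, hSN, hbN⟩ :=
    ih _ (hn ▸ CfsgLib.Solvable.card_lt_of_lt hNP) N hNn (hP.to_le hNP.le) rfl
  set q := QuotientGroup.mk' N with hq
  have hqs : Function.Surjective q := QuotientGroup.mk'_surjective N
  set W := P.map q with hW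
  haveI hWn : W.Normal := hPn.map q hqs
  have hWne : W ≠ ⊥ := by
    rw [Ne, hW, Subgroup.map_eq_bot_iff, hq, QuotientGroup.ker_mk']
    exact not_le_of_gt hNP
  have hWmin : ∀ K : Subgroup (X ⧸ N), K.Normal → K ≤ W → K = ⊥ ∨ K = W := by
    intro K hKn hKW
    have hKn' : (K.comap q).Normal := hKn.comap q
    have hle : N ≤ K.comap q := fun x hx => by
      rw [mem_comap, show q x = 1 from (QuotientGroup.eq_one_iff x).2 hx]; exact one_mem _
    have hle2 : K.comap q ≤ P := by
      refine (comap_mono hKW).trans (le_of_eq ?_)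
      rw [hW, comap_map_eq, hq, QuotientGroup.ker_mk', sup_eq_left.2 hNP.le]
    rcases eq_or_lt_of_le hle2 with he | hlt
    · right
      rw [← map_comap_eq_self_of_surjective hqs K, he]
    · left
      have he := hmax ⟨hKn', hlt⟩ hle
      simp only [id] at he
      rw [← map_comap_eq_self_of_surjective hqs K, le_antisymm he hle, Subgroup.map_eq_bot_iff, hq,
        QuotientGroup.ker_mk']
  have hW2 : IsPGroup 2 W := hP.map q
  have hWe : Cfsg.IsElementaryAbelian 2 W := by
    obtain ⟨hc, p, hp, hexp, -⟩ :=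
      CfsgLib.Solvable.minimal_normal_elementary hWne hWmin (by
        haveI := hW2.isNilpotent
        exact IsNilpotent.to_isSolvable)
    refine ⟨hc, fun w hw => ?_⟩
    rcases eq_or_ne p 2 with rfl | hp2
    · exact hexp w hw
    · obtain ⟨k, hk⟩ := hW2 ⟨w, hw⟩
      have hk' : w ^ 2 ^ k = 1 := by simpa using congrArg Subtype.val hk
      rw [orderOf_eq_one_iff.1 (Nat.eq_one_of_dvd_coprimes
        (((Nat.coprime_primes hp Nat.prime_two).2 hp2).pow_right k)
        (orderOf_dvd_of_pow_eq_one (hexp w hw)) (orderOf_dvd_of_pow_eq_one hk')), one_pow]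
  -- generated by fixed points
  have hgen : W = ⨆ S : Sylow 2 (X ⧸ N), W ⊓ centralizer ((S : Subgroup (X ⧸ N)) : Set (X ⧸ N)) := by
    set W₁ := ⨆ S : Sylow 2 (X ⧸ N), W ⊓ centralizer ((S : Subgroup (X ⧸ N)) : Set (X ⧸ N)) with hW₁
    have hn₁ : W₁.Normal := by
      refine ⟨fun w hw g => ?_⟩
      have hm : W₁.map (MulAut.conj g).toMonoidHom ≤ W₁ := by
        rw [hW₁, Subgroup.map_iSup]
        refine iSup_le fun S => le_iSup_of_le (g • S) ?_
        rintro _ ⟨w, ⟨hw, hc⟩, rfl⟩
        refine ⟨hWn.conj_mem w hw g, mem_centralizer_iff.2 fun s hs => ?_⟩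
        rw [SetLike.mem_coe, Sylow.coe_subgroup_smul, mem_smul_pointwise_iff_exists] at hs
        obtain ⟨t, ht, rfl⟩ := hs
        show g * t * g⁻¹ * (g * w * g⁻¹) = g * w * g⁻¹ * (g * t * g⁻¹)
        rw [show g * t * g⁻¹ * (g * w * g⁻¹) = g * (t * w) * g⁻¹ by group,
          mem_centralizer_iff.1 hc t ht]
        group
      exact hm ⟨w, hw, rfl⟩
    refine ((hWmin W₁ hn₁ (iSup_le fun S => inf_le_left)).resolve_left ?_).symm
    obtain ⟨S, hS⟩ := hW2.exists_le_sylow
    haveI := S.2.isNilpotent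
    have hne' : W.subgroupOf (S : Subgroup (X ⧸ N)) ≠ ⊥ := by
      rw [Ne, subgroupOf_eq_bot]
      intro hd
      exact hWne (disjoint_self.1 (hd.mono_right hS))
    obtain ⟨⟨w, hwS⟩, hw, hw1⟩ := (Subgroup.bot_or_exists_ne_one _).resolve_left
      (CfsgLib.PGroupBasic.inf_center_ne_bot (W.subgroupOf (S : Subgroup (X ⧸ N))) hne')
    intro hbot
    refine hw1 (Subtype.ext ?_)
    rw [OneMemClass.coe_one, ← mem_bot, ← hbot]
    refine le_iSup (fun S : Sylow 2 (X ⧸ N) =>
      W ⊓ centralizer ((S : Subgroup (X ⧸ N)) : Set (X ⧸ N))) S ⟨mem_subgroupOf.1 hw.1,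
      mem_centralizer_iff.2 fun s hs => ?_⟩
    exact congrArg Subtype.val (mem_center_iff.1 hw.2 ⟨s, hs⟩)
  have h3' : ¬ CfsgLib.ZJ.Inverts 3 (X ⧸ N) := fun h =>
    haveI : Fact (Nat.Prime 3) := ⟨Nat.prime_three⟩
    h3 (h.of_surjective (by norm_num) q hqs)
  have hAq : Cfsg.IsElementaryAbelian 2 (A.map q) := CfsgLib.Thompson.elab_map q hA
  have hb := (k_section W hWe hgen h3' (kAll_surjective hK q hqs) (A.map q)
    (elemMod_of_elab hAq W)).1
  set C₁ := (centralizer (W : Set (X ⧸ N))).comap q with hC₁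
  haveI : C₁.Normal := (inferInstance : (centralizer (W : Set (X ⧸ N))).Normal).comap q
  haveI := hSNn
  refine ⟨C₁ ⊓ SN, inferInstance, fun k hk hodd => ?_, ?_⟩
  · refine mem_centralizer_iff.2 fun y hy => ?_
    have hkN := hSN k hk.2 hodd
    set c := k * y * k⁻¹ * y⁻¹ with hcdef
    have hcN : c ∈ N := by
      rw [← QuotientGroup.eq_one_iff (N := N)]
      show q c = 1
      rw [hcdef, map_mul, map_mul, map_mul, map_inv, map_inv,
        ← mem_centralizer_iff.1 (mem_comap.1 hk.1) (q y) (mem_map_of_mem q hy)]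
      group
    have hkc : k * c * k⁻¹ = c := by
      rw [← mem_centralizer_iff.1 hkN c hcN, mul_inv_cancel_right]
    have hstep : k * y * k⁻¹ = c * y := by rw [hcdef, inv_mul_cancel_right]
    have hpow : ∀ i : ℕ, k ^ i * y * (k ^ i)⁻¹ = c ^ i * y := by
      intro i
      induction i with
      | zero => simp
      | succ i ih' =>
        have h1 : k ^ (i + 1) * y * (k ^ (i + 1))⁻¹ = k * (k ^ i * y * (k ^ i)⁻¹) * k⁻¹ := by
          rw [pow_succ']; group
        rw [h1, ih', show k * (c ^ i * y) * k⁻¹ = (k * c * k⁻¹) ^ i * (k * y * k⁻¹) by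
          rw [conj_pow]; group, hkc, hstep, ← mul_assoc, ← pow_succ]
    have h := hpow (orderOf k)
    rw [pow_orderOf_eq_one, inv_one, mul_one, one_mul, right_eq_mul] at h
    obtain ⟨j, hj⟩ := hP ⟨c, hNP.le hcN⟩
    have hj' : c ^ 2 ^ j = 1 := by simpa using congrArg Subtype.val hj
    have hc1 : c = 1 := orderOf_eq_one_iff.1 (Nat.eq_one_of_dvd_coprimes
      ((Nat.coprime_two_left.2 hodd).pow_left j) (orderOf_dvd_of_pow_eq_one hj')
      (orderOf_dvd_of_pow_eq_one h))
    rw [hc1, one_mul, mul_inv_eq_iff_eq_mul] at hstep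
    exact hstep.symm
  · refine (Nat.pow_le_pow_left (relIndex_inf_le) 2).trans ?_
    rw [mul_pow]
    refine (Nat.mul_le_mul ?_ hbN).trans (idx_quot_mul_le N P A hNP.le)
    rwa [hC₁, relIndex_comap]

/-- The bound on a normal 2-subgroup. -/
theorem chief_bound (h3 : ¬ CfsgLib.ZJ.Inverts 3 X) (hK : KAll X) (A : Subgroup X)
    (hA : Cfsg.IsElementaryAbelian 2 A) (P : Subgroup X) [P.Normal] (hP : IsPGroup 2 P) :
    ∃ S : Subgroup X, S.Normal ∧
      (∀ k ∈ S, Odd (orderOf k) → k ∈ centralizer (P : Set X)) ∧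
      S.relIndex A ^ 2 ≤ idx P A :=
  chief_bound_aux h3 hK A hA _ P inferInstance hP rfl

end CfsgLib.SThreeFree.K
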