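import Cfsg.Agent.SThreeFree.K.Act
import Cfsg.Agent.Invol.BaerSuzuki

/-!
The bound `|A|² ≤ |W : C_W(A)|` for one normalized quasisimple group of restricted type.
-/

set_option autoImplicit false
set_option linter.unusedSectionVars false
set_option linter.style.haveILetI false

namespace CfsgLib.SThreeFree.K

open Subgroup

universe u

variable {Γ : Type u} [Group Γ] [Finite Γ]

/-- The quasisimple groups considered. -/
structure KType (K : Subgroup Γ) : Prop where
  quasi : Cfsg.IsQuasisimple K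
  oddc : Odd (Nat.card (center K))
  type : Cfsg.IsSuzukiOrPSL2OddPowerThree (K ⧸ center K)

theorem KType.perfect {K : Subgroup Γ} (h : KType K) : Group.IsPerfect K := h.quasi.1

theorem KType.not_comm {K : Subgroup Γ} (h : KType K) : ¬ IsMulCommutative (K ⧸ center K) := by
  intro hc
  haveI := h.quasi.2
  refine CfsgLib.Comp.quasisimple_not_solvable h.quasi ?_
  haveI : Group.IsSolvable (K ⧸ center K) :=
    (IsSimpleGroup.comm_iff_isSolvable (G := K ⧸ center K)).1 hc.is_comm.comm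
  haveI : Group.IsSolvable (center K) :=
    Group.isSolvable_of_comm fun a b => Subtype.ext (mem_center_iff.1 b.2 a)
  exact Group.isSolvable_of_ker_le_range (center K).subtype (QuotientGroup.mk' (center K))
    (by rw [QuotientGroup.ker_mk', range_subtype])

theorem KType.data {K : Subgroup Γ} (h : KType K) : ∃ N, Data (K ⧸ center K) N := by
  haveI := h.quasi.2
  exact data_of_type h.not_comm h.type

/-- An element of `K` centralizing a module acts centrally on `K`. -/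
theorem KType.mem_center_of_fixes {K W : Subgroup Γ} (h : KType K) (hKW : K ≤ normalizer (W : Set Γ))
    (hnt : ¬ K ≤ centralizer (W : Set Γ)) {k : Γ} (hk : k ∈ K) (hkW : k ∈ centralizer (W : Set Γ)) :
    (⟨k, hk⟩ : K) ∈ center K := by
  set N := (centralizer (W : Set Γ)).subgroupOf K with hN
  haveI : N.Normal := by
    refine ⟨fun n hn g => ?_⟩
    rw [hN, mem_subgroupOf] at hn ⊢
    refine mem_centralizer_iff.2 fun w hw => ?_
    have hg := hKW g.2
    have h1 := mem_centralizer_iff.1 hn _ ((mem_normalizer_iff''.1 hg w).1 hw)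
    rw [Subgroup.coe_mul, Subgroup.coe_mul, Subgroup.coe_inv]
    calc w * ((g : Γ) * n * (g : Γ)⁻¹) = g * (((g : Γ)⁻¹ * w * g) * n) * (g : Γ)⁻¹ := by group
      _ = g * (n * ((g : Γ)⁻¹ * w * g)) * (g : Γ)⁻¹ := by rw [h1]
      _ = _ := by group
  rcases CfsgLib.Comp.quasisimple_normal h.quasi (H := N) inferInstance with h' | h'
  · exact absurd (subgroupOf_eq_top.1 h') hnt
  · exact h' (show (⟨k, hk⟩ : K) ∈ N from mem_subgroupOf.2 hkW)

section Lift

variable {K : Subgroup Γ}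

theorem lift_invol (h : KType K) {s : K ⧸ center K} (hs : s * s = 1) :
    ∃ k : K, k * k = 1 ∧ (k : K ⧸ center K) = s := by
  obtain ⟨g, rfl⟩ := QuotientGroup.mk_surjective s
  obtain ⟨e, he⟩ := h.oddc
  refine ⟨g ^ Nat.card (center K), ?_, ?_⟩
  · rw [← pow_add, ← two_mul, pow_mul, pow_two]
    have h1 : g * g ∈ center K := (QuotientGroup.eq_one_iff _).1 hs
    exact congrArg Subtype.val (pow_card_eq_one' (G := center K) (x := ⟨g * g, h1⟩))
  · rw [QuotientGroup.mk_pow, he, pow_succ, pow_mul, pow_two, hs, one_pow, one_mul]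

/-- An element of odd prime order outside the centre of `K`. -/
theorem exists_prime_elt (h : KType K) :
    ∃ r : ℕ, r.Prime ∧ r ≠ 2 ∧ ∃ x : K, orderOf x = r ∧ x ∉ center K := by
  obtain ⟨N, hD⟩ := h.data
  obtain ⟨s, hs, hs1⟩ := hD.invol
  obtain ⟨r, hr, hr2, ⟨c, d, hcd⟩, -⟩ := hD.prime s hs hs1
  obtain ⟨k, hk, hks⟩ := lift_invol h hs
  obtain ⟨c, rfl⟩ := QuotientGroup.mk_surjective c
  obtain ⟨d, rfl⟩ := QuotientGroup.mk_surjective d
  set k1 := c * k * c⁻¹ with hk1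
  set k2 := d * k * d⁻¹ with hk2
  have hk11 : k1 * k1 = 1 := by
    rw [hk1, show c * k * c⁻¹ * (c * k * c⁻¹) = c * (k * k) * c⁻¹ by group, hk]; group
  have hk22 : k2 * k2 = 1 := by
    rw [hk2, show d * k * d⁻¹ * (d * k * d⁻¹) = d * (k * k) * d⁻¹ by group, hk]; group
  have hinv : k1 * (k1 * k2) * k1⁻¹ = (k1 * k2)⁻¹ :=
    calc k1 * (k1 * k2) * k1⁻¹ = (k1 * k1) * k2 * k1⁻¹ := by group
      _ = k2 * k1⁻¹ := by rw [hk11, one_mul]
      _ = k2⁻¹ * k1⁻¹ := by rw [inv_eq_of_mul_eq_one_right hk22]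
      _ = _ := (mul_inv_rev k1 k2).symm
  have himg : orderOf ((k1 * k2 : K) : K ⧸ center K) = r := by
    rw [QuotientGroup.mk_mul, hk1, hk2]
    simp only [QuotientGroup.mk_mul, QuotientGroup.mk_inv, hks, hcd]
  obtain ⟨n, v, hn, hnv⟩ := exists_ppart (g := (k1 * k2 : K)) hr
  set y := (k1 * k2) ^ n with hy
  have hy1 : y ≠ 1 := by
    intro e
    have e2 := congrArg (fun t : K => (t : K ⧸ center K)) e
    simp only [hy, QuotientGroup.mk_pow, QuotientGroup.mk_one] at e2
    exact hn (himg ▸ orderOf_dvd_of_pow_eq_one e2)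
  haveI : Fact r.Prime := ⟨hr⟩
  obtain ⟨w, -, hw⟩ := (Nat.dvd_prime_pow hr).1 (orderOf_dvd_of_pow_eq_one hnv)
  have hw0 : w ≠ 0 := by
    rintro rfl
    exact hy1 (orderOf_eq_one_iff.1 (by simpa using hw))
  refine ⟨r, hr, hr2, y ^ r ^ (w - 1), ?_, fun hc => ?_⟩
  · have h1 : r ^ (w - 1) * r = r ^ w := by
      rw [← pow_succ, Nat.sub_add_cancel (Nat.pos_of_ne_zero hw0)]
    rw [orderOf_pow' _ (by positivity [hr.pos]), hw, Nat.gcd_eq_right ⟨r, h1.symm⟩, ← h1,
      Nat.mul_div_cancel_left _ (by positivity [hr.pos])]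
  · set x := y ^ r ^ (w - 1)
    have hxinv : k1 * x * k1⁻¹ = x⁻¹ := by
      simp only [x, hy]
      rw [← conj_pow, ← conj_pow, hinv, inv_pow, inv_pow]
    rw [mem_center_iff.1 hc k1, mul_inv_cancel_right] at hxinv
    have h2 : x ^ 2 = 1 := by
      rw [pow_two]; nth_rewrite 2 [hxinv]; exact mul_inv_cancel x
    have hxo : orderOf x = r := by
      have h1 : r ^ (w - 1) * r = r ^ w := by
        rw [← pow_succ, Nat.sub_add_cancel (Nat.pos_of_ne_zero hw0)]
      rw [orderOf_pow' _ (by positivity [hr.pos]), hw, Nat.gcd_eq_right ⟨r, h1.symm⟩, ← h1,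
        Nat.mul_div_cancel_left _ (by positivity [hr.pos])]
    have h3 := orderOf_dvd_of_pow_eq_one h2
    rw [hxo] at h3
    exact hr2 ((Nat.prime_dvd_prime_iff_eq hr Nat.prime_two).1 h3)

end Lift

theorem eq_bot_of_normalized {S : Type*} [Group S] [Finite S] [IsSimpleGroup S]
    (hn : ¬ IsMulCommutative S) (M : Subgroup (MulAut S)) (hM : IsPGroup 2 M)
    (hle : M ≤ (MulAut.conj : S →* MulAut S).range)
    (hconj : ∀ g : S, ∀ m ∈ M, MulAut.conj g * m * (MulAut.conj g)⁻¹ ∈ M) : M = ⊥ := by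
  haveI : Fact (Nat.Prime 2) := ⟨Nat.prime_two⟩
  set R := M.comap (MulAut.conj : S →* MulAut S) with hR
  haveI hRn : R.Normal := ⟨fun n hn' g => by
    rw [hR, mem_comap, map_mul, map_mul, map_inv]
    exact hconj g _ (mem_comap.1 hn')⟩
  rcases hRn.eq_bot_or_eq_top with h | h
  · rw [eq_bot_iff]
    intro m hm
    obtain ⟨s, rfl⟩ := hle hm
    have h1 : s ∈ R := mem_comap.2 hm
    rw [h, mem_bot] at h1
    rw [h1, map_one]
    exact one_mem _
  · exfalso
    have hp : IsPGroup 2 R := hM.comap_of_injective _ (conj_injective hn)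
    rw [h] at hp
    haveI hnil : Group.IsNilpotent (⊤ : Subgroup S) := IsPGroup.isNilpotent hp
    have hs : Group.IsSolvable S := Group.isSolvable_of_surjective
      (f := (⊤ : Subgroup S).subtype) fun x => ⟨⟨x, mem_top x⟩, rfl⟩
    exact hn ⟨⟨IsSimpleGroup.comm_iff_isSolvable.2 hs⟩⟩

/-- In `Aut S`, `S` simple non-abelian, an involution inverts an inner automorphism of odd order. -/
theorem exists_inverted_inner {S : Type*} [Group S] [Finite S] [IsSimpleGroup S]
    (hn : ¬ IsMulCommutative S) (e : MulAut S) (he : e * e = 1) (he1 : e ≠ 1) :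
    ∃ s : S, s ≠ 1 ∧ Odd (orderOf s) ∧ e s = s⁻¹ := by
  haveI : Finite (MulAut S) := Finite.of_injective (fun a => (⇑a)) DFunLike.coe_injective
  haveI : Fact (Nat.Prime 2) := ⟨Nat.prime_two⟩
  have hinj := conj_injective hn
  obtain ⟨I, hI⟩ : ∃ I : Subgroup (MulAut S), I = (MulAut.conj : S →* MulAut S).range := ⟨_, rfl⟩
  haveI hIn : I.Normal := hI ▸ ⟨by
    rintro _ ⟨c, rfl⟩ α
    refine ⟨α c, MulEquiv.ext fun x => ?_⟩
    simp [MulAut.conj_apply]⟩
  obtain ⟨Y, hY⟩ : ∃ Y : Subgroup (MulAut S), Y = I ⊔ zpowers e := ⟨_, rfl⟩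
  have heY : e ∈ Y := hY ▸ mem_sup_right (mem_zpowers e)
  have hcI : ∀ g : S, MulAut.conj g ∈ I := fun g => hI ▸ ⟨g, rfl⟩
  have hcY : ∀ g : S, MulAut.conj g ∈ Y := fun g => hY ▸ mem_sup_left (hcI g)
  have hO : (⟨e, heY⟩ : Y) ∉ Cfsg.pCore 2 Y := by
    intro heO
    set Q := Cfsg.pCore 2 Y
    haveI : Q.Normal := CfsgLib.Solvable.pCore_normal 2
    set J := I.subgroupOf Y with hJ
    haveI : J.Normal := hIn.subgroupOf Y
    have hcomm : ∀ q ∈ Q, ∀ j ∈ J, q * j = j * q := by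
      have hQJ : Q ⊓ J = ⊥ := by
        have hM := eq_bot_of_normalized hn ((Q ⊓ J).map Y.subtype)
          (((CfsgLib.Solvable.isPGroup_pCore 2).to_le inf_le_left).map Y.subtype)
          (by intro x hx; obtain ⟨m, hm, rfl⟩ := mem_map.1 hx; exact hI ▸ mem_subgroupOf.1 (mem_inf.1 hm).2)
          (by
            intro g x hx
            obtain ⟨m, hm, rfl⟩ := mem_map.1 hx
            have hQJn : (Q ⊓ J).Normal := inferInstance
            refine mem_map.2 ⟨⟨MulAut.conj g, hcY g⟩ * m * (⟨MulAut.conj g, hcY g⟩ : Y)⁻¹,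
              hQJn.conj_mem m hm (⟨MulAut.conj g, hcY g⟩ : Y), ?_⟩
            simp only [Subgroup.coe_subtype, Subgroup.coe_mul, Subgroup.coe_inv])
        exact (map_eq_bot_iff_of_injective _ Y.subtype_injective).1 hM
      intro q hq j hj
      exact Subgroup.commute_of_normal_of_disjoint Q J inferInstance inferInstance
        (disjoint_iff.2 hQJ) q j hq hj
    refine he1 (MulEquiv.ext fun x => hinj ?_)
    have h1 := congrArg Subtype.val (hcomm _ heO ⟨MulAut.conj x, hcY x⟩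
      (mem_subgroupOf.2 (hcI x)))
    change e * MulAut.conj x = MulAut.conj x * e at h1
    refine MulEquiv.ext fun y => ?_
    obtain ⟨y, rfl⟩ := e.surjective y
    have h2 := DFunLike.congr_fun h1 y
    simpa [MulAut.conj_apply] using h2
  have ho : orderOf (⟨e, heY⟩ : Y) = 2 := orderOf_eq_prime (Subtype.ext (by simpa [pow_two] using he))
    fun h => he1 (congrArg Subtype.val h)
  obtain ⟨⟨t, ht⟩, ht1, htodd, htinv⟩ := CfsgLib.Invol.exists_inverted_odd _ ho hO
  rw [Subgroup.orderOf_mk] at htodd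
  have htI : t ∈ I := by
    have hq : ∀ z ∈ Y, QuotientGroup.mk' I z ∈ zpowers (QuotientGroup.mk' I e) := by
      intro z hz
      have hle : Y ≤ (zpowers (QuotientGroup.mk' I e)).comap (QuotientGroup.mk' I) :=
        hY.le.trans <| sup_le (fun i hi => by
          show QuotientGroup.mk' I i ∈ zpowers (QuotientGroup.mk' I e)
          rw [show QuotientGroup.mk' I i = 1 from (QuotientGroup.eq_one_iff i).2 hi]
          exact one_mem _) (zpowers_le.2 (mem_zpowers _))
      exact hle hz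
    refine (QuotientGroup.eq_one_iff t).1 (orderOf_eq_one_iff.1 (Nat.eq_one_of_dvd_coprimes
      (Nat.coprime_two_left.2 htodd) ?_ (orderOf_map_dvd (QuotientGroup.mk' I) t)))
    refine (orderOf_dvd_of_mem_zpowers (hq t ht)).trans (orderOf_dvd_of_pow_eq_one ?_)
    rw [← map_pow, pow_two, he, map_one]
  rw [hI] at htI
  obtain ⟨s, rfl⟩ := htI
  refine ⟨s, fun h => ht1 (Subtype.ext (by simp [h])), ?_, hinj ?_⟩
  · rwa [orderOf_injective MulAut.conj hinj] at htodd
  · have h1 := congrArg Subtype.val htinv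
    change e * MulAut.conj s * e⁻¹ = (MulAut.conj s)⁻¹ at h1
    rw [map_inv, ← h1]
    ext y
    simp [MulAut.conj_apply]

/-- The bound for a single group. -/
theorem single_bound {W A K : Subgroup Γ} (hW : Cfsg.IsElementaryAbelian 2 W)
    (hA : Cfsg.IsElementaryAbelian 2 A) (hAW : A ≤ normalizer (W : Set Γ))
    (hAK : A ≤ normalizer (K : Set Γ)) (hKW : K ≤ normalizer (W : Set Γ)) (hK : KType K)
    (hnt : ¬ K ≤ centralizer (W : Set Γ)) (hfaith : ∀ a ∈ A, (∀ k ∈ K, a * k = k * a) → a = 1)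
    (X : Subgroup Γ) (hAX : A ≤ X) (hKX : K ≤ X) (h3 : ¬ CfsgLib.ZJ.Inverts 3 X) :
    Nat.card A ^ 2 ≤ idx W A := by
  classical
  haveI : Fact (Nat.Prime 2) := ⟨Nat.prime_two⟩
  haveI hsimple := hK.quasi.2
  have hn := hK.not_comm
  haveI : Finite (MulAut (K ⧸ center K)) :=
    Finite.of_injective (fun a => (⇑a)) DFunLike.coe_injective
  -- the action on the simple quotient
  let β : A → MulAut K := fun a =>
    { toFun := fun k => ⟨(a : Γ) * k * (a : Γ)⁻¹, (mem_normalizer_iff.1 (hAK a.2) _).1 k.2⟩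
      invFun := fun k => ⟨(a : Γ)⁻¹ * k * (a : Γ), (mem_normalizer_iff''.1 (hAK a.2) _).1 k.2⟩
      left_inv := fun k => Subtype.ext (by simp [mul_assoc])
      right_inv := fun k => Subtype.ext (by simp [mul_assoc])
      map_mul' := fun k l => Subtype.ext (by simp [mul_assoc]) }
  have hβc : ∀ a, (center K).map (β a).toMonoidHom = center K := fun a =>
    Subgroup.characteristic_iff_map_eq.1 inferInstance (β a)
  let φ : A →* MulAut (K ⧸ center K) :=
    MonoidHom.mk' (fun a => QuotientGroup.congr (center K) (center K) (β a) (hβc a)) fun a b => by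
      refine MulEquiv.ext fun x => ?_
      induction x using QuotientGroup.induction_on with
      | H k =>
        show ((β (a * b) k : K) : K ⧸ center K) = ((β a (β b k) : K) : K ⧸ center K)
        congr 1
        exact Subtype.ext (by simp [β, mul_assoc])
  have hφk : ∀ (a : A) (k : K), φ a (k : K ⧸ center K) = ((β a k : K) : K ⧸ center K) :=
    fun a k => rfl
  have hφinj : Function.Injective φ := by
    rw [injective_iff_map_eq_one]
    intro a ha
    refine Subtype.ext (hfaith a a.2 (commute_of_mod_center hK.perfect fun k hk => ?_))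
    have h1 : ((β a ⟨k, hk⟩ : K) : K ⧸ center K) = ((⟨k, hk⟩ : K) : K ⧸ center K) := by
      rw [← hφk, ha]; rfl
    refine ⟨β a ⟨k, hk⟩ * (⟨k, hk⟩ : K)⁻¹, ?_, by simp [β]⟩
    rw [← QuotientGroup.eq_one_iff, QuotientGroup.mk_mul, QuotientGroup.mk_inv, h1, mul_inv_cancel]
  set E := φ.range with hE
  have hEel : Cfsg.IsElementaryAbelian 2 E := by
    refine ⟨⟨⟨?_⟩⟩, ?_⟩
    · rintro ⟨_, a, rfl⟩ ⟨_, b, rfl⟩
      refine Subtype.ext ?_
      show φ a * φ b = φ b * φ a
      have hab : a * b = b * a := Subtype.ext (CfsgLib.Thompson.elab_commute hA a.2 b.2)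
      rw [← map_mul, ← map_mul, hab]
    · rintro _ ⟨a, rfl⟩
      rw [← map_pow, show a ^ 2 = 1 from Subtype.ext (hA.2 _ a.2), map_one]
  have hEc : Nat.card E = Nat.card A := Nat.card_congr (MonoidHom.ofInjective hφinj).symm.toEquiv
  have hpow : ∀ a : Γ, ∃ i, (W ⊓ centralizer ({a} : Set Γ)).relIndex W = 2 ^ i := fun a =>
    relIndex_eq_pow (CfsgLib.Thompson.elab_isPGroup hW) _
  -- the element moving many cosets
  have main : ∀ (a : A) (g h : Γ) (y : K) (p v : ℕ), g ∈ normalizer (W : Set Γ) →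
      h ∈ normalizer (W : Set Γ) → (y : Γ) ∈ zpowers ((g * a * g⁻¹) * (h * a * h⁻¹)) →
      p.Prime → p ≠ 2 → y ^ p ^ v = 1 → y ∉ center K → ∀ M : ℕ,
      (∀ d i : ℕ, 1 ≤ d → p ∣ 2 ^ d - 1 → d ≤ 2 * i → M ≤ 2 ^ i) → M ≤ idx W A := by
    intro a g h y p v hg hh hy hp hp2 hpv hyc M hM
    obtain ⟨d, hd1, hdp, hd⟩ := exists_pow_relIndex hW (hKW y.2) hp hp2
      (by rw [← Subgroup.coe_pow, hpv, Subgroup.coe_one])
      (fun hc => hyc (hK.mem_center_of_fixes hKW hnt y.2 hc))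
    obtain ⟨i, hi⟩ := hpow (a : Γ)
    have hle := le_sq_of_two_conj hg hh hy
    rw [hd, hi, ← pow_add] at hle
    have := (Nat.pow_le_pow_iff_right (le_refl 2)).1 hle
    exact (hM d i hd1 hdp (by omega)).trans (hi ▸ relIndex_le_idx a.2)
  rcases Nat.lt_or_ge (Nat.card A) 2 with h1 | h2
  · have hpos : 0 < Nat.card A := Nat.card_pos
    rw [show Nat.card A = 1 by omega, one_pow]
    exact idx_pos W A
  rcases Nat.eq_or_lt_of_le h2 with h2 | h2
  · -- one involution
    obtain ⟨⟨a0, ha0⟩, ha01⟩ := ne_bot_iff_exists_ne_one.1 (show A ≠ ⊥ by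
      rintro rfl; rw [card_bot] at h2; omega)
    set a : A := ⟨a0, ha0⟩
    have haa : a * a = 1 := by rw [← pow_two]; exact Subtype.ext (hA.2 _ ha0)
    obtain ⟨s, hs1, hsodd, hsinv⟩ := exists_inverted_inner hn (φ a)
      (by rw [← map_mul, haa, map_one]) fun h => ha01 (hφinj (h.trans (map_one φ).symm))
    obtain ⟨j, hj⟩ := hsodd
    obtain ⟨g, hg⟩ := QuotientGroup.mk_surjective (s ^ j)
    set z : K := β a g * g⁻¹ with hz
    have hzs : (z : K ⧸ center K) = s := by
      rw [hz, QuotientGroup.mk_mul, QuotientGroup.mk_inv, ← hφk, hg, map_pow, hsinv, inv_pow,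
        ← mul_inv_rev, ← pow_add, inv_eq_iff_mul_eq_one, ← pow_succ, ← two_mul, ← hj,
        pow_orderOf_eq_one]
    have hainv : (a : Γ) * z * (a : Γ)⁻¹ = (z : Γ)⁻¹ := by
      have e : (a : Γ)⁻¹ = a := by
        rw [inv_eq_iff_mul_eq_one, ← pow_two]; exact hA.2 _ a.2
      simp only [hz, β, Subgroup.coe_mul, Subgroup.coe_inv, MulEquiv.coe_mk, Equiv.coe_fn_mk,
        mul_inv_rev, inv_inv, e]
      calc (a : Γ) * ((a : Γ) * g * a * (g : Γ)⁻¹) * a
          = ((a : Γ) * a) * g * (a * (g : Γ)⁻¹ * a) := by group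
        _ = g * (a * (g : Γ)⁻¹ * a) := by rw [← pow_two, hA.2 _ a.2, one_mul]
        _ = (g : Γ) * ((a : Γ) * ((g : Γ)⁻¹ * a)) := by group
    obtain ⟨p, hp, hps⟩ := Nat.exists_prime_and_dvd (show orderOf s ≠ 1 by
      rwa [Ne, orderOf_eq_one_iff])
    have hp2 : p ≠ 2 := by rintro rfl; omega
    obtain ⟨n, v, hn', hnv⟩ := exists_ppart (g := z) hp
    set y := z ^ n with hy
    have hyc : y ∉ center K := by
      intro hc
      have e := (QuotientGroup.eq_one_iff y).2 hc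
      rw [hy, QuotientGroup.mk_pow, hzs] at e
      exact hn' (hps.trans (orderOf_dvd_of_pow_eq_one e))
    have hyinv : (a : Γ) * y * (a : Γ)⁻¹ = (y : Γ)⁻¹ := by
      rw [hy, SubgroupClass.coe_pow, ← conj_pow, hainv, inv_pow]
    have hp3 : p ≠ 3 := by
      rintro rfl
      refine h3 (CfsgLib.ZJ.inverts_subgroup_iff.2 ⟨a, hAX a.2, y, hKX y.2, fun e => hyc ?_,
        ⟨v, by rw [← Subgroup.coe_pow, hnv, Subgroup.coe_one]⟩, hyinv⟩)
      rw [show y = 1 from Subtype.ext e]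
      exact one_mem _
    obtain ⟨k, hk⟩ : ∃ k, orderOf y = 2 * k + 1 := by
      obtain ⟨i, -, hi⟩ := (Nat.dvd_prime_pow hp).1 (orderOf_dvd_of_pow_eq_one hnv)
      exact (hi ▸ (hp.odd_of_ne_two hp2).pow)
    set w : Γ := (y : Γ) ^ (k + 1) with hw
    have hww : w * w = y := by
      rw [hw, ← pow_add, show k + 1 + (k + 1) = 2 * k + 1 + 1 by ring, pow_succ, ← hk,
        ← Subgroup.orderOf_coe, pow_orderOf_eq_one, one_mul]
    refine (main a 1 w⁻¹ y p v (one_mem _) (inv_mem (pow_mem (hKW y.2) _))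
      (mem_zpowers_iff.2 ⟨1, ?_⟩) hp hp2 hnv hyc (Nat.card A ^ 2) fun d i hd hdp hdi => ?_)
    · have hwinv : (a : Γ) * w * (a : Γ)⁻¹ = w⁻¹ := by rw [hw, ← conj_pow, hyinv, inv_pow]
      rw [zpow_one, one_mul, inv_one, mul_one, inv_inv]
      calc (a : Γ) * (w⁻¹ * a * w) = ((a : Γ) * w * (a : Γ)⁻¹)⁻¹ * ((a : Γ) * a) * w := by group
        _ = y := by rw [hwinv, inv_inv, ← pow_two, hA.2 _ a.2, mul_one, hww]
    · rw [← h2]
      have hd3 : 3 ≤ d := by
        by_contra hlt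
        interval_cases d
        · norm_num at hdp; exact hp.ne_one hdp
        · exact hp3 ((Nat.prime_dvd_prime_iff_eq hp Nat.prime_three).1 hdp)
      calc 2 ^ 2 ≤ 2 ^ i := Nat.pow_le_pow_right (by norm_num) (by omega)
        _ = _ := rfl
  · -- an inner involution
    obtain ⟨N, hD⟩ := hK.data
    obtain ⟨s, hs, hs1, a, ha⟩ := hD.inner E hEel (hEc.symm ▸ h2)
    obtain ⟨k, hk, hks⟩ := lift_invol hK hs
    set c : Γ := (a : Γ) * k with hc
    have hcK : ∀ m ∈ K, c * m = m * c := by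
      refine commute_of_mod_center hK.perfect fun m hm => ⟨β a (k * ⟨m, hm⟩ * k⁻¹) * (⟨m, hm⟩ : K)⁻¹,
        ?_, by simp [β, hc, mul_assoc]⟩
      rw [← QuotientGroup.eq_one_iff, QuotientGroup.mk_mul, QuotientGroup.mk_inv, ← hφk, ha,
        QuotientGroup.mk_mul, QuotientGroup.mk_mul, QuotientGroup.mk_inv, MulAut.conj_apply, hks]
      have hsi : s⁻¹ = s := inv_eq_of_mul_eq_one_right hs
      rw [hsi, show s * (s * (((⟨m, hm⟩ : K)) : K ⧸ center K) * s) * s =
        (s * s) * (((⟨m, hm⟩ : K)) : K ⧸ center K) * (s * s) by group, hs, one_mul, mul_one,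
        mul_inv_cancel]
    have hkk : (k : Γ) * k = 1 := by rw [← Subgroup.coe_mul, hk, Subgroup.coe_one]
    have hak : (a : Γ) = c * k := by rw [hc, mul_assoc, hkk, mul_one]
    have hcc : c * c = 1 := by
      have h1 : (a : Γ) * a = 1 := by rw [← pow_two]; exact hA.2 _ a.2
      rw [hak, show c * (k : Γ) * (c * k) = c * ((k : Γ) * c) * k by group, ← hcK k k.2,
        show c * (c * (k : Γ)) * k = c * c * ((k : Γ) * k) by group, hkk, mul_one] at h1
      exact h1
    obtain ⟨r, hr, hr2, ⟨c1, d1, hcd⟩, hrj⟩ := hD.prime s hs hs1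
    obtain ⟨c1, rfl⟩ := QuotientGroup.mk_surjective c1
    obtain ⟨d1, rfl⟩ := QuotientGroup.mk_surjective d1
    set p0 := (c1 * k * c1⁻¹) * (d1 * k * d1⁻¹) with hp0
    have himg : orderOf (p0 : K ⧸ center K) = r := by
      rw [hp0]
      simp only [QuotientGroup.mk_mul, QuotientGroup.mk_inv, hks, hcd]
    obtain ⟨n, v, hn', hnv⟩ := exists_ppart (g := p0) hr
    refine (main a c1 d1 (p0 ^ n) r v (hKW c1.2) (hKW d1.2) ?_ hr hr2 hnv ?_ (Nat.card A ^ 2)
      fun d i hd hdp hdi => ?_)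
    · have e : (c1 : Γ) * a * (c1 : Γ)⁻¹ * ((d1 : Γ) * a * (d1 : Γ)⁻¹) = (p0 : Γ) := by
        rw [hak, show (c1 : Γ) * (c * k) * (c1 : Γ)⁻¹ = ((c1 : Γ) * c) * (k * (c1 : Γ)⁻¹) by group,
          ← hcK c1 c1.2, show (d1 : Γ) * (c * k) * (d1 : Γ)⁻¹ = ((d1 : Γ) * c) * (k * (d1 : Γ)⁻¹) by
            group, ← hcK d1 d1.2, hp0]
        simp only [Subgroup.coe_mul, Subgroup.coe_inv]
        have hq : c * ((c1 : Γ) * k * (c1 : Γ)⁻¹) = ((c1 : Γ) * k * (c1 : Γ)⁻¹) * c :=
          hcK _ (K.mul_mem (K.mul_mem c1.2 k.2) (K.inv_mem c1.2))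
        calc c * (c1 : Γ) * (k * (c1 : Γ)⁻¹) * (c * d1 * (k * (d1 : Γ)⁻¹))
            = (c * ((c1 : Γ) * k * (c1 : Γ)⁻¹)) * c * ((d1 : Γ) * k * (d1 : Γ)⁻¹) := by group
          _ = ((c1 : Γ) * k * (c1 : Γ)⁻¹) * (c * c) * ((d1 : Γ) * k * (d1 : Γ)⁻¹) := by
            rw [hq]; group
          _ = _ := by rw [hcc, mul_one]
      rw [e, SubgroupClass.coe_pow]
      exact pow_mem (mem_zpowers _) n
    · intro hmem
      have e := (QuotientGroup.eq_one_iff _).2 hmem
      rw [QuotientGroup.mk_pow] at e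
      exact hn' (himg ▸ orderOf_dvd_of_pow_eq_one e)
    · exact (Nat.pow_le_pow_left (hEc ▸ hD.small E hEel) 2).trans (hrj d i hd hdp hdi)

end CfsgLib.SThreeFree.K
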