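import Cfsg.Agent.SThreeFree.K.Generic
import Cfsg.Agent.SThreeFree.K.AllSub
import Cfsg.Agent.SThreeFree.K.Single
import Cfsg.Agent.Char.Garrison
import Cfsg.Agent.CharP.ResidualBasics
import Cfsg.Agent.Solvable.CoprimeAct

/-!
An elementary abelian 2-subgroup of a K-group without normal 2-subgroups has an element `y` such
that no `[a, y]`, `a ≠ 1`, is a 2-element.
-/

set_option autoImplicit false
set_option linter.unusedSectionVars false
set_option linter.style.haveILetI false

namespace CfsgLib.SThreeFree.K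

open Subgroup

universe u

variable {K : Type u} [Group K] [Finite K]

theorem fitting_odd (hO : Cfsg.pCore 2 K = ⊥) : Odd (Nat.card (Cfsg.fittingSubgroup K)) := by
  haveI : Fact (Nat.Prime 2) := ⟨Nat.prime_two⟩
  haveI : Group.IsNilpotent (Cfsg.fittingSubgroup K) := CfsgLib.Comp.fitting_isNilpotent
  exact Nat.coprime_two_right.1
    (CfsgLib.ResidualBasics.coprime_card_of_nilpotent hO (Cfsg.fittingSubgroup K))

/-- An element of a nilpotent group of odd order with the least possible stabiliser. -/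
theorem exists_regular_nilpotent (F : Subgroup K) [F.Normal] [Group.IsNilpotent F]
    (hF : Odd (Nat.card F)) (A : Subgroup K) (hA : Cfsg.IsElementaryAbelian 2 A) :
    ∃ v ∈ F, ∀ a ∈ A, a * v = v * a → a ∈ centralizer (F : Set K) := by
  classical
  set Φ := frattini F with hΦ
  haveI : IsMulCommutative (F ⧸ Φ) := Subgroup.Normal.quotient_commutative_iff_commutator_le.2
    (CfsgLib.ResidualBasics.commutator_le_frattini_of_nilpotent F)
  letI : CommGroup (F ⧸ Φ) :=
    { (inferInstance : Group (F ⧸ Φ)) with mul_comm := mul_comm' }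
  let cj : A → F →* F := fun a => (MulAut.conjNormal (H := F) (a : K)).toMonoidHom
  have hcj : ∀ (a : A) (f : F), ((cj a f : F) : K) = a * f * (a : K)⁻¹ := fun a f => by simp [cj]
  have hle : ∀ a : A, Φ ≤ Φ.comap (cj a) := fun a => by
    rw [← map_le_iff_le_comap]
    exact (Subgroup.characteristic_iff_map_le.1 inferInstance)
      (MulAut.conjNormal (H := F) (a : K))
  let act : A → (F ⧸ Φ) →* (F ⧸ Φ) := fun a => QuotientGroup.map Φ Φ (cj a) (hle a)
  have hact : ∀ (a : A) (f : F), act a (f : F ⧸ Φ) = ((cj a f : F) : F ⧸ Φ) := fun a f => rfl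
  have hr : Nat.Coprime 2 (Nat.card (F ⧸ Φ)) :=
    Nat.coprime_two_left.2 (hF.of_dvd_nat (card_quotient_dvd_card Φ))
  obtain ⟨v, -, hv⟩ := CfsgLib.Char.Garrison.exists_regular act
    (fun a b w => by
      induction w using QuotientGroup.induction_on with
      | H f =>
        rw [hact, hact, hact]
        congr 1
        exact Subtype.ext (by simp only [hcj, Subgroup.coe_mul]; group))
    (fun w => by
      induction w using QuotientGroup.induction_on with
      | H f =>
        rw [hact]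
        congr 1
        exact Subtype.ext (by simp [hcj]))
    (fun a b w => by
      rw [show a * b = b * a from Subtype.ext (CfsgLib.Thompson.elab_commute hA a.2 b.2)])
    hr (fun a => ⟨1, fun w => by
      rw [pow_one, show a ^ 2 = 1 from Subtype.ext (hA.2 _ a.2)]
      induction w using QuotientGroup.induction_on with
      | H f =>
        rw [hact]
        congr 1
        exact Subtype.ext (by simp [hcj])⟩)
  obtain ⟨v, rfl⟩ := QuotientGroup.mk_surjective v
  refine ⟨v, v.2, fun a ha hav => ?_⟩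
  have htriv := hv ⟨a, ha⟩ (by
    rw [hact]
    congr 1
    refine Subtype.ext ?_
    rw [hcj]
    exact mul_inv_eq_iff_eq_mul.2 hav)
  have haa : a * a = 1 := by rw [← pow_two]; exact hA.2 a ha
  refine (CfsgLib.CoprimeAct.trivial_on_frattini_quotient (A := zpowers a) (K := F)
    (fun x _ => ?_) ?_ fun x hx k hk => ?_) (mem_zpowers a)
  · rw [normalizer_eq_top (H := F)]; exact mem_top x
  · rw [Nat.card_zpowers]
    exact Nat.Coprime.coprime_dvd_left (orderOf_dvd_of_pow_eq_one (hA.2 a ha))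
      (Nat.coprime_two_left.2 (hF.of_dvd_nat (Φ.card_subgroup_dvd_card)))
  · have hxA : x ∈ A := zpowers_le.2 ha hx
    have h1 : act ⟨x, hxA⟩ ((⟨k, hk⟩ : F) : F ⧸ Φ) = ((⟨k, hk⟩ : F) : F ⧸ Φ) := by
      obtain ⟨i, rfl⟩ := mem_zpowers_iff.1 hx
      rcases Int.even_or_odd' i with ⟨j, rfl | rfl⟩
      · rw [hact]
        congr 1
        refine Subtype.ext ?_
        rw [hcj]
        simp [zpow_mul, show a ^ (2 : ℤ) = 1 by exact_mod_cast hA.2 a ha]
      · refine Eq.trans ?_ (htriv _ (pow_card_eq_one' (x := ((⟨k, hk⟩ : F) : F ⧸ Φ))))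
        congr 2
        refine Subtype.ext ?_
        simp [zpow_add, zpow_mul, show a ^ (2 : ℤ) = 1 by exact_mod_cast hA.2 a ha]
    rw [hact] at h1
    refine ⟨cj ⟨x, hxA⟩ ⟨k, hk⟩ * (⟨k, hk⟩ : F)⁻¹, ?_, by simp [hcj]⟩
    refine SetLike.mem_coe.2 ((QuotientGroup.eq_one_iff (N := Φ) _).1 ?_)
    rw [QuotientGroup.mk_mul, QuotientGroup.mk_inv, h1, mul_inv_cancel]

/-- The automorphisms of the central quotient given by a group normalising it. -/
theorem exists_quotAct {L A : Subgroup K} (hAL : A ≤ normalizer (L : Set K)) :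
    ∃ φ : A →* MulAut (L ⧸ center L), ∀ (a : A) (x y : L), (y : K) = a * x * (a : K)⁻¹ →
      φ a (x : L ⧸ center L) = (y : L ⧸ center L) := by
  let β : A → MulAut L := fun a =>
    { toFun := fun k => ⟨(a : K) * k * (a : K)⁻¹, (mem_normalizer_iff.1 (hAL a.2) _).1 k.2⟩
      invFun := fun k => ⟨(a : K)⁻¹ * k * (a : K), (mem_normalizer_iff''.1 (hAL a.2) _).1 k.2⟩
      left_inv := fun k => Subtype.ext (by simp [mul_assoc])
      right_inv := fun k => Subtype.ext (by simp [mul_assoc])
      map_mul' := fun k l => Subtype.ext (by simp [mul_assoc]) }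
  have hβc : ∀ a, (center L).map (β a).toMonoidHom = center L := fun a =>
    Subgroup.characteristic_iff_map_eq.1 inferInstance (β a)
  refine ⟨MonoidHom.mk' (fun a => QuotientGroup.congr (center L) (center L) (β a) (hβc a))
    fun a b => ?_, fun a x y h => ?_⟩
  · refine MulEquiv.ext fun x => ?_
    induction x using QuotientGroup.induction_on with
    | H k =>
      show ((β (a * b) k : L) : L ⧸ center L) = ((β a (β b k) : L) : L ⧸ center L)
      congr 1
      exact Subtype.ext (by simp [β, mul_assoc])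
  · show ((β a x : L) : L ⧸ center L) = (y : L ⧸ center L)
    congr 1
    exact Subtype.ext h.symm

/-- An element generic for the action of `A` on the component `L`. -/
theorem exists_component_generic (hK : KAll K) {L : Subgroup K} (hL : Cfsg.IsComponent L)
    (A : Subgroup K) (hA : Cfsg.IsElementaryAbelian 2 A) :
    ∃ z ∈ L, (∀ k : ℕ, z ^ 2 ^ k ∉ (center L).map L.subtype) ∧
      ∀ a ∈ A, a ∈ normalizer (L : Set K) → (∃ x ∈ L, a * x ≠ x * a) →
        ∀ k : ℕ, (a * z * a⁻¹ * z⁻¹) ^ 2 ^ k ∉ (center L).map L.subtype := by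
  classical
  haveI hsimp := hL.2.2
  have hn : ¬ IsMulCommutative (L ⧸ center L) := fun hc => by
    refine CfsgLib.Comp.quasisimple_not_solvable hL.2 ?_
    haveI : Group.IsSolvable (L ⧸ center L) :=
      (IsSimpleGroup.comm_iff_isSolvable (G := L ⧸ center L)).1 hc.is_comm.comm
    haveI : Group.IsSolvable (center L) :=
      Group.isSolvable_of_comm fun a b => Subtype.ext (mem_center_iff.1 b.2 a)
    exact Group.isSolvable_of_ker_le_range (center L).subtype (QuotientGroup.mk' (center L))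
      (by rw [QuotientGroup.ker_mk', range_subtype])
  have hgen := generic_of_type hn (hK L (center L) inferInstance hn)
  set B := A ⊓ normalizer (L : Set K)
  obtain ⟨φ, hφ⟩ := exists_quotAct (inf_le_right : B ≤ normalizer (L : Set K))
  have hE : Cfsg.IsElementaryAbelian 2 φ.range := by
    refine ⟨⟨⟨?_⟩⟩, ?_⟩
    · rintro ⟨_, a, rfl⟩ ⟨_, b, rfl⟩
      refine Subtype.ext (show φ a * φ b = φ b * φ a from ?_)
      rw [← map_mul, ← map_mul,
        show a * b = b * a from Subtype.ext (CfsgLib.Thompson.elab_commute hA a.2.1 b.2.1)]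
    · rintro _ ⟨a, rfl⟩
      rw [← map_pow, show a ^ 2 = 1 from Subtype.ext (hA.2 _ a.2.1), map_one]
  obtain ⟨s, hs, hsgen⟩ := hgen φ.range hE
  obtain ⟨z, rfl⟩ := QuotientGroup.mk_surjective s
  have hmem : ∀ x : L, (x : K) ∈ (center L).map L.subtype → (x : L ⧸ center L) = 1 := by
    rintro x ⟨c, hc, he⟩
    rw [QuotientGroup.eq_one_iff, ← show c = x from Subtype.ext he]
    exact hc
  refine ⟨z, z.2, fun k hk => hs k ?_, fun a ha hn' hne k hk => ?_⟩
  · rw [← QuotientGroup.mk_pow]
    exact hmem _ (by rw [SubgroupClass.coe_pow]; exact hk)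
  · set a' : B := ⟨a, ha, hn'⟩
    refine hsgen (φ a') ⟨a', rfl⟩ (fun h1 => ?_) k ?_
    · obtain ⟨x, hx, hxne⟩ := hne
      refine hxne (commute_of_mod_center hL.2.1 (fun m hm => ?_) x hx)
      have h2 := hφ a' ⟨m, hm⟩ ⟨a * m * a⁻¹, (mem_normalizer_iff.1 hn' _).1 hm⟩ rfl
      rw [h1, MulAut.one_apply] at h2
      refine ⟨⟨a * m * a⁻¹, (mem_normalizer_iff.1 hn' _).1 hm⟩ * (⟨m, hm⟩ : L)⁻¹, ?_, by simp⟩
      rw [← QuotientGroup.eq_one_iff, QuotientGroup.mk_mul, QuotientGroup.mk_inv, ← h2,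
        mul_inv_cancel]
    · set w : L := ⟨a * z * a⁻¹, (mem_normalizer_iff.1 hn' _).1 z.2⟩
      rw [hφ a' z w rfl, ← QuotientGroup.mk_inv, ← QuotientGroup.mk_mul, ← QuotientGroup.mk_pow]
      exact hmem _ (by simpa [w] using hk)

/-- Prescribed inner actions on finitely many components. -/
theorem exists_layer_elt (y : Subgroup K → K) (hy : ∀ L, Cfsg.IsComponent L → y L ∈ L)
    (s : Finset (Subgroup K)) :
    ∃ e ∈ Cfsg.layer K, ∀ L, Cfsg.IsComponent L → ∀ x ∈ L,
      (L ∈ s → e * x * e⁻¹ = y L * x * (y L)⁻¹) ∧ (L ∉ s → e * x * e⁻¹ = x) := by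
  classical
  induction s using Finset.induction with
  | empty => exact ⟨1, one_mem _, fun L _ x _ => ⟨fun h => by simp at h, fun _ => by simp⟩⟩
  | insert L₀ s hL₀ ih =>
    obtain ⟨e, he, hspec⟩ := ih
    by_cases hc : Cfsg.IsComponent L₀
    · refine ⟨y L₀ * e, mul_mem (CfsgLib.Comp.component_le_layer hc (hy L₀ hc)) he,
        fun L hL x hx => ?_⟩
      have hcomm : L ≠ L₀ → ∀ w ∈ L, y L₀ * w = w * y L₀ := fun hne w hw => by
        rcases CfsgLib.Comp.component_eq_or_commute hL hc with h | h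
        · exact absurd h hne
        · exact (mem_centralizer_iff.1
            (CfsgLib.Comp.le_centralizer_of_commutator_eq_bot h hw) _ (hy L₀ hc))
      have hexp : y L₀ * e * x * (y L₀ * e)⁻¹ = y L₀ * (e * x * e⁻¹) * (y L₀)⁻¹ := by group
      constructor
      · intro hmem
        rw [hexp]
        rcases Finset.mem_insert.1 hmem with rfl | hmem
        · rw [(hspec L hL x hx).2 hL₀]
        · have hne : L ≠ L₀ := fun h => hL₀ (h ▸ hmem)
          rw [(hspec L hL x hx).1 hmem, mul_inv_eq_iff_eq_mul]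
          exact hcomm hne _ (L.mul_mem (L.mul_mem (hy L hL) hx) (L.inv_mem (hy L hL)))
      · intro hnmem
        rw [Finset.mem_insert, not_or] at hnmem
        rw [hexp, (hspec L hL x hx).2 hnmem.2, mul_inv_eq_iff_eq_mul]
        exact hcomm hnmem.1 x hx
    · refine ⟨e, he, fun L hL x hx => ?_⟩
      have hne : L ≠ L₀ := fun h => hc (h ▸ hL)
      simp only [Finset.mem_insert, hne, false_or]
      exact hspec L hL x hx

theorem conj_iterate {L : Subgroup K} {g u : K} (hu : u ∈ L)
    (h : ∀ x ∈ L, g * x * g⁻¹ = u * x * u⁻¹) (n : ℕ) :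
    ∀ x ∈ L, g ^ n * x * (g ^ n)⁻¹ = u ^ n * x * (u ^ n)⁻¹ := by
  induction n with
  | zero => simp
  | succ n ih =>
    intro x hx
    have hm : u ^ n * x * (u ^ n)⁻¹ ∈ L :=
      L.mul_mem (L.mul_mem (pow_mem hu _) hx) (L.inv_mem (pow_mem hu _))
    calc g ^ (n + 1) * x * (g ^ (n + 1))⁻¹ = g * (g ^ n * x * (g ^ n)⁻¹) * g⁻¹ := by
          rw [pow_succ']; group
      _ = u * (u ^ n * x * (u ^ n)⁻¹) * u⁻¹ := by rw [ih x hx, h _ hm]
      _ = _ := by rw [pow_succ' u]; group

/-- An element `y` with no `[a, y]` a 2-element. -/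
theorem exists_good_conj (hO : Cfsg.pCore 2 K = ⊥) (hK : KAll K) (A : Subgroup K)
    (hA : Cfsg.IsElementaryAbelian 2 A) :
    ∃ y : K, ∀ a ∈ A, a ≠ 1 → ∀ k : ℕ, (a * y * a⁻¹ * y⁻¹) ^ 2 ^ k ≠ 1 := by
  classical
  haveI : Fact (Nat.Prime 2) := ⟨Nat.prime_two⟩
  set F := Cfsg.fittingSubgroup K with hFdef
  set E := Cfsg.layer K with hEdef
  haveI hFnil : Group.IsNilpotent F := CfsgLib.Comp.fitting_isNilpotent
  have hFodd := fitting_odd hO
  set q := QuotientGroup.mk' E with hq
  have hqs : Function.Surjective q := QuotientGroup.mk'_surjective E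
  set F₁ := F.map q with hF₁
  haveI : F₁.Normal := (inferInstance : F.Normal).map q hqs
  haveI : Group.IsNilpotent F₁ :=
    Group.nilpotent_of_surjective (q.subgroupMap F) (q.subgroupMap_surjective F)
  have hF₁odd : Odd (Nat.card F₁) := hFodd.of_dvd_nat (card_map_dvd F q)
  obtain ⟨v, ⟨yF, hyF, rfl⟩, hv⟩ :=
    exists_regular_nilpotent F₁ hF₁odd (A.map q) (CfsgLib.Thompson.elab_map q hA)
  -- orbit representatives
  let orb : Subgroup K → Set (Subgroup K) := fun L =>
    {M | ∃ a ∈ A, M = L.map (MulAut.conj a).toMonoidHom}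
  let pick : Set (Subgroup K) → Subgroup K := fun O => if h : O.Nonempty then h.some else ⊥
  have horb_self : ∀ L : Subgroup K, L ∈ orb L := fun L => ⟨1, one_mem _, by ext x; simp⟩
  have hmap2 : ∀ (L : Subgroup K) (a b : K),
      (L.map (MulAut.conj b).toMonoidHom).map (MulAut.conj a).toMonoidHom =
        L.map (MulAut.conj (a * b)).toMonoidHom := by
    intro L a b
    rw [map_map]
    congr 1
    ext x
    simp
  have horb : ∀ L M : Subgroup K, M ∈ orb L → orb M = orb L := by
    rintro L _ ⟨b, hb, rfl⟩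
    ext N
    constructor
    · rintro ⟨a, ha, rfl⟩
      exact ⟨a * b, A.mul_mem ha hb, hmap2 L a b⟩
    · rintro ⟨a, ha, rfl⟩
      exact ⟨a * b⁻¹, A.mul_mem ha (A.inv_mem hb), by rw [hmap2, inv_mul_cancel_right]⟩
  have hpick : ∀ L : Subgroup K, pick (orb L) ∈ orb L := fun L => by
    have hne : (orb L).Nonempty := ⟨L, horb_self L⟩
    simp only [pick, dif_pos hne]
    exact hne.some_mem
  let Rep : Subgroup K → Prop := fun L => pick (orb L) = L
  -- the component parts
  have hex : ∀ L : Subgroup K, ∃ z : K, Cfsg.IsComponent L →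
      z ∈ L ∧ (∀ k : ℕ, z ^ 2 ^ k ∉ (center L).map L.subtype) ∧
      ∀ a ∈ A, a ∈ normalizer (L : Set K) → (∃ x ∈ L, a * x ≠ x * a) →
        ∀ k : ℕ, (a * z * a⁻¹ * z⁻¹) ^ 2 ^ k ∉ (center L).map L.subtype := fun L => by
    by_cases hL : Cfsg.IsComponent L
    · obtain ⟨z, h1, h2⟩ := exists_component_generic hK hL A hA
      exact ⟨z, fun _ => ⟨h1, h2⟩⟩
    · exact ⟨1, fun h => absurd h hL⟩
  choose yL hyL using hex
  haveI : Finite (Subgroup K) := Finite.of_injective _ SetLike.coe_injective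
  haveI := Fintype.ofFinite (Subgroup K)
  obtain ⟨e, heE, hspec⟩ := exists_layer_elt yL (fun L hL => (hyL L hL).1)
    (Finset.univ.filter Rep)
  refine ⟨yF * e, fun a ha ha1 k hk => ?_⟩
  have haa : a⁻¹ = a := by rw [inv_eq_iff_mul_eq_one, ← pow_two]; exact hA.2 a ha
  set c := a * yF * a⁻¹ * yF⁻¹ with hc
  set m := a * e * a⁻¹ * e⁻¹ with hm
  have hEn : E.Normal := inferInstance
  have hmE : m ∈ E := E.mul_mem (hEn.conj_mem e heE a) (E.inv_mem heE)
  have hFE : ∀ f ∈ F, ∀ x ∈ E, f * x = x * f := fun f hf x hx =>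
    mem_centralizer_iff.1 (CfsgLib.Comp.layer_le_centralizer_fitting hx) f hf
  have hcF : c ∈ F := F.mul_mem ((inferInstance : F.Normal).conj_mem yF hyF a) (F.inv_mem hyF)
  have hcm : a * (yF * e) * a⁻¹ * (yF * e)⁻¹ = c * m := by
    rw [show a * (yF * e) * a⁻¹ * (yF * e)⁻¹ = (a * yF * a⁻¹) * (m * yF⁻¹) by rw [hm]; group,
      ← hFE _ (F.inv_mem hyF) m hmE, hc]
    group
  rw [hcm] at hk
  by_cases hfix : q a * q yF = q yF * q a
  · -- `a` moves or acts on a component
    have hcent : q a ∈ centralizer (F₁ : Set (K ⧸ E)) := hv _ (mem_map_of_mem q ha) hfix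
    by_cases hall : ∀ R, Cfsg.IsComponent R → Rep R → ∀ x ∈ R, a * x = x * a
    · have hE' : ∀ x ∈ E, a * x = x * a := by
        intro x hx
        have hle : E ≤ centralizer ({a} : Set K) := CfsgLib.Comp.layer_le fun L hL x hx => by
          refine mem_centralizer_singleton_iff.2 ?_
          obtain ⟨b, hb, hR⟩ := hpick L
          have hRc : Cfsg.IsComponent (pick (orb L)) := hR ▸ CfsgLib.Comp.component_conj b hL
          have hRep : Rep (pick (orb L)) := by
            show pick (orb (pick (orb L))) = pick (orb L)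
            rw [horb L _ (hpick L)]
          have h := hall _ hRc hRep (b * x * b⁻¹) (by rw [hR]; exact ⟨x, hx, rfl⟩)
          have hab : a * b = b * a := CfsgLib.Thompson.elab_commute hA ha hb
          calc x * a = b⁻¹ * ((b * x * b⁻¹) * (b * a)) := by group
            _ = b⁻¹ * ((b * x * b⁻¹) * a * b) := by rw [← hab]; group
            _ = b⁻¹ * (a * b) * x := by rw [← h]; group
            _ = a * x := by rw [hab]; group
        exact (mem_centralizer_singleton_iff.1 (hle hx)).symm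
      have hF' : ∀ f ∈ F, a * f = f * a := by
        intro f hf
        set d := a * f * a⁻¹ * f⁻¹ with hd
        have hdF : d ∈ F := F.mul_mem ((inferInstance : F.Normal).conj_mem f hf a) (F.inv_mem hf)
        have hdE : d ∈ E := by
          rw [← QuotientGroup.eq_one_iff (N := E)]
          show q d = 1
          rw [hd, map_mul, map_mul, map_mul, map_inv, map_inv,
            ← mem_centralizer_iff.1 hcent (q f) (mem_map_of_mem q hf)]
          group
        have hdd : d * d = 1 := by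
          have h1 : a * d * a⁻¹ = d := mul_inv_eq_iff_eq_mul.2 (hE' d hdE)
          have h2 : a * f * a⁻¹ = d * f := by rw [hd, inv_mul_cancel_right]
          have h3 : a * (d * f) * a⁻¹ = f := by
            rw [← h2, haa, show a * (a * f * a) * a = (a * a) * f * (a * a) by group,
              ← pow_two, hA.2 a ha, one_mul, mul_one]
          rw [show a * (d * f) * a⁻¹ = (a * d * a⁻¹) * (a * f * a⁻¹) by group, h1, h2,
            ← mul_assoc, mul_eq_right] at h3
          exact h3
        have hd1 : d = 1 := orderOf_eq_one_iff.1 (Nat.eq_one_of_dvd_coprimes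
          (Nat.coprime_two_left.2 hFodd) (orderOf_dvd_of_pow_eq_one (by rw [pow_two]; exact hdd))
          (F.orderOf_dvd_natCard hdF))
        rw [hd, mul_inv_eq_one, mul_inv_eq_iff_eq_mul] at hd1
        exact hd1
      set Z := centralizer (Cfsg.generalizedFittingSubgroup K : Set K)
      have haZ : a ∈ Z := by
        have hle : Cfsg.generalizedFittingSubgroup K ≤ centralizer ({a} : Set K) :=
          sup_le (fun x hx => mem_centralizer_singleton_iff.2 (hE' x hx).symm)
            fun x hx => mem_centralizer_singleton_iff.2 (hF' x hx).symm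
        exact mem_centralizer_iff.2 fun x hx => mem_centralizer_singleton_iff.1 (hle hx)
      have hZle : Z ≤ F := by
        letI : CommGroup Z :=
          { (inferInstance : Group Z) with
            mul_comm := fun x y => Subtype.ext
              (mem_centralizer_iff.1 y.2 x (CfsgLib.Comp.centralizer_Fstar_le x.2)) }
        exact CfsgLib.Comp.le_fitting inferInstance CommGroup.isNilpotent
      exact ha1 (orderOf_eq_one_iff.1 (Nat.eq_one_of_dvd_coprimes
        (Nat.coprime_two_left.2 hFodd) (orderOf_dvd_of_pow_eq_one (hA.2 a ha))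
        (F.orderOf_dvd_natCard (hZle haZ))))
    push Not at hall
    obtain ⟨R, hR, hRep, x₀, hx₀, hne⟩ := hall
    set R' := R.map (MulAut.conj a⁻¹).toMonoidHom with hR'
    have hR'c : Cfsg.IsComponent R' := CfsgLib.Comp.component_conj a⁻¹ hR
    have hback : ∀ {x : K}, x ∈ R → a⁻¹ * x * a ∈ R' := fun {x} hx => ⟨x, hx, by simp⟩
    obtain ⟨hz, hz2, hzgen⟩ := hyL R hR
    set z := yL R with hzdef
    -- the effect of `c * m` on `R`
    have hgen : ∀ u ∈ R, (∀ x ∈ R, m * x * m⁻¹ = u * x * u⁻¹) →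
        u ^ 2 ^ k ∈ (center R).map R.subtype := by
      intro u hu hmu
      have hg : ∀ x ∈ R, (c * m) * x * (c * m)⁻¹ = u * x * u⁻¹ := fun x hx => by
        have hE1 : u * x * u⁻¹ ∈ E :=
          CfsgLib.Comp.component_le_layer hR (R.mul_mem (R.mul_mem hu hx) (R.inv_mem hu))
        rw [show (c * m) * x * (c * m)⁻¹ = c * (m * x * m⁻¹) * c⁻¹ by group, hmu x hx,
          mul_inv_eq_iff_eq_mul]
        exact hFE c hcF _ hE1
      refine ⟨⟨u ^ 2 ^ k, pow_mem hu _⟩, mem_center_iff.2 fun w => Subtype.ext ?_, rfl⟩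
      have h := conj_iterate hu hg (2 ^ k) w w.2
      rw [hk, one_mul, inv_one, mul_one] at h
      show (w : K) * u ^ 2 ^ k = u ^ 2 ^ k * w
      calc (w : K) * u ^ 2 ^ k = (u ^ 2 ^ k * w * (u ^ 2 ^ k)⁻¹) * u ^ 2 ^ k := by rw [← h]
        _ = _ := by group
    have hmem : R ∈ Finset.univ.filter Rep := by simp [hRep]
    have hinvact : ∀ x ∈ R, e⁻¹ * x * e = z⁻¹ * x * z := by
      intro x hx
      have h := (hspec R hR (z⁻¹ * x * z) (R.mul_mem (R.mul_mem (R.inv_mem hz) hx) hz)).1 hmem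
      rw [show z * (z⁻¹ * x * z) * z⁻¹ = x by group] at h
      conv_lhs => rw [← h]
      group
    by_cases hfixR : a ∈ normalizer (R : Set K)
    · have hu : a * z * a⁻¹ * z⁻¹ ∈ R :=
        R.mul_mem ((mem_normalizer_iff.1 hfixR _).1 hz) (R.inv_mem hz)
      refine hzgen a ha hfixR ⟨x₀, hx₀, hne⟩ k (hgen _ hu fun x hx => ?_)
      have hx1 : z⁻¹ * x * z ∈ R := R.mul_mem (R.mul_mem (R.inv_mem hz) hx) hz
      have hx2 : a⁻¹ * (z⁻¹ * x * z) * a ∈ R := (mem_normalizer_iff''.1 hfixR _).1 hx1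
      rw [show m * x * m⁻¹ = a * (e * (a⁻¹ * (e⁻¹ * x * e) * a) * e⁻¹) * a⁻¹ by rw [hm]; group,
        hinvact x hx, (hspec R hR _ hx2).1 hmem, hzdef]
      group
    · refine hz2 k ?_
      have h := hgen z⁻¹ (R.inv_mem hz) fun x hx => ?_
      · rw [inv_pow] at h
        exact inv_mem_iff.1 h
      have hRne : R' ≠ R := by
        intro h
        refine hfixR (mem_normalizer_fintype fun w hw => ?_)
        have h1 := hback hw
        rw [h] at h1
        show a * w * a⁻¹ ∈ R
        rwa [haa] at h1 ⊢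
      have hnmem : R' ∉ Finset.univ.filter Rep := by
        simp only [Finset.mem_filter, Finset.mem_univ, true_and]
        intro h
        have h' : pick (orb R') = R' := h
        rw [horb R R' ⟨a⁻¹, A.inv_mem ha, rfl⟩] at h'
        exact hRne (h'.symm.trans hRep)
      have hx1 : z⁻¹ * x * z ∈ R := R.mul_mem (R.mul_mem (R.inv_mem hz) hx) hz
      rw [show m * x * m⁻¹ = a * (e * (a⁻¹ * (e⁻¹ * x * e) * a) * e⁻¹) * a⁻¹ by rw [hm]; group,
        hinvact x hx, (hspec R' hR'c _ (hback hx1)).2 hnmem]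
      group
  · -- `a` moves the Fitting vector
    refine hfix ?_
    have hqm : q m = 1 := (QuotientGroup.eq_one_iff m).2 hmE
    have h1 : q c ^ 2 ^ k = 1 := by
      have h := congrArg q hk
      rwa [map_pow, map_mul, hqm, mul_one, map_one] at h
    have h2 : q c = 1 := orderOf_eq_one_iff.1 (Nat.eq_one_of_dvd_coprimes
      ((Nat.coprime_two_left.2 hF₁odd).pow_left k) (orderOf_dvd_of_pow_eq_one h1)
      (F₁.orderOf_dvd_natCard (mem_map_of_mem q hcF)))
    rw [hc, map_mul, map_mul, map_mul, map_inv, map_inv, mul_inv_eq_one,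
      mul_inv_eq_iff_eq_mul] at h2
    exact h2

theorem pow_two_pow_mul_of_normal {H : Type u} [Group H] [Finite H] {T : Subgroup H} [T.Normal]
    (hT : IsPGroup 2 T) {t b : H} (ht : t ∈ T) (hb : ∃ i, b ^ 2 ^ i = 1) :
    ∃ i, (t * b) ^ 2 ^ i = 1 := by
  haveI : Fact (Nat.Prime 2) := ⟨Nat.prime_two⟩
  obtain ⟨i, hi⟩ := hb
  obtain ⟨j, -, hj⟩ := (Nat.dvd_prime_pow Nat.prime_two).1 (orderOf_dvd_of_pow_eq_one hi)
  have hB : IsPGroup 2 (zpowers b) := IsPGroup.of_card (n := j) (by rw [Nat.card_zpowers, hj])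
  obtain ⟨k, hk⟩ := (hT.to_sup_of_normal_left hB) ⟨t * b, mul_mem_sup ht (mem_zpowers b)⟩
  exact ⟨k, by simpa using congrArg Subtype.val hk⟩

/-- Two conjugates of `A` generating a group whose 2-core avoids both. -/
theorem exists_conj_avoiding (hO : Cfsg.pCore 2 K = ⊥) (hK : KAll K) (A : Subgroup K)
    (hA : Cfsg.IsElementaryAbelian 2 A) :
    ∃ y : K, ∀ (H : Subgroup K) (T : Subgroup H) [T.Normal], IsPGroup 2 T → A ≤ H →
      A.map (MulAut.conj y).toMonoidHom ≤ H →
      A ⊓ T.map H.subtype = ⊥ ∧ A.map (MulAut.conj y).toMonoidHom ⊓ T.map H.subtype = ⊥ := by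
  obtain ⟨y, hy⟩ := exists_good_conj hO hK A hA
  refine ⟨y, fun H T hTn hT hAH hBH => ?_⟩
  have hinv : ∀ a ∈ A, a⁻¹ = a := fun a ha => by
    rw [inv_eq_iff_mul_eq_one, ← pow_two]; exact hA.2 a ha
  have key : ∀ a ∈ A, a ≠ 1 → ∀ (ha' : a ∈ H) (hb : y * a * y⁻¹ ∈ H),
      ((⟨a, ha'⟩ : H) ∈ T ∨ (⟨y * a * y⁻¹, hb⟩ : H) ∈ T) → False := by
    intro a ha ha1 ha' hb hmem
    have e : a * y * a⁻¹ * y⁻¹ = a * (y * a * y⁻¹) := by rw [hinv a ha]; group
    have h2 : ∀ {g : H}, (g : K) ^ 2 = 1 → ∃ i, g ^ 2 ^ i = 1 := fun {g} h =>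
      ⟨1, Subtype.ext (by rw [pow_one, SubgroupClass.coe_pow, h, OneMemClass.coe_one])⟩
    rcases hmem with h | h
    · obtain ⟨i, hi⟩ := pow_two_pow_mul_of_normal hT h
        (h2 (g := ⟨y * a * y⁻¹, hb⟩) (by
          show (y * a * y⁻¹) ^ 2 = 1
          rw [conj_pow, hA.2 a ha, mul_one, mul_inv_cancel]))
      refine hy a ha ha1 i ?_
      rw [e]
      simpa using congrArg Subtype.val hi
    · obtain ⟨i, hi⟩ := pow_two_pow_mul_of_normal hT h
        (h2 (g := ⟨a, ha'⟩) (hA.2 a ha))
      refine hy a ha ha1 i ?_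
      rw [e]
      have hi' : ((y * a * y⁻¹) * a) ^ 2 ^ i = 1 := by simpa using congrArg Subtype.val hi
      have := conj_pow (a := a) (b := (y * a * y⁻¹) * a) (i := 2 ^ i)
      rw [hi', mul_one, mul_inv_cancel] at this
      rw [← this]
      congr 1
      group
  constructor
  · rw [eq_bot_iff]
    rintro a ⟨ha, t, ht, he⟩
    by_contra hne
    have ha1 : a ≠ 1 := fun h => hne (mem_bot.2 h)
    refine key a ha ha1 (hAH ha) (hBH ⟨a, ha, rfl⟩) (Or.inl ?_)
    rwa [show (⟨a, hAH ha⟩ : H) = t from Subtype.ext he.symm]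
  · rw [eq_bot_iff]
    rintro _ ⟨⟨a, ha, rfl⟩, t, ht, he⟩
    by_contra hne
    have ha1 : a ≠ 1 := fun h => hne (mem_bot.2 (by rw [h, map_one]))
    refine key a ha ha1 (hAH ha) (hBH ⟨a, ha, rfl⟩) (Or.inr ?_)
    rwa [show (⟨y * a * y⁻¹, hBH ⟨a, ha, rfl⟩⟩ : H) = t from Subtype.ext he.symm]

end CfsgLib.SThreeFree.K
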