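import Cfsg.Agent.SThreeFree.K.Section
import Cfsg.Agent.SThreeFree.K.Split
import Cfsg.Agent.Solvable.Fitting
import Cfsg.Agent.LocalB.CharP

/-!
An elementary abelian subgroup of a Sylow 2-subgroup `U` on which `U` acts above the `3/2` bound
lies in the 2-core of a group of characteristic 2.
-/

set_option autoImplicit false
set_option linter.unusedSectionVars false
set_option linter.style.haveILetI false

namespace CfsgLib.SThreeFree.K

open Subgroup
open scoped commutatorElement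

universe u

variable {G : Type u} [Group G] [Finite G]

/-- Elementary sections of `U` act on `V` above the `3/2` bound. -/
def PProp (U V : Subgroup G) : Prop :=
  ∀ R ≤ U, ElemMod V R → ¬ R ≤ centralizer (V : Set G) →
    (centralizer (V : Set G)).relIndex R ^ 3 < idx V R ^ 2 ∧
      (centralizer (V : Set G)).relIndex R < Nat.card ↥⁅V, R⁆

theorem map_centralizer_equiv {H : Type u} [Group H] (e : G ≃* H) (S : Subgroup G) :
    (centralizer (S : Set G)).map e.toMonoidHom =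
      centralizer ((S.map e.toMonoidHom : Subgroup H) : Set H) := by
  ext x
  constructor
  · rintro ⟨g, hg, rfl⟩
    refine mem_centralizer_iff.2 ?_
    rintro _ ⟨s, hs, rfl⟩
    rw [← map_mul, ← map_mul, mem_centralizer_iff.1 hg s hs]
  · intro hx
    refine ⟨e.symm x, mem_centralizer_iff.2 fun s hs => e.injective ?_, by simp⟩
    rw [map_mul, map_mul, MulEquiv.apply_symm_apply]
    exact mem_centralizer_iff.1 hx (e s) (mem_map_of_mem _ hs)

theorem idx_map {H : Type u} [Group H] (e : G ≃* H) (W A : Subgroup G) :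
    idx (W.map e.toMonoidHom) (A.map e.toMonoidHom) = idx W A := by
  rw [idx, idx, ← map_centralizer_equiv, ← Subgroup.map_inf _ _ _ e.injective,
    relIndex_map_map_of_injective _ _ e.injective]

theorem idx_subgroupOf {H W A : Subgroup G} (hW : W ≤ H) (hA : A ≤ H) :
    idx (W.subgroupOf H) (A.subgroupOf H) = idx W A := by
  have h : (W.subgroupOf H ⊓ centralizer (A.subgroupOf H : Set H)).map H.subtype =
      W ⊓ centralizer (A : Set G) := by
    ext x
    constructor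
    · rintro ⟨y, ⟨hy, hc⟩, rfl⟩
      exact ⟨hy, mem_centralizer_iff.2 fun a ha =>
        congrArg Subtype.val (mem_centralizer_iff.1 hc ⟨a, hA ha⟩ ha)⟩
    · rintro ⟨hx, hc⟩
      exact ⟨⟨x, hW hx⟩, ⟨hx, mem_centralizer_iff.2 fun a ha =>
        Subtype.ext (mem_centralizer_iff.1 hc a ha)⟩, rfl⟩
  have h' := relIndex_map_map_of_injective (W.subgroupOf H ⊓ centralizer (A.subgroupOf H : Set H))
    (W.subgroupOf H) (f := H.subtype) H.subtype_injective
  rw [h, subgroupOf_map_subtype, inf_eq_left.2 hW] at h'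
  exact h'.symm

theorem commutator_mem_inf {Q A : Subgroup G} [Q.Normal] (hn : Q ≤ normalizer (A : Set G))
    {a y : G} (ha : a ∈ A) (hy : y ∈ Q) : a * y * a⁻¹ * y⁻¹ ∈ A ⊓ Q := by
  refine ⟨?_, Q.mul_mem ((inferInstance : Q.Normal).conj_mem y hy a) (Q.inv_mem hy)⟩
  rw [show a * y * a⁻¹ * y⁻¹ = a * (y * a⁻¹ * y⁻¹) by group]
  exact A.mul_mem ha ((mem_normalizer_iff.1 (hn hy) _).1 (A.inv_mem ha))

/-- The main estimate for two elementary subgroups normalised by a self-centralizing normal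
2-subgroup. -/
theorem sq_le_of_avoid (Q : Subgroup G) [Q.Normal] (hQ : IsPGroup 2 Q)
    (hc : centralizer (Q : Set G) ≤ Q) (h3 : ¬ CfsgLib.ZJ.Inverts 3 G) (hK : KAll G)
    (A₁ A₂ : Subgroup G) (hA₁ : Cfsg.IsElementaryAbelian 2 A₁)
    (hA₂ : Cfsg.IsElementaryAbelian 2 A₂)
    (hn₁ : Q ≤ normalizer (A₁ : Set G)) (hn₂ : Q ≤ normalizer (A₂ : Set G))
    (havoid : ∀ (H : Subgroup G) (T : Subgroup H) [T.Normal], IsPGroup 2 T → A₁ ≤ H → A₂ ≤ H →
      A₁ ⊓ T.map H.subtype ≤ Q) :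
    Q.relIndex A₁ ^ 2 ≤ idx (A₂ ⊓ Q) A₁ := by
  classical
  haveI : Fact (Nat.Prime 2) := ⟨Nat.prime_two⟩
  haveI : Fact (Nat.Prime 3) := ⟨Nat.prime_three⟩
  set D := A₁ ⊓ Q with hD
  set B := A₂ ⊓ Q with hB
  set P₀ := D ⊔ B with hP₀
  set H := A₁ ⊔ A₂ ⊔ Q with hH
  have hA₁H : A₁ ≤ H := le_sup_left.trans le_sup_left
  have hA₂H : A₂ ≤ H := le_sup_right.trans le_sup_left
  have hQH : Q ≤ H := le_sup_right
  have hP₀Q : P₀ ≤ Q := sup_le inf_le_right inf_le_right
  -- conjugation preserves `P₀`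
  have hmove : ∀ g : G, (∀ y ∈ D, g * y * g⁻¹ ∈ P₀) → (∀ y ∈ B, g * y * g⁻¹ ∈ P₀) →
      g ∈ normalizer (P₀ : Set G) := fun g h1 h2 => mem_normalizer_fintype fun y hy => by
    have hle : P₀ ≤ P₀.comap (MulAut.conj g).toMonoidHom := sup_le
      (fun y hy => by simpa using h1 y hy) (fun y hy => by simpa using h2 y hy)
    simpa using hle hy
  have hnH : H ≤ normalizer (P₀ : Set G) := by
    refine sup_le (sup_le (fun a ha => ?_) fun a ha => ?_) fun g hg => ?_
    · refine hmove a (fun y hy => mem_sup_left ?_) fun y hy => ?_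
      · rw [CfsgLib.Thompson.elab_commute hA₁ ha hy.1, mul_inv_cancel_right]; exact hy
      · rw [show a * y * a⁻¹ = (a * y * a⁻¹ * y⁻¹) * y by group]
        exact mul_mem_sup (commutator_mem_inf hn₁ ha hy.2) hy
    · refine hmove a (fun y hy => ?_) fun y hy => mem_sup_right ?_
      · rw [show a * y * a⁻¹ = (a * y * a⁻¹ * y⁻¹) * y by group]
        exact mul_mem (mem_sup_right (commutator_mem_inf hn₂ ha hy.2)) (mem_sup_left hy)
      · rw [CfsgLib.Thompson.elab_commute hA₂ ha hy.1, mul_inv_cancel_right]; exact hy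
    · exact hmove g
        (fun y hy => mem_sup_left ⟨(mem_normalizer_iff.1 (hn₁ hg) _).1 hy.1,
          (inferInstance : Q.Normal).conj_mem y hy.2 g⟩)
        (fun y hy => mem_sup_right ⟨(mem_normalizer_iff.1 (hn₂ hg) _).1 hy.1,
          (inferInstance : Q.Normal).conj_mem y hy.2 g⟩)
  set P := P₀.subgroupOf H with hP
  haveI : P.Normal := normal_subgroupOf_of_le_normalizer hnH
  have hP2 : IsPGroup 2 P :=
    (hQ.to_le hP₀Q).of_injective (subgroupOfEquivOfLe (hP₀Q.trans hQH)).toMonoidHom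
      (subgroupOfEquivOfLe (hP₀Q.trans hQH)).injective
  have hAe : Cfsg.IsElementaryAbelian 2 (A₁.subgroupOf H) := CfsgLib.Thompson.elab_subgroupOf hA₁ H
  obtain ⟨S, hSn, hS, hbound⟩ :=
    chief_bound (fun h => h3 h.of_subgroup) (kAll_subgroup hK H) (A₁.subgroupOf H) hAe P hP2
  haveI := hSn
  -- odd elements of `S` are trivial
  have hodd : ∀ k ∈ S, Odd (orderOf k) → k = 1 := by
    rintro ⟨k, hkH⟩ hk hko
    have hkP : ∀ y ∈ P₀, k * y = y * k := fun y hy =>
      (congrArg Subtype.val (mem_centralizer_iff.1 (hS _ hk hko)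
        ⟨y, hQH (hP₀Q hy)⟩ hy)).symm
    rw [Subgroup.orderOf_mk] at hko
    let C₁ : Subgroup G :=
      { carrier := {g | g ∈ normalizer (P₀ : Set G) ∧ ∀ y ∈ Q, g * y * g⁻¹ * y⁻¹ ∈ P₀}
        one_mem' := ⟨one_mem _, fun y _ => by simp⟩
        mul_mem' := fun {g g'} hg hg' => ⟨mul_mem hg.1 hg'.1, fun y hy => by
          rw [show g * g' * y * (g * g')⁻¹ * y⁻¹ =
            (g * (g' * y * g'⁻¹ * y⁻¹) * g⁻¹) * (g * y * g⁻¹ * y⁻¹) by group]
          exact P₀.mul_mem ((mem_normalizer_iff.1 hg.1 _).1 (hg'.2 y hy)) (hg.2 y hy)⟩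
        inv_mem' := fun {g} hg => ⟨inv_mem hg.1, fun y hy => by
          have h := (mem_normalizer_iff.1 (inv_mem hg.1) _).1 (P₀.inv_mem (hg.2 y hy))
          rw [show g⁻¹ * (g * y * g⁻¹ * y⁻¹)⁻¹ * g⁻¹⁻¹ = g⁻¹ * y * g⁻¹⁻¹ * y⁻¹ by group] at h
          exact h⟩ }
    have hgen : A₁ ⊔ A₂ ≤ C₁ := sup_le
      (fun a ha => ⟨hnH (hA₁H ha), fun y hy => mem_sup_left (commutator_mem_inf hn₁ ha hy)⟩)
      (fun a ha => ⟨hnH (hA₂H ha), fun y hy => mem_sup_right (commutator_mem_inf hn₂ ha hy)⟩)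
    have hkH' : k ∈ C₁ ⊔ Q := sup_le_sup_right hgen Q hkH
    obtain ⟨c, hcC, q₀, hq₀, hkc⟩ := mem_sup_of_normal_right.1 hkH'
    have hkn : k ∈ normalizer (P₀ : Set G) := hnH hkH
    -- `k` acts on `Q / P₀` as `q₀`
    have hstep : ∀ y ∈ Q, k * y * k⁻¹ * (q₀ * y * q₀⁻¹)⁻¹ ∈ P₀ := by
      intro y hy
      have h := hcC.2 _ (Q.mul_mem (Q.mul_mem hq₀ hy) (Q.inv_mem hq₀))
      rwa [show c * (q₀ * y * q₀⁻¹) * c⁻¹ = k * y * k⁻¹ by rw [← hkc]; group] at h
    have hiter : ∀ i : ℕ, ∀ y ∈ Q,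
        k ^ i * y * (k ^ i)⁻¹ * (q₀ ^ i * y * (q₀ ^ i)⁻¹)⁻¹ ∈ P₀ := by
      intro i
      induction i with
      | zero => intro y _; simp
      | succ i ih =>
        intro y hy
        have hy' : q₀ ^ i * y * (q₀ ^ i)⁻¹ ∈ Q :=
          Q.mul_mem (Q.mul_mem (pow_mem hq₀ i) hy) (Q.inv_mem (pow_mem hq₀ i))
        have h := P₀.mul_mem ((mem_normalizer_iff.1 hkn _).1 (ih y hy)) (hstep _ hy')
        rw [pow_succ' k, pow_succ' q₀]
        convert h using 1
        group
    set m := orderOf k with hm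
    obtain ⟨j, hj⟩ := hQ ⟨q₀, hq₀⟩
    have hj' : q₀ ^ 2 ^ j = 1 := by simpa using congrArg Subtype.val hj
    obtain ⟨n, hn1, hn2⟩ := Nat.chineseRemainder
      ((Nat.coprime_two_left.2 hko).symm.pow_right j) 1 0
    have hkn' : k ^ n = k := by
      conv_rhs => rw [← pow_one k]
      rw [pow_eq_pow_iff_modEq]
      exact hn1
    have hqn : q₀ ^ n = 1 := by
      obtain ⟨t, rfl⟩ := Nat.modEq_zero_iff_dvd.1 hn2
      rw [pow_mul, hj', one_pow]
    have hfix : ∀ y ∈ Q, k * y = y * k := by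
      intro y hy
      have h := hiter n y hy
      rw [hkn', hqn, one_mul, inv_one, mul_one] at h
      set c₀ := k * y * k⁻¹ * y⁻¹ with hc₀
      have hkc₀ : k * c₀ * k⁻¹ = c₀ := mul_inv_eq_iff_eq_mul.2 (hkP c₀ h)
      have hstep' : k * y * k⁻¹ = c₀ * y := by rw [hc₀, inv_mul_cancel_right]
      have hpow : ∀ i : ℕ, k ^ i * y * (k ^ i)⁻¹ = c₀ ^ i * y := by
        intro i
        induction i with
        | zero => simp
        | succ i ih' =>
          have h1 : k ^ (i + 1) * y * (k ^ (i + 1))⁻¹ = k * (k ^ i * y * (k ^ i)⁻¹) * k⁻¹ := by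
            rw [pow_succ']; group
          rw [h1, ih', show k * (c₀ ^ i * y) * k⁻¹ = (k * c₀ * k⁻¹) ^ i * (k * y * k⁻¹) by
            rw [conj_pow]; group, hkc₀, hstep', ← mul_assoc, ← pow_succ]
      have h' := hpow m
      rw [hm, pow_orderOf_eq_one, inv_one, mul_one, one_mul, right_eq_mul] at h'
      have hc1 : c₀ = 1 := CfsgLib.LocalB.eq_one_of_orderOf_coprime hQ (hP₀Q h)
        (Nat.Coprime.coprime_dvd_left (orderOf_dvd_of_pow_eq_one h') (Nat.coprime_two_right.2 hko))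
      rw [hc1, one_mul, mul_inv_eq_iff_eq_mul] at hstep'
      exact hstep'
    refine Subtype.ext (CfsgLib.LocalB.eq_one_of_orderOf_coprime hQ
      (hc (mem_centralizer_iff.2 fun y hy => (hfix y hy).symm)) (Nat.coprime_two_right.2 hko))
  have hS2 : IsPGroup 2 S := by
    refine IsPGroup.of_card (n := (Nat.card S).primeFactorsList.length) ?_
    refine Nat.eq_prime_pow_of_unique_prime_dvd Nat.card_pos.ne' fun {p} hp hd => ?_
    by_contra hp2
    haveI := Fact.mk hp
    obtain ⟨x, hx⟩ := exists_prime_orderOf_dvd_card' p hd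
    have h1 := hodd x x.2 (by rw [Subgroup.orderOf_coe, hx]; exact hp.odd_of_ne_two hp2)
    rw [← Subgroup.orderOf_coe, h1, orderOf_one] at hx
    exact hp.ne_one hx.symm
  have hAS := havoid H S hS2 hA₁H hA₂H
  have hle : Q.relIndex A₁ ≤ S.relIndex (A₁.subgroupOf H) := by
    have e : S.relIndex (A₁.subgroupOf H) = (S.map H.subtype).relIndex A₁ := by
      conv_rhs => rw [← inf_eq_left.2 hA₁H, ← subgroupOf_map_subtype]
      rw [relIndex_map_map_of_injective _ _ H.subtype_injective]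
    rw [e, ← inf_relIndex_right (S.map H.subtype)]
    refine relIndex_le_of_le_left ?_ index_ne_zero_of_finite
    rw [inf_comm]
    exact hAS
  refine (Nat.pow_le_pow_left hle 2).trans (hbound.trans ?_)
  rw [hP, idx_subgroupOf (hP₀Q.trans hQH) hA₁H]
  -- drop `D`
  set BC := B ⊓ centralizer (A₁ : Set G) with hBC
  set L := D ⊔ BC with hL
  have hDc : D ≤ centralizer (A₁ : Set G) :=
    inf_le_left.trans (CfsgLib.Thompson.elab_le_centralizer hA₁)
  have hLle : L ≤ P₀ ⊓ centralizer (A₁ : Set G) :=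
    sup_le (le_inf le_sup_left hDc) (le_inf (inf_le_left.trans le_sup_right) inf_le_right)
  refine (relIndex_le_of_le_left hLle index_ne_zero_of_finite).trans ?_
  have hBn : B ≤ normalizer (D : Set G) := fun b hb => mem_normalizer_fintype fun y hy =>
    ⟨(mem_normalizer_iff.1 (hn₁ hb.2) _).1 hy.1, (inferInstance : Q.Normal).conj_mem y hy.2 b⟩
  have c1 := CfsgLib.Solvable.card_sup_mul_card_inf (A := B) (K := D) hBn
  have c2 := CfsgLib.Solvable.card_sup_mul_card_inf (A := BC) (K := D) (inf_le_left.trans hBn)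
  have hBD : BC ⊓ D = B ⊓ D := by
    rw [hBC, inf_assoc, inf_eq_right.2 hDc]
  rw [hBD, sup_comm, ← hL] at c2
  rw [sup_comm, ← hP₀] at c1
  have c3 := card_relIndex (show L ≤ P₀ from hLle.trans inf_le_left)
  have c4 := card_relIndex (inf_le_left : BC ≤ B)
  show L.relIndex P₀ ≤ BC.relIndex B
  refine le_of_eq (Nat.eq_of_mul_eq_mul_left
    (Nat.mul_pos (Nat.card_pos (α := BC)) (Nat.card_pos (α := D))) ?_)
  calc Nat.card BC * Nat.card D * L.relIndex P₀
      = Nat.card L * L.relIndex P₀ * Nat.card ↥(B ⊓ D) := by rw [← c2]; ring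
    _ = Nat.card B * Nat.card D := by rw [c3, c1]
    _ = Nat.card BC * Nat.card D * BC.relIndex B := by rw [← c4]; ring

theorem idx_le_mul {V D : Subgroup G} (B : Subgroup G) (hDV : D ≤ V) :
    idx V B ≤ D.relIndex V * idx D B := by
  rw [idx, idx, mul_comm, relIndex_mul_relIndex (D ⊓ centralizer (B : Set G)) D V inf_le_left hDV]
  exact relIndex_le_of_le_left (inf_le_inf_right _ hDV) index_ne_zero_of_finite

theorem idx_mono_right (W : Subgroup G) {A B : Subgroup G} (h : A ≤ B) : idx W A ≤ idx W B :=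
  relIndex_le_of_le_left (inf_le_inf_left W (centralizer_le (show (A : Set G) ⊆ B from h)))
    index_ne_zero_of_finite

/-- An elementary abelian normal subgroup of a Sylow subgroup above the `3/2` bound lies in the
2-core. -/
theorem le_core_of_pprop (hchar : centralizer (Cfsg.pCore 2 G : Set G) ≤ Cfsg.pCore 2 G)
    (h3 : ¬ CfsgLib.ZJ.Inverts 3 G) (hK : KAll G) (U : Sylow 2 G) (V : Subgroup G)
    (hVU : V ≤ (U : Subgroup G)) (hUV : (U : Subgroup G) ≤ normalizer (V : Set G))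
    (hV : Cfsg.IsElementaryAbelian 2 V) (hP : PProp (U : Subgroup G) V) :
    V ≤ Cfsg.pCore 2 G := by
  classical
  haveI : Fact (Nat.Prime 2) := ⟨Nat.prime_two⟩
  set Q := Cfsg.pCore 2 G with hQdef
  haveI : Q.Normal := CfsgLib.Solvable.pCore_normal 2
  have hQ : IsPGroup 2 Q := CfsgLib.Solvable.isPGroup_pCore 2
  have hQU : Q ≤ (U : Subgroup G) := CfsgLib.Fitting.pCore_le_sylow U
  set f := QuotientGroup.mk' Q with hf
  have hfs : Function.Surjective f := QuotientGroup.mk'_surjective Q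
  have hO : Cfsg.pCore 2 (G ⧸ Q) = ⊥ := by
    have hp : IsPGroup 2 ((Cfsg.pCore 2 (G ⧸ Q)).comap f) :=
      (CfsgLib.Solvable.isPGroup_pCore (G := G ⧸ Q) 2).comap_of_ker_isPGroup f
        (by rw [QuotientGroup.ker_mk']; exact hQ)
    haveI : (Cfsg.pCore 2 (G ⧸ Q)).Normal := CfsgLib.Solvable.pCore_normal 2
    rw [← map_comap_eq_self_of_surjective hfs (Cfsg.pCore 2 (G ⧸ Q)), Subgroup.map_eq_bot_iff,
      QuotientGroup.ker_mk']
    exact CfsgLib.Solvable.le_pCore 2 (Normal.comap inferInstance f) hp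
  obtain ⟨y, hy⟩ := exists_conj_avoiding hO (kAll_surjective hK f hfs) (V.map f)
    (CfsgLib.Thompson.elab_map f hV)
  obtain ⟨x, rfl⟩ := hfs y
  set e := MulAut.conj x with he
  set B₀ := V.map e.toMonoidHom with hB₀
  have hB₀f : B₀.map f = (V.map f).map (MulAut.conj (f x)).toMonoidHom := by
    rw [hB₀, map_map, map_map]
    congr 1
  have havoid : ∀ (H : Subgroup G) (T : Subgroup H) [T.Normal], IsPGroup 2 T → V ≤ H → B₀ ≤ H →
      V ⊓ T.map H.subtype ≤ Q ∧ B₀ ⊓ T.map H.subtype ≤ Q := by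
    intro H T hTn hT hVH hBH
    haveI : (T.map (f.subgroupMap H)).Normal := hTn.map _ (f.subgroupMap_surjective H)
    obtain ⟨h1, h2⟩ := hy (H.map f) (T.map (f.subgroupMap H)) (hT.map _) (map_mono hVH)
      (hB₀f ▸ map_mono hBH)
    rw [← hB₀f] at h2
    have hm : (T.map (f.subgroupMap H)).map (H.map f).subtype = (T.map H.subtype).map f := by
      rw [map_map, map_map]; rfl
    rw [hm] at h1 h2
    constructor
    · rintro a ⟨ha, ht⟩
      exact (QuotientGroup.eq_one_iff a).1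
        (mem_bot.1 (h1.le ⟨mem_map_of_mem f ha, mem_map_of_mem f ht⟩))
    · rintro a ⟨ha, ht⟩
      exact (QuotientGroup.eq_one_iff a).1
        (mem_bot.1 (h2.le ⟨mem_map_of_mem f ha, mem_map_of_mem f ht⟩))
  have hn₁ : Q ≤ normalizer (V : Set G) := hQU.trans hUV
  have hn₂ : Q ≤ normalizer (B₀ : Set G) := fun g hg => mem_normalizer_fintype fun w hw => by
    obtain ⟨v, hv, rfl⟩ := hw
    refine ⟨(x⁻¹ * g * x) * v * (x⁻¹ * g * x)⁻¹, (mem_normalizer_iff.1 (hn₁ (by
      simpa using (inferInstance : Q.Normal).conj_mem g hg x⁻¹)) v).1 hv, ?_⟩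
    simp [he, mul_assoc]
  have hB₀e : Cfsg.IsElementaryAbelian 2 B₀ := CfsgLib.Thompson.elab_map _ hV
  set D := V ⊓ Q with hD
  set B := B₀ ⊓ Q with hB
  have hb := sq_le_of_avoid Q hQ hchar h3 hK V B₀ hV hB₀e hn₁ hn₂
    fun H T _ hT h1 h2 => (havoid H T hT h1 h2).1
  have hd := sq_le_of_avoid Q hQ hchar h3 hK B₀ V hB₀e hV hn₂ hn₁
    fun H T _ hT h1 h2 => (havoid H T hT h2 h1).2
  have hQmap : Q.map e.toMonoidHom = Q := Subgroup.Normal.map_conj_eq Q x
  have hρ : Q.relIndex B₀ = Q.relIndex V := by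
    conv_lhs => rw [← hQmap]
    exact relIndex_map_map_of_injective _ _ e.injective
  rw [hρ] at hd
  rw [← hB] at hb
  rw [← hD] at hd
  set ρ := Q.relIndex V with hρdef
  by_contra hne
  have hρ1 : 2 ≤ ρ := by
    have h0 : ρ ≠ 0 := index_ne_zero_of_finite
    have h1 : ρ ≠ 1 := fun h => hne (relIndex_eq_one.1 h)
    omega
  -- the first inequality
  set β := idx B V with hβ
  set δ := idx D B₀ with hδ
  have hβ2 : 2 ≤ β := le_trans (by nlinarith) hb
  have hδ2 : 2 ≤ δ := le_trans (by nlinarith) hd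
  have hDρ : D.relIndex V = ρ := by rw [hD, inf_comm, inf_relIndex_right]
  have hBρ : B.relIndex B₀ = ρ := by rw [hB, inf_comm, inf_relIndex_right, hρ]
  have hBc : (centralizer (V : Set G)).relIndex B = β := by
    rw [hβ, idx, inf_comm, inf_relIndex_right]
  have hDc : (centralizer (B₀ : Set G)).relIndex D = δ := by
    rw [hδ, idx, inf_comm, inf_relIndex_right]
  have hDe := CfsgLib.Thompson.elab_mono hV (inf_le_left : D ≤ V)
  have hBe := CfsgLib.Thompson.elab_mono hB₀e (inf_le_left : B ≤ B₀)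
  have h1 := (hP B (inf_le_right.trans hQU) (elemMod_of_elab hBe V) fun h => by
    have := relIndex_eq_one.2 h; omega).1
  rw [hBc] at h1
  set D' := D.map e.symm.toMonoidHom with hD'
  have hD'D : D'.map e.toMonoidHom = D := by
    rw [hD', map_map]; ext g; simp
  have hD'Q : D' ≤ Q := by
    rintro _ ⟨d, hd', rfl⟩
    simpa [he] using (inferInstance : Q.Normal).conj_mem d hd'.2 x⁻¹
  have hD'c : (centralizer (V : Set G)).relIndex D' = δ := by
    rw [← relIndex_map_map_of_injective (f := e.toMonoidHom) _ _ e.injective, map_centralizer_equiv,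
      hD'D, hDc]
  have hD'i : idx V D' = idx B₀ D := by
    conv_rhs => rw [← hD'D, hB₀, idx_map]
  have h2 := (hP D' (hD'Q.trans hQU) (elemMod_of_elab (CfsgLib.Thompson.elab_map _ hDe) V) fun h => by
    have := relIndex_eq_one.2 h; omega).1
  rw [hD'c, hD'i] at h2
  have e1 : idx V B ≤ ρ * δ :=
    (idx_le_mul B (inf_le_left : D ≤ V)).trans (by
      rw [hDρ]; exact Nat.mul_le_mul_left _ (idx_mono_right D inf_le_left))
  have e2 : idx B₀ D ≤ ρ * β :=
    (idx_le_mul D (inf_le_left : B ≤ B₀)).trans (by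
      rw [hBρ]; exact Nat.mul_le_mul_left _ (idx_mono_right B inf_le_left))
  have k1 : β ^ 3 < (ρ * δ) ^ 2 := h1.trans_le (Nat.pow_le_pow_left e1 2)
  have k2 : δ ^ 3 < (ρ * β) ^ 2 := h2.trans_le (Nat.pow_le_pow_left e2 2)
  have k3 : β ^ 3 * δ ^ 3 < (ρ * δ) ^ 2 * (ρ * β) ^ 2 :=
    Nat.mul_lt_mul_of_lt_of_lt k1 k2
  have k4 : (ρ * δ) ^ 2 * (ρ * β) ^ 2 = (β ^ 2 * δ ^ 2) * (ρ ^ 2 * ρ ^ 2) := by ring
  have k5 : β ^ 3 * δ ^ 3 = (β ^ 2 * δ ^ 2) * (β * δ) := by ring
  rw [k4, k5] at k3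
  exact absurd (Nat.lt_of_mul_lt_mul_left k3) (not_lt.2 (Nat.mul_le_mul hb hd))

end CfsgLib.SThreeFree.K
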