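import Cfsg.Agent.SThreeFree.K.EGroup
import Cfsg.Agent.SThreeFree.Main
import Cfsg.Agent.KGroup.CharP

/-!
Reduction of the factorization to E-subgroups of a Sylow 2-subgroup.
-/

set_option autoImplicit false
set_option linter.unusedSectionVars false
set_option linter.style.haveILetI false

namespace CfsgLib.SThreeFree.K

open Subgroup CfsgLib.Thompson CfsgLib.OffGen
open scoped commutatorElement

universe u

variable {G : Type u} [Group G] [Finite G]

/-- Elements of a subgroup of `Q` and their conjugates under the bound commute. -/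
theorem conj_le_centralizer (Q : Subgroup G) [Q.Normal] {U V : Subgroup G} (hQU : Q ≤ U)
    (hVQ : V ≤ Q) (hV : Cfsg.IsElementaryAbelian 2 V) (hP : PProp U V) (g : G) :
    V.map (MulAut.conj g).toMonoidHom ≤ centralizer (V : Set G) := by
  set e := MulAut.conj g with he
  set B := V.map e.toMonoidHom with hB
  have hBQ : B ≤ Q := (map_mono hVQ).trans (Subgroup.Normal.map_conj_eq Q g).le
  set R' := V.map e.symm.toMonoidHom with hR'
  have hR'Q : R' ≤ Q := by
    rintro _ ⟨v, hv, rfl⟩
    simpa [he] using (inferInstance : Q.Normal).conj_mem v (hVQ hv) g⁻¹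
  have hR'e : R'.map e.toMonoidHom = V := by
    rw [hR', map_map]; ext x; simp
  by_contra hn
  set β := (centralizer (V : Set G)).relIndex B with hβ
  set ι := idx V B with hι
  have h1 := (hP B (hBQ.trans hQU) (elemMod_of_elab (elab_map _ hV) V) hn).1
  have hβ1 : 1 ≤ β := Nat.one_le_iff_ne_zero.2 index_ne_zero_of_finite
  have e1 : (centralizer (V : Set G)).relIndex R' = ι := by
    rw [← relIndex_map_map_of_injective (f := e.toMonoidHom) _ _ e.injective, map_centralizer_equiv,
      hR'e, ← hB, hι, idx, inf_comm, inf_relIndex_right]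
  have e2 : idx V R' = β := by
    rw [← idx_map e, hR'e, ← hB, hβ, idx, inf_comm, inf_relIndex_right]
  rw [← hβ, ← hι] at h1
  have hn' : ¬ R' ≤ centralizer (V : Set G) := by
    intro h
    have h0 := relIndex_eq_one.2 h
    rw [e1] at h0
    rw [h0, one_pow] at h1
    exact absurd h1 (not_lt.2 (Nat.one_le_pow _ _ hβ1))
  have h2 := (hP R' (hR'Q.trans hQU) (elemMod_of_elab (elab_map _ hV) V) hn').1
  rw [e1, e2] at h2
  have hι1 : 1 ≤ ι := idx_pos _ _
  have h3 := Nat.mul_lt_mul_of_lt_of_lt h1 h2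
  rw [show β ^ 3 * ι ^ 3 = (β ^ 2 * ι ^ 2) * (β * ι) by ring,
    show ι ^ 2 * β ^ 2 = β ^ 2 * ι ^ 2 * 1 by ring] at h3
  have h4 : 1 ≤ β * ι := Nat.mul_pos hβ1 hι1
  have h5 := Nat.lt_of_mul_lt_mul_left h3
  omega

theorem elab_normalClosure {V : Subgroup G} (hV : Cfsg.IsElementaryAbelian 2 V)
    (hc : ∀ g : G, V.map (MulAut.conj g).toMonoidHom ≤ centralizer (V : Set G)) :
    Cfsg.IsElementaryAbelian 2 (normalClosure (V : Set G)) := by
  set Y := normalClosure (V : Set G)
  have hle : Y ≤ centralizer (Y : Set G) := by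
    refine normalClosure_le_normal fun v hv => ?_
    have hle : Y ≤ centralizer ({v} : Set G) := by
      show closure (Group.conjugatesOfSet (V : Set G)) ≤ _
      rw [closure_le]
      intro y hy
      obtain ⟨w, hw, hy'⟩ := Group.mem_conjugatesOfSet_iff.1 hy
      obtain ⟨g, rfl⟩ := isConj_iff.1 hy'
      refine mem_centralizer_singleton_iff.2 ?_
      exact (mem_centralizer_iff.1 (hc g ⟨w, hw, rfl⟩) v hv).symm
    exact mem_centralizer_iff.2 fun y hy => mem_centralizer_singleton_iff.1 (hle hy)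
  refine ⟨le_centralizer_iff_isMulCommutative.1 hle, fun y hy => ?_⟩
  have hy' : y ∈ closure (Group.conjugatesOfSet (V : Set G)) := hy
  refine (closure_induction (p := fun y _ => y ∈ Y ∧ y ^ 2 = 1) ?_ ⟨one_mem _, one_pow 2⟩ ?_ ?_ hy').2
  · intro y hy
    refine ⟨subset_closure hy, ?_⟩
    obtain ⟨w, hw, hy'⟩ := Group.mem_conjugatesOfSet_iff.1 hy
    obtain ⟨g, rfl⟩ := isConj_iff.1 hy'
    rw [conj_pow, hV.2 w hw, mul_one, mul_inv_cancel]
  · rintro a b _ _ ⟨ha, ha2⟩ ⟨hb, hb2⟩
    refine ⟨Y.mul_mem ha hb, ?_⟩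
    rw [(show Commute a b from (mem_centralizer_iff.1 (hle ha) b hb).symm).mul_pow, ha2, hb2,
      one_mul]
  · rintro a _ ⟨ha, ha2⟩
    exact ⟨Y.inv_mem ha, by rw [inv_pow, ha2, inv_one]⟩

/-- The Thompson subgroup centralizes the normal closure. -/
theorem thompson_le_centralizer_closure (h3 : ¬ CfsgLib.ZJ.Inverts 3 G) (U : Sylow 2 G)
    {V : Subgroup G} (hUV : (U : Subgroup G) ≤ normalizer (V : Set G))
    (hP : PProp (U : Subgroup G) V) (hY : Cfsg.IsElementaryAbelian 2 (normalClosure (V : Set G)))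
    (hYU : normalClosure (V : Set G) ≤ (U : Subgroup G)) :
    Cfsg.thompsonSubgroupOf 2 (U : Subgroup G) ≤
      centralizer (normalClosure (V : Set G) : Set G) := by
  classical
  set Y := normalClosure (V : Set G) with hYdef
  have hVY : V ≤ Y := subset_normalClosure
  haveI : Y.Normal := normalClosure_normal
  obtain ⟨M, iM, iF, act, e, hadd, hact⟩ := exists_hom_module (MonoidHom.id G) Y hY.1
    (by rw [normalizer_eq_top (H := Y)]; exact le_top)
  letI := iM
  letI := act
  have hact' : ∀ (g : G) (x : M), (e (g • x) : G) = g * (e x : G) * g⁻¹ := hact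
  have he0 : e 0 = 1 := by
    have h1 := hadd 0 0
    rw [add_zero] at h1
    exact left_eq_mul.1 h1
  have hexp : ∀ v : M, 2 • v = 0 := fun v => e.injective (Subtype.ext (by
    rw [two_nsmul, hadd, he0, Subgroup.coe_mul, OneMemClass.coe_one, ← pow_two]
    exact hY.2 _ (e v).2))
  let sub : Subgroup G → AddSubgroup M := fun X =>
    { carrier := {v | (e v : G) ∈ X}
      zero_mem' := by
        show (e 0 : G) ∈ X
        rw [he0]; exact one_mem _
      add_mem' := fun {a b} ha hb => by
        show (e (a + b) : G) ∈ X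
        rw [hadd]; exact mul_mem ha hb
      neg_mem' := fun {a} ha => by
        show (e (-a) : G) ∈ X
        rwa [neg_eq_of_add_eq_zero_left (show a + a = 0 by rw [← two_nsmul]; exact hexp a)] }
  have hcard : ∀ X : Subgroup G, X ≤ Y → Nat.card (sub X) = Nat.card X := fun X hX =>
    Nat.card_congr
      { toFun := fun v => ⟨e v.1, v.2⟩
        invFun := fun x => ⟨e.symm ⟨x, hX x.2⟩, by
          show (e (e.symm ⟨x, hX x.2⟩) : G) ∈ X
          rw [Equiv.apply_symm_apply]; exact x.2⟩
        left_inv := fun v => Subtype.ext (by simp)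
        right_inv := fun x => Subtype.ext (by simp) }
  have hptw : ∀ X : Subgroup G, X ≤ Y → ptw G (sub X) = centralizer (X : Set G) := by
    intro X hX
    ext g
    constructor
    · intro hg
      refine mem_centralizer_iff.2 fun x hx => ?_
      have h : (e (g • e.symm ⟨x, hX hx⟩) : G) = e (e.symm ⟨x, hX hx⟩) := by
        rw [hg (e.symm ⟨x, hX hx⟩) (by
          show (e (e.symm ⟨x, hX hx⟩) : G) ∈ X
          rw [Equiv.apply_symm_apply]; exact hx)]
      rw [hact', Equiv.apply_symm_apply] at h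
      exact (mul_inv_eq_iff_eq_mul.1 h).symm
    · intro hg v hv
      refine e.injective (Subtype.ext ?_)
      rw [hact', mul_inv_eq_iff_eq_mul]
      exact (mem_centralizer_iff.1 hg _ hv).symm
  have hfix : ∀ (X B : Subgroup G), X ≤ Y →
      (fix M B).relIndex (sub X) = idx X B := by
    intro X B hX
    have e1 : fix M B ⊓ sub X = sub (X ⊓ centralizer (B : Set G)) := by
      ext v
      constructor
      · rintro ⟨h1, h2⟩
        refine ⟨h2, mem_centralizer_iff.2 fun b hb => ?_⟩
        have h := congrArg (fun w => (e w : G)) (h1 b hb)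
        rw [hact'] at h
        exact mul_inv_eq_iff_eq_mul.1 h
      · rintro ⟨h1, h2⟩
        refine ⟨fun b hb => e.injective (Subtype.ext ?_), h1⟩
        rw [hact', mul_inv_eq_iff_eq_mul]
        exact mem_centralizer_iff.1 h2 b hb
    have c1 := card_mul_relIndex' (inf_le_right : fix M B ⊓ sub X ≤ sub X)
    rw [AddSubgroup.inf_relIndex_right, e1, hcard _ (inf_le_left.trans hX), hcard X hX,
      ← card_relIndex (inf_le_left : X ⊓ centralizer (B : Set G) ≤ X)] at c1
    exact Nat.eq_of_mul_eq_mul_left Nat.card_pos c1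
  have hgood : Good (U : Subgroup G) (sub V) := by
    intro B hB hE hn
    rw [hptw V hVY] at hn ⊢
    rw [hfix V B hVY]
    have hsq : ∀ b ∈ B, b * b ∈ centralizer (V : Set G) := fun b hb => by
      rw [← hptw V hVY]
      exact fun v hv => by rw [mul_smul]; exact hE b hb v hv
    have hmod : ElemMod V B := by
      refine ⟨commutator_le.2 fun a ha b hb => ?_, fun b hb => by rw [pow_two]; exact hsq b hb⟩
      rw [commutatorElement_def,
        show a * b * a⁻¹ * b⁻¹ = (a * a) * ((a⁻¹ * b) * (a⁻¹ * b)) * (b⁻¹ * b⁻¹) by group]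
      exact mul_mem (mul_mem (hsq a ha) (hsq _ (B.mul_mem (B.inv_mem ha) hb)))
        (hsq _ (B.inv_mem hb))
    have h := (hP B hB hmod hn).1
    by_contra hle
    push Not at hle
    have h1 : 1 ≤ (centralizer (V : Set G)).relIndex B :=
      Nat.one_le_iff_ne_zero.2 index_ne_zero_of_finite
    exact absurd h (not_lt.2 ((Nat.pow_le_pow_left hle 2).trans
      (Nat.pow_le_pow_right h1 (by norm_num))))
  have hinv : Inv (U : Subgroup G) (sub V) := fun t ht v hv => by
    show (e (t • v) : G) ∈ V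
    rw [hact']
    exact (mem_normalizer_iff.1 (hUV ht) _).1 hv
  have hbig := good_genIn hexp h3 U (Y := sub V) hinv hgood
  have hgen : genIn (⊤ : Subgroup G) (sub V) = ⊤ := by
    set W := genIn (⊤ : Subgroup G) (sub V)
    let W' : Subgroup G :=
      { carrier := {y | ∃ v ∈ W, (e v : G) = y}
        one_mem' := ⟨0, W.zero_mem, by rw [he0]; rfl⟩
        mul_mem' := by
          rintro _ _ ⟨a, ha, rfl⟩ ⟨b, hb, rfl⟩
          exact ⟨a + b, W.add_mem ha hb, by rw [hadd]; rfl⟩
        inv_mem' := by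
          rintro _ ⟨a, ha, rfl⟩
          refine ⟨-a, W.neg_mem ha, ?_⟩
          rw [← InvMemClass.coe_inv]
          congr 1
          refine eq_inv_of_mul_eq_one_left ?_
          rw [← hadd, neg_add_cancel, he0] }
    have hle : Y ≤ W' := by
      show closure (Group.conjugatesOfSet (V : Set G)) ≤ W'
      rw [closure_le]
      intro y hy
      obtain ⟨z, hz, hy'⟩ := Group.mem_conjugatesOfSet_iff.1 hy
      obtain ⟨g, rfl⟩ := isConj_iff.1 hy'
      set v := e.symm ⟨z, hVY hz⟩ with hv
      have hev : (e v : G) = z := by rw [hv, Equiv.apply_symm_apply]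
      exact ⟨g • v, img_le_genIn (sub V) (mem_top g) (smul_mem_img (show (e v : G) ∈ V from hev ▸ hz)),
        by rw [hact', hev]⟩
    refine eq_top_iff.2 fun v _ => ?_
    obtain ⟨w, hw, he'⟩ := hle (e v).2
    rwa [← e.injective (Subtype.ext he')]
  rw [hgen] at hbig
  have htop : (⊤ : AddSubgroup M) = sub Y := by
    ext v
    exact ⟨fun _ => (e v).2, fun _ => trivial⟩
  rw [thompsonSubgroupOf_eq]
  refine sSup_le fun E hE => ?_
  by_contra hn
  have h := hbig E hE.1 (fun b hb v _ => by
    rw [smul_smul, ← pow_two, hE.2.1.2 b hb, one_smul]) (by rw [htop, hptw Y le_rfl]; exact hn)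
  rw [htop, hptw Y le_rfl, hfix Y E le_rfl] at h
  exact absurd h (not_lt.2 (idx_le_of_maxIn hYU hY hE))

/-- The factorization through an E-subgroup of a Sylow subgroup. -/
theorem exists_e_factor (n : ℕ) : ∀ {G : Type u} [Group G] [Finite G], Nat.card G = n →
    centralizer (Cfsg.pCore 2 G : Set G) ≤ Cfsg.pCore 2 G →
    ¬ Cfsg.Involves (Equiv.Perm (Fin 4)) G → KAll G → ∀ U : Sylow 2 G,
    ∃ U' ≤ (U : Subgroup G), IsE U' ∧ Cfsg.thompsonSubgroupOf 2 (U : Subgroup G) ≤ U' ∧
      ∀ g : G, ∃ c ∈ centralizer ((U' ⊓ centralizer (U' : Set G) : Subgroup G) : Set G),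
        ∃ m ∈ normalizer (Cfsg.thompsonSubgroupOf 2 (U : Subgroup G) : Set G), g = c * m := by
  induction n using Nat.strong_induction_on with | _ n ih => ?_
  intro G _ _ hn hchar hfree hK U
  haveI : Fact (Nat.Prime 2) := ⟨Nat.prime_two⟩
  have h3 := not_inverts_of_free hchar hfree
  by_cases hE : IsE (U : Subgroup G)
  · exact ⟨U, le_rfl, hE, thompsonSubgroupOf_le _, fun g => center_thompson_factor hchar hfree U g⟩
  simp only [IsE, not_forall] at hE
  obtain ⟨V, hVU, hUV, hV, hP, hnc⟩ := hE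
  have hVQ := le_core_of_pprop hchar h3 hK U V hVU hUV hV hP
  set Q := Cfsg.pCore 2 G with hQdef
  haveI : Q.Normal := CfsgLib.Solvable.pCore_normal 2
  have hQU : Q ≤ (U : Subgroup G) := CfsgLib.Fitting.pCore_le_sylow U
  set Y := normalClosure (V : Set G) with hYdef
  have hYQ : Y ≤ Q := normalClosure_le_normal hVQ
  have hY := elab_normalClosure hV fun g => conj_le_centralizer Q hQU hVQ hV hP g
  have hJ := thompson_le_centralizer_closure h3 U hUV hP hY (hYQ.trans hQU)
  set C := centralizer (Y : Set G) with hC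
  haveI : Y.Normal := normalClosure_normal
  haveI hCn : C.Normal := inferInstance
  have hCtop : C ≠ ⊤ := fun h => hnc (fun v hv => mem_centralizer_iff.2 fun u _ => by
    have := mem_centralizer_iff.1 (h.ge (mem_top u) : u ∈ C) v (subset_normalClosure hv)
    exact this.symm)
  set P := (U : Subgroup G) ⊓ C with hPdef
  have hidx : ¬ 2 ∣ (P.subgroupOf C).index := by
    change ¬ 2 ∣ P.relIndex C
    rw [inf_relIndex_right]
    exact fun hd => U.not_dvd_index
      (hd.trans (CfsgLib.PLocalCore.relIndex_dvd_index_of_normal_right (U : Subgroup G) C))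
  have hpg : IsPGroup 2 (P.subgroupOf C) := (U.2.to_le inf_le_left).comap_subtype
  set U₁ := hpg.toSylow hidx
  have hU₁ : (U₁ : Subgroup C).map C.subtype = P := by
    rw [show (U₁ : Subgroup C) = P.subgroupOf C from rfl, subgroupOf_map_subtype,
      inf_eq_left.2 inf_le_right]
  obtain ⟨U', hU'le, hU'E, hU'J, hfac⟩ := ih _ (hn ▸ CfsgLib.Solvable.card_lt_of_ne_top hCtop)
    (G := C) rfl (CfsgLib.CharP.hasCharP_of_normal (p := 2) hchar)
    (fun h => hfree (CfsgLib.ZJ.involves_of_subgroup C h)) (kAll_subgroup hK C) U₁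
  have hJP : Cfsg.thompsonSubgroupOf 2 P = Cfsg.thompsonSubgroupOf 2 (U : Subgroup G) :=
    thompsonSubgroupOf_eq_of_between inf_le_left (le_inf (thompsonSubgroupOf_le _) hJ)
  have hJmap : (Cfsg.thompsonSubgroupOf 2 (U₁ : Subgroup C)).map C.subtype =
      Cfsg.thompsonSubgroupOf 2 (U : Subgroup G) := by
    rw [← thompsonSubgroupOf_map C.subtype C.subtype_injective, hU₁, hJP]
  refine ⟨U'.map C.subtype, ((map_mono hU'le).trans hU₁.le).trans inf_le_left,
    (isE_map_iff C.subtype C.subtype_injective U').2 hU'E, hJmap ▸ map_mono hU'J, fun g => ?_⟩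
  have h1 := Sylow.normalizer_sup_eq_top U₁
  rw [hU₁] at h1
  obtain ⟨k, hk, m, hm, rfl⟩ := mem_sup_of_normal_left.1
    (show g ∈ C ⊔ normalizer (P : Set G) by rw [sup_comm, h1]; exact mem_top g)
  obtain ⟨c, hc, m', hm', he⟩ := hfac ⟨k, hk⟩
  refine ⟨(c : G), mem_centralizer_iff.2 ?_, (m' : G) * m, mul_mem ?_ ?_, ?_⟩
  · rintro z ⟨⟨z', hz', rfl⟩, hz2⟩
    refine congrArg Subtype.val (mem_centralizer_iff.1 hc z' ⟨hz', mem_centralizer_iff.2 fun a ha =>
      Subtype.ext (mem_centralizer_iff.1 hz2 a (mem_map_of_mem C.subtype ha))⟩)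
  · have h := le_normalizer_map C.subtype (mem_map_of_mem C.subtype hm')
    rwa [hJmap] at h
  · rw [← hJP]
    exact normalizer_le_normalizer_thompsonSubgroupOf _ hm
  · rw [← mul_assoc]
    congr 1
    exact congrArg Subtype.val he

end CfsgLib.SThreeFree.K
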